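import Cfsg.Agent.Lib.Timmesfeld.Basic
import Mathlib.GroupTheory.GroupAction.MultipleTransitivity

/-!
# Normal subgroups of rank one groups, and rank one groups from doubly transitive actions
-/

set_option autoImplicit false

namespace Cfsg.Agent.Timmesfeld

variable {X : Type*} [Group X] {A B : Subgroup X}

theorem center_fixes {z : X} (hz : z ∈ Subgroup.center X) (C : Subgroup X) : Cfsg.conjBy C z = C :=
  conjBy_of_centralizes fun x _ => (Subgroup.mem_center_iff.1 hz x).symm

/-- A normal subgroup moving a unipotent subgroup generates the group together with `A`. -/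
theorem normal_cases (h : Cfsg.IsRankOneGroup X A B) (N : Subgroup X) (hN : N.Normal) :
    N ⊔ A = ⊤ ∨ N ≤ Subgroup.center X := by
  by_cases hfix : ∀ n ∈ N, ∀ C ∈ Cfsg.unipotentSubgroups A B, Cfsg.conjBy C n = C
  · refine Or.inr fun n hn => Subgroup.mem_center_iff.2 fun x => ?_
    exact (commute_of_fix h.2 (hfix n hn) x (h.1 ▸ Subgroup.mem_top x)).symm
  · push Not at hfix
    obtain ⟨n, hn, C, hC, hne⟩ := hfix
    left
    have hn' : n ∈ A ⊔ B := h.1 ▸ Subgroup.mem_top n
    obtain ⟨x, hx, hx1, hx2⟩ := exists_conj_pair h.2 hC (conj_mem hC hn') (mem_left h.2) (mem_right h.2)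
      (Ne.symm hne) h.2.ne
    have hm : Cfsg.conjBy A (x * n * x⁻¹) = B := by
      rw [← hx1, conjBy_conjBy, inv_mul_cancel_right, ← conjBy_conjBy, hx2]
    rw [eq_top_iff, ← h.1]
    refine sup_le le_sup_right fun b hb => ?_
    have hb' := mem_conjBy.1 (hm.symm ▸ hb)
    have hxn : x * n * x⁻¹ ∈ N ⊔ A := Subgroup.mem_sup_left (hN.conj_mem n hn x)
    have := mul_mem (mul_mem hxn (Subgroup.mem_sup_right hb')) (inv_mem hxn)
    rwa [show x * n * x⁻¹ * ((x * n * x⁻¹)⁻¹ * b * (x * n * x⁻¹)) * (x * n * x⁻¹)⁻¹ = b by group] at this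

theorem commutator_ne_bot (h : Cfsg.IsRankOneGroup X A B) : Subgroup.center X ≠ ⊤ := fun hc =>
  right_not_central h.2 fun a _ b _ => Subgroup.mem_center_iff.1 (hc ▸ Subgroup.mem_top b) a

theorem quasisimple (h : Cfsg.IsRankOneGroup X A B) (hp : Group.IsPerfect X) : Cfsg.IsQuasisimple X := by
  have := hp
  refine ⟨hp, ?_⟩
  have hnt : Nontrivial (X ⧸ Subgroup.center X) := by
    rw [← not_subsingleton_iff_nontrivial]
    intro hs
    refine commutator_ne_bot h (eq_top_iff.2 fun x _ => ?_)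
    exact (QuotientGroup.eq_one_iff x).1 (Subsingleton.elim _ _)
  refine { eq_bot_or_eq_top_of_normal := fun M hM => ?_ }
  set π := QuotientGroup.mk' (Subgroup.center X)
  have hN : (M.comap π).Normal := hM.comap π
  rcases normal_cases h _ hN with hA | hle
  · right
    have hker : M.comap π = ⊤ := by
      have := h.2.nilpotent_left
      have hnil : Group.IsNilpotent (X ⧸ M.comap π) := by
        refine Group.nilpotent_of_surjective ((QuotientGroup.mk' (M.comap π)).comp A.subtype) fun q => ?_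
        obtain ⟨x, rfl⟩ := QuotientGroup.mk'_surjective _ q
        have hx : x ∈ M.comap π ⊔ A := hA.symm ▸ Subgroup.mem_top x
        obtain ⟨n, hn, a, ha, rfl⟩ := Subgroup.mem_sup_of_normal_left.1 hx
        refine ⟨⟨a, ha⟩, ?_⟩
        show QuotientGroup.mk' (M.comap π) a = QuotientGroup.mk' (M.comap π) (n * a)
        rw [map_mul, show QuotientGroup.mk' (M.comap π) n = 1 from (QuotientGroup.eq_one_iff n).2 hn, one_mul]
      have hsub : Subsingleton (X ⧸ M.comap π) := by
        by_contra hs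
        rw [not_subsingleton_iff_nontrivial] at hs
        exact Group.IsPerfect.not_isNilpotent (X ⧸ M.comap π) hnil
      exact eq_top_iff.2 fun x _ => (QuotientGroup.eq_one_iff x).1 (Subsingleton.elim _ _)
    rw [← Subgroup.map_comap_eq_self_of_surjective (QuotientGroup.mk'_surjective _) M, hker,
      Subgroup.map_top_of_surjective _ (QuotientGroup.mk'_surjective _)]
  · left
    rw [← Subgroup.map_comap_eq_self_of_surjective (QuotientGroup.mk'_surjective _) M, Subgroup.map_eq_bot_iff,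
      QuotientGroup.ker_mk']
    exact hle

theorem second_centre (h : Cfsg.IsRankOneGroup X A B) :
    Subgroup.upperCentralSeries X 2 = Subgroup.center X := by
  refine le_antisymm (fun g hg => ?_) (by
    rw [← Subgroup.upperCentralSeries_one (G := X)]; exact Subgroup.upperCentralSeries_mono X (by norm_num))
  rw [Subgroup.mem_upperCentralSeries_succ_iff, Subgroup.upperCentralSeries_one] at hg
  rw [Subgroup.mem_center_iff]
  intro x
  refine (commute_of_fix h.2 (k := g) ?_ x (h.1 ▸ Subgroup.mem_top x)).symm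
  rintro C ⟨y, hy, rfl⟩
  -- `g` conjugates every element into a central translate of itself
  have hA : Cfsg.conjBy A g = A := by
    by_contra hne
    rcases (mem_iff h.2).1 (conj_mem (mem_left h.2) (h.1 ▸ Subgroup.mem_top g : g ∈ A ⊔ B)) with e | ⟨a, ha, e⟩
    · exact hne e
    obtain ⟨c, hc, hc1⟩ := exists_ne_one (ne_bot_left h.2)
    have h1 : g * c * g⁻¹ ∈ Cfsg.conjBy A g := mem_conjBy.2 (by simpa [mul_assoc] using hc)
    have hfix : Cfsg.conjBy (Cfsg.conjBy A g) c = Cfsg.conjBy A g := by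
      conv_lhs => rw [show c = (g * c * g⁻¹ * c⁻¹)⁻¹ * (g * c * g⁻¹) by group, ← conjBy_conjBy,
        conjBy_self h1, center_fixes (inv_mem (show g * c * g⁻¹ * c⁻¹ ∈ Subgroup.center X from hg c))]
    exact hne (eq_left_of_fixed h.2 hc hc1 (conj_mem (mem_left h.2) (h.1 ▸ Subgroup.mem_top g)) hfix)
  have hz := hg y
  rw [conjBy_conjBy, show g * y = (g * y * g⁻¹ * y⁻¹) * (y * g) by group, ← conjBy_conjBy,
    ← conjBy_conjBy A g y, hA, center_fixes (show g * y * g⁻¹ * y⁻¹ ∈ Subgroup.center X from hz)]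

theorem not_nilpotent (h : Cfsg.IsRankOneGroup X A B) : ¬ Group.IsNilpotent X := by
  intro hn
  obtain ⟨n, hn⟩ := hn.nilpotent'
  have : ∀ m, Subgroup.upperCentralSeries X m ≤ Subgroup.center X := by
    intro m
    induction m with
    | zero => simp
    | succ m ih =>
      intro g hg
      rw [← second_centre h, Subgroup.mem_upperCentralSeries_succ_iff, Subgroup.upperCentralSeries_one]
      rw [Subgroup.mem_upperCentralSeries_succ_iff] at hg
      exact fun y => ih (hg y)
  exact commutator_ne_bot h (top_le_iff.1 (hn ▸ this n))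

/-- A doubly transitive group with a nilpotent normal regular subgroup of a point stabiliser. -/
theorem pair_of_action {Y Ω : Type*} [Group Y] [MulAction Y Ω]
    (h2 : MulAction.IsMultiplyPretransitive Y Ω 2) (hΩ : 3 ≤ ENat.card Ω) (α : Ω) (A : Subgroup Y)
    (hA : A ≤ MulAction.stabilizer Y α) (hAn : ∀ y ∈ MulAction.stabilizer Y α, Cfsg.conjBy A y = A)
    (hnil : Group.IsNilpotent A) (hreg : ∀ β γ : Ω, β ≠ α → γ ≠ α → ∃! a : Y, a ∈ A ∧ a • β = γ)
    (y : Y) (hy : y ∉ MulAction.stabilizer Y α) :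
    Cfsg.IsRankOnePair A (Cfsg.conjBy A y) ∧
      Subgroup.normalClosure (A : Set Y) = A ⊔ Cfsg.conjBy A y := by
  set β := y • α with hβ
  have hβα : β ≠ α := hy
  have hpt : ∀ g g' : Y, g • α = g' • α → Cfsg.conjBy A g = Cfsg.conjBy A g' := by
    intro g g' e
    conv_lhs => rw [show g = g' * (g'⁻¹ * g) by group, ← conjBy_conjBy]
    rw [hAn _ (by rw [MulAction.mem_stabilizer_iff, mul_smul, e, inv_smul_smul])]
  have hfree : ∀ a ∈ A, ∀ γ, γ ≠ α → a • γ = γ → a = 1 := fun a ha γ hγ e =>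
    (hreg γ γ hγ hγ).unique ⟨ha, e⟩ ⟨one_mem _, one_smul _ _⟩
  have hBfix : ∀ b ∈ Cfsg.conjBy A y, b • β = β := fun b hb => by
    have h1 : (y⁻¹ * b * y) • α = α := hA (mem_conjBy.1 hb)
    rw [mul_smul, mul_smul, inv_smul_eq_iff] at h1
    exact h1
  have hne : A ≠ Cfsg.conjBy A y := by
    intro e
    obtain ⟨γ, hγα, hγβ⟩ : ∃ γ, γ ≠ α ∧ γ ≠ β := by
      by_contra hno
      push Not at hno
      have hle : ENat.card Ω ≤ 2 := by
        rw [← Set.encard_univ]
        have : (Set.univ : Set Ω) ⊆ {α, β} := fun γ _ => by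
          by_cases hγ : γ = α
          · exact Or.inl hγ
          · exact Or.inr (hno γ hγ)
        exact (Set.encard_le_encard this).trans ((Set.encard_insert_le _ _).trans (by rw [Set.encard_singleton]; norm_num))
      exact absurd (hΩ.trans hle) (by norm_num)
    obtain ⟨a, ⟨ha, hae⟩, -⟩ := hreg β γ hβα hγα
    exact hγβ (by rw [← hae, hBfix a (e ▸ ha)])
  -- the two conjugation conditions
  have hcond : Cfsg.RankOneCondition A (Cfsg.conjBy A y) := by
    intro a ha ha1
    have hne' : a⁻¹ • β ≠ β := fun e => ha1 (inv_eq_one.1 (hfree _ (inv_mem ha) β hβα e))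
    obtain ⟨c, ⟨hc, hce⟩, -⟩ := hreg (y⁻¹ • α) (y⁻¹ • (a⁻¹ • β))
      (fun e => hy (by rw [MulAction.mem_stabilizer_iff]; exact (inv_smul_eq_iff.1 e).symm))
      (fun e => hne' (inv_smul_eq_iff.1 e))
    refine ⟨(y * c * y⁻¹)⁻¹, inv_mem (mem_conjBy.2 (by simpa [mul_assoc] using hc)), fun e => ?_, ?_⟩
    · rw [inv_eq_one, conj_eq_one_iff] at e
      rw [e, one_smul] at hce
      have h3 := MulAction.injective y⁻¹ hce
      exact hβα (by rw [← smul_inv_smul a β, ← h3, hA ha])
    · rw [inv_inv, conjBy_conjBy]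
      exact hpt _ _ (by rw [mul_smul, mul_smul, hce, smul_inv_smul, mul_smul])
  have hcond' : Cfsg.RankOneCondition (Cfsg.conjBy A y) A := by
    intro b hb hb1
    have hne' : b⁻¹ • α ≠ α := fun e => hb1 (by
      have h1 := hfree (y⁻¹ * b⁻¹ * y) (mem_conjBy.1 (inv_mem hb)) (y⁻¹ • α)
        (fun e' => hy (by rw [MulAction.mem_stabilizer_iff]; exact (inv_smul_eq_iff.1 e').symm))
        (by rw [mul_smul, mul_smul, smul_inv_smul, e])
      rw [show b = y * (y⁻¹ * b⁻¹ * y)⁻¹ * y⁻¹ by group, h1]; group)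
    obtain ⟨c, ⟨hc, hce⟩, -⟩ := hreg β (b⁻¹ • α) hβα hne'
    refine ⟨c⁻¹, inv_mem hc, fun e => ?_, ?_⟩
    · rw [inv_eq_one] at e
      rw [e, one_smul] at hce
      have := hBfix _ hb
      rw [hce] at this
      rw [smul_inv_smul] at this
      exact hβα (hce.trans this.symm).symm.symm
    · rw [inv_inv, conjBy_conjBy]
      exact hpt _ _ (by rw [mul_smul, ← hce])
  have : Group.IsNilpotent ↥(Cfsg.conjBy A y) :=
    Group.nilpotent_of_mulEquiv (A.equivMapOfInjective (MulAut.conj y).toMonoidHom (MulEquiv.injective _))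
  refine ⟨⟨hne, hnil, this, hcond, hcond'⟩, le_antisymm ?_ (sup_le Subgroup.le_normalClosure fun b hb => ?_)⟩
  · rw [Subgroup.normalClosure, Subgroup.closure_le]
    intro x hx
    rw [Group.mem_conjugatesOfSet_iff] at hx
    obtain ⟨a, ha, hc⟩ := hx
    obtain ⟨g, rfl⟩ := isConj_iff.1 hc
    have hx : g * a * g⁻¹ ∈ Cfsg.conjBy A g := mem_conjBy.2 (by simpa [mul_assoc] using ha)
    by_cases hg : g • α = α
    · rw [hpt g 1 (by rw [hg, one_smul]), conjBy_one] at hx
      exact Subgroup.mem_sup_left hx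
    · obtain ⟨c, ⟨hc, hce⟩, -⟩ := hreg β (g • α) hβα hg
      rw [hpt g (c * y) (by rw [mul_smul, hce]), ← conjBy_conjBy] at hx
      have h1 := mem_conjBy.1 hx
      have h2 := mul_mem (mul_mem (Subgroup.mem_sup_left (T := Cfsg.conjBy A y) hc) (Subgroup.mem_sup_right h1))
        (inv_mem (Subgroup.mem_sup_left (T := Cfsg.conjBy A y) hc))
      rwa [show c * (c⁻¹ * (g * a * g⁻¹) * c) * c⁻¹ = g * a * g⁻¹ by group] at h2
  · have h1 : y⁻¹ * b * y ∈ Subgroup.normalClosure (A : Set Y) := Subgroup.le_normalClosure (mem_conjBy.1 hb)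
    have := (Subgroup.normalClosure_normal (s := (A : Set Y))).conj_mem _ h1 y
    rwa [show y * (y⁻¹ * b * y) * y⁻¹ = b by group] at this

end Cfsg.Agent.Timmesfeld
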