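import Cfsg.Agent.Lib.Timmesfeld.SL2
import Cfsg.Agent.Lib.Timmesfeld.Group
import Mathlib.NumberTheory.LegendreSymbol.QuadraticChar.Basic
import Mathlib.RingTheory.IntegralDomain

/-!
# A homomorphism from `SL₂(𝔽_p)` from two one-parameter subgroups with braid relations
-/

set_option autoImplicit false

namespace Cfsg.Agent.Timmesfeld

variable {p : ℕ} [Fact p.Prime] {G : Type*} [Group G]

/-- Two one-parameter subgroups with the braid relations. -/
structure Braided (p : ℕ) (G : Type*) [Group G] where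
  x : ZMod p → G
  y : ZMod p → G
  x_add : ∀ s t, x (s + t) = x s * x t
  y_add : ∀ s t, y (s + t) = y s * y t
  braid : ∀ t, t ≠ 0 → x t * y (-t⁻¹) * x t = y (-t⁻¹) * x t * y (-t⁻¹)

namespace Braided

variable (R : Braided p G)

/-- The Weyl elements. -/
def w (t : ZMod p) : G := R.x t * R.y (-t⁻¹) * R.x t

/-- The torus elements. -/
def h (t : ZMod p) : G := R.w t * (R.w 1)⁻¹

theorem x_zero : R.x 0 = 1 := by have := R.x_add 0 0; rw [add_zero] at this; exact left_eq_mul.1 this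

theorem y_zero : R.y 0 = 1 := by have := R.y_add 0 0; rw [add_zero] at this; exact left_eq_mul.1 this

theorem x_neg (t : ZMod p) : R.x (-t) = (R.x t)⁻¹ :=
  eq_inv_of_mul_eq_one_left (by rw [← R.x_add, neg_add_cancel, x_zero])

theorem y_neg (t : ZMod p) : R.y (-t) = (R.y t)⁻¹ :=
  eq_inv_of_mul_eq_one_left (by rw [← R.y_add, neg_add_cancel, y_zero])

theorem x_nsmul (n : ℕ) (t : ZMod p) : R.x ((n : ZMod p) * t) = R.x t ^ n := by
  induction n with
  | zero => rw [Nat.cast_zero, zero_mul, x_zero, pow_zero]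
  | succ n ih => rw [Nat.cast_succ, add_mul, one_mul, R.x_add, ih, pow_succ]

theorem y_nsmul (n : ℕ) (t : ZMod p) : R.y ((n : ZMod p) * t) = R.y t ^ n := by
  induction n with
  | zero => rw [Nat.cast_zero, zero_mul, y_zero, pow_zero]
  | succ n ih => rw [Nat.cast_succ, add_mul, one_mul, R.y_add, ih, pow_succ]

theorem w_eq {t : ZMod p} (ht : t ≠ 0) : R.w t = R.y (-t⁻¹) * R.x t * R.y (-t⁻¹) := R.braid t ht

theorem w_x {t : ZMod p} (ht : t ≠ 0) (q : ZMod p) : R.w t * R.x q = R.y (-(q / t ^ 2)) * R.w t := by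
  have h1 : R.w t * R.x t * (R.w t)⁻¹ = R.y (-t⁻¹) := by
    rw [mul_inv_eq_iff_eq_mul]; conv_lhs => rw [R.w_eq ht]
    rw [w]; group
  obtain ⟨n, hn⟩ : ∃ n : ℕ, (n : ZMod p) = q / t := ⟨(q / t).val, ZMod.natCast_rightInverse _⟩
  rw [← mul_inv_eq_iff_eq_mul, show q = (n : ZMod p) * t by rw [hn, div_mul_cancel₀ _ ht], R.x_nsmul,
    ← conj_pow, h1, ← R.y_nsmul]
  congr 1; field_simp

theorem w_y {t : ZMod p} (ht : t ≠ 0) (u : ZMod p) : R.w t * R.y u = R.x (-(t ^ 2 * u)) * R.w t := by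
  have h1 : R.w t * R.y (-t⁻¹) * (R.w t)⁻¹ = R.x t := by
    rw [mul_inv_eq_iff_eq_mul]; conv_rhs => rw [R.w_eq ht]
    rw [w]; group
  obtain ⟨n, hn⟩ : ∃ n : ℕ, (n : ZMod p) = -(u * t) := ⟨(-(u * t)).val, ZMod.natCast_rightInverse _⟩
  rw [← mul_inv_eq_iff_eq_mul, show u = (n : ZMod p) * -t⁻¹ by rw [hn]; field_simp, R.y_nsmul,
    ← conj_pow, h1, ← R.x_nsmul]
  congr 1; rw [hn]; field_simp

theorem h_one : R.h 1 = 1 := mul_inv_cancel _

theorem w_neg (t : ZMod p) : R.w (-t) = (R.w t)⁻¹ := by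
  rw [w, w, inv_neg, x_neg, y_neg, mul_inv_rev, mul_inv_rev, ← mul_assoc]

theorem w_one_inv : (R.w 1)⁻¹ = R.w (-1) := (R.w_neg 1).symm

theorem h_x {t : ZMod p} (ht : t ≠ 0) (q : ZMod p) : R.h t * R.x q = R.x (t ^ 2 * q) * R.h t := by
  rw [h, w_one_inv, mul_assoc, R.w_x (neg_ne_zero.2 one_ne_zero), ← mul_assoc, R.w_y ht, ← mul_assoc]
  congr 3; ring

theorem h_y {t : ZMod p} (ht : t ≠ 0) (u : ZMod p) : R.h t * R.y u = R.y (u / t ^ 2) * R.h t := by
  rw [h, w_one_inv, mul_assoc, R.w_y (neg_ne_zero.2 one_ne_zero), ← mul_assoc, R.w_x ht, ← mul_assoc]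
  congr 3; ring

/-- The subgroup generated by the two one-parameter subgroups. -/
def K : Subgroup G := Subgroup.closure {R.x 1, R.y 1}

theorem x_mem (t : ZMod p) : R.x t ∈ R.K := by
  have h1 := R.x_nsmul t.val 1
  rw [mul_one, ZMod.natCast_rightInverse t] at h1
  rw [h1, K]
  refine pow_mem ?_ _
  exact Subgroup.subset_closure (Set.mem_insert _ _)

theorem y_mem (t : ZMod p) : R.y t ∈ R.K := by
  have h1 := R.y_nsmul t.val 1
  rw [mul_one, ZMod.natCast_rightInverse t] at h1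
  rw [h1, K]
  refine pow_mem ?_ _
  exact Subgroup.subset_closure (Set.mem_insert_of_mem _ (Set.mem_singleton _))

theorem w_mem (t : ZMod p) : R.w t ∈ R.K := mul_mem (mul_mem (R.x_mem _) (R.y_mem _)) (R.x_mem _)

theorem h_mem (t : ZMod p) : R.h t ∈ R.K := mul_mem (R.w_mem _) (inv_mem (R.w_mem _))

theorem central_of_fix {z : G} (h1 : z * R.x 1 = R.x 1 * z) (h2 : z * R.y 1 = R.y 1 * z) :
    ∀ k ∈ R.K, z * k = k * z := by
  intro k hk
  have : R.K ≤ Subgroup.centralizer {z} := by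
    rw [K, Subgroup.closure_le]
    rintro k (rfl | rfl) <;> rw [SetLike.mem_coe, Subgroup.mem_centralizer_singleton_iff]
    · exact h1.symm
    · exact h2.symm
  exact (Subgroup.mem_centralizer_singleton_iff.1 (this hk)).symm

/-- The symbol is central. -/
theorem symbol_central {t s : ZMod p} (ht : t ≠ 0) (hs : s ≠ 0) :
    ∃ z, (∀ k ∈ R.K, z * k = k * z) ∧ R.h t * R.h s = z * R.h (t * s) := by
  refine ⟨R.h t * R.h s * (R.h (t * s))⁻¹, R.central_of_fix ?_ ?_, by group⟩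
  · have e : (R.h (t * s))⁻¹ * R.x 1 = R.x (1 / (t * s) ^ 2) * (R.h (t * s))⁻¹ := by
      rw [inv_mul_eq_iff_eq_mul, ← mul_assoc, eq_mul_inv_iff_mul_eq, R.h_x (mul_ne_zero ht hs),
        mul_one_div_cancel (pow_ne_zero 2 (mul_ne_zero ht hs))]
    rw [mul_assoc, e, ← mul_assoc, mul_assoc (R.h t), R.h_x hs, ← mul_assoc, R.h_x ht]
    have : t ^ 2 * (s ^ 2 * (1 / (t * s) ^ 2)) = 1 := by field_simp
    rw [this]; group
  · have e : (R.h (t * s))⁻¹ * R.y 1 = R.y ((t * s) ^ 2) * (R.h (t * s))⁻¹ := by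
      rw [inv_mul_eq_iff_eq_mul, ← mul_assoc, eq_mul_inv_iff_mul_eq, R.h_y (mul_ne_zero ht hs),
        div_self (pow_ne_zero 2 (mul_ne_zero ht hs))]
    rw [mul_assoc, e, ← mul_assoc, mul_assoc (R.h t), R.h_y hs, ← mul_assoc, R.h_y ht]
    have : (t * s) ^ 2 / s ^ 2 / t ^ 2 = 1 := by field_simp
    rw [this]; group

theorem h_comm {t s : ZMod p} (ht : t ≠ 0) (hs : s ≠ 0) : R.h t * R.h s = R.h s * R.h t := by
  obtain ⟨g, hg⟩ := IsCyclic.exists_monoid_generator (α := (ZMod p)ˣ)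
  have key : ∀ i : ℕ, ∃ z, (∀ k ∈ R.K, z * k = k * z) ∧ R.h ((g : ZMod p) ^ i) = z * R.h g ^ i := by
    intro i
    induction i with
    | zero => exact ⟨1, fun k _ => by rw [one_mul, mul_one], by rw [pow_zero, pow_zero, h_one, one_mul]⟩
    | succ i ih =>
      obtain ⟨z, hz, he⟩ := ih
      obtain ⟨z', hz', he'⟩ := R.symbol_central (pow_ne_zero i g.ne_zero) g.ne_zero
      have hzi : ∀ k ∈ R.K, z'⁻¹ * k = k * z'⁻¹ := fun k hk => Commute.inv_left (hz' k hk)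
      refine ⟨z'⁻¹ * z, fun k hk => Commute.mul_left (hzi k hk) (hz k hk), ?_⟩
      rw [pow_succ, pow_succ, mul_assoc, ← mul_assoc z, ← he, he', inv_mul_cancel_left]
  obtain ⟨i, hi⟩ := Submonoid.mem_powers_iff _ _ |>.1 (hg (Units.mk0 t ht))
  obtain ⟨j, hj⟩ := Submonoid.mem_powers_iff _ _ |>.1 (hg (Units.mk0 s hs))
  obtain ⟨z, hz, he⟩ := key i
  obtain ⟨z', hz', he'⟩ := key j
  have hpi : (g : ZMod p) ^ i = t := by rw [← Units.val_pow_eq_pow_val, hi, Units.val_mk0]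
  have hpj : (g : ZMod p) ^ j = s := by rw [← Units.val_pow_eq_pow_val, hj, Units.val_mk0]
  rw [hpi] at he; rw [hpj] at he'
  have c1 : Commute (R.h t) (R.h g ^ j) := by
    rw [he]; exact (show Commute z (R.h g ^ j) from hz _ (pow_mem (R.h_mem _) _)).mul_left (Commute.pow_pow_self _ _ _)
  have c2 : Commute (R.h t) z' := (show Commute z' (R.h t) from hz' _ (R.h_mem _)).symm
  rw [he']; exact c2.mul_right c1

theorem w_one_h {t : ZMod p} (ht : t ≠ 0) : R.w 1 * R.h t = R.h t⁻¹ * R.w 1 := by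
  have e : R.w 1 * R.w t * (R.w 1)⁻¹ = R.w t⁻¹ := by
    rw [mul_inv_eq_iff_eq_mul, R.w_eq (inv_ne_zero ht)]
    conv_lhs => arg 2; rw [w]
    rw [← mul_assoc, ← mul_assoc, R.w_x one_ne_zero, mul_assoc _ (R.w 1), R.w_y one_ne_zero, ← mul_assoc,
      mul_assoc _ (R.w 1), R.w_x one_ne_zero, ← mul_assoc]
    simp
  rw [h, h, ← mul_assoc, e]; group

/-- `h(r² s) = h(r²) h(s)`. -/
theorem h_sq_mul {r s : ZMod p} (hr : r ≠ 0) (hs : s ≠ 0) : R.h (r ^ 2 * s) = R.h (r ^ 2) * R.h s := by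
  have e : ∀ u : ZMod p, u ≠ 0 → R.h r * R.w u = R.w (r ^ 2 * u) * R.h r := by
    intro u hu
    rw [w, w, ← mul_assoc, ← mul_assoc, R.h_x hr, mul_assoc _ (R.h r), R.h_y hr, ← mul_assoc,
      mul_assoc _ (R.h r), R.h_x hr, ← mul_assoc]
    congr 4; field_simp
  have hr2 : r ^ 2 ≠ 0 := pow_ne_zero 2 hr
  have e2 : R.h r * R.h s * (R.h r)⁻¹ = R.h (r ^ 2 * s) * (R.h (r ^ 2))⁻¹ := by
    have e1 := e 1 one_ne_zero
    rw [mul_one] at e1
    have : R.h r * (R.w 1)⁻¹ = (R.w (r ^ 2))⁻¹ * R.h r := by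
      rw [eq_inv_mul_iff_mul_eq, ← mul_assoc, ← e1]; group
    show R.h r * (R.w s * (R.w 1)⁻¹) * (R.h r)⁻¹ = R.w (r ^ 2 * s) * (R.w 1)⁻¹ * (R.w (r ^ 2) * (R.w 1)⁻¹)⁻¹
    rw [← mul_assoc, e s hs, mul_assoc _ (R.h r), this]; group
  rw [R.h_comm hr hs, mul_inv_cancel_right, eq_mul_inv_iff_mul_eq] at e2
  rw [← e2, R.h_comm hr2 hs]

theorem h_pair {t : ZMod p} (ht : t ≠ 0) (ht1 : t ≠ 1) : R.h t * R.h (1 - t) = R.h (t * (1 - t)) := by
  have hs : 1 - t ≠ 0 := sub_ne_zero.2 (Ne.symm ht1)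
  set s := 1 - t with hsdef
  have hts : t * s ≠ 0 := mul_ne_zero ht hs
  have hyt : ∀ u : ZMod p, u ≠ 0 → R.y (-u⁻¹) = R.x (-u) * R.w u * R.x (-u) := fun u _ => by
    rw [w, x_neg]; group
  have h1 : R.y (-t⁻¹) * R.y (-s⁻¹) = R.y (-(t * s)⁻¹) := by
    rw [← R.y_add]; congr 1; rw [hsdef]; field_simp; ring
  rw [hyt t ht, hyt s hs, hyt _ hts] at h1
  have hx1 : R.x (-t) * R.x (-s) = R.y (-1) * (R.w 1)⁻¹ * R.y (-1) := by
    rw [← R.x_add, show -t + -s = (-1 : ZMod p) by rw [hsdef]; ring, R.w_eq one_ne_zero, inv_one,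
      x_neg, y_neg]
    group
  have e1 : R.x (-t) * (R.w t * (R.x (-t) * R.x (-s)) * R.w s) * R.x (-s) =
      R.x (-(t * s)) * R.w (t * s) * R.x (-(t * s)) := by rw [← h1]; group
  have e2 : R.y (-1) * R.w s = R.w s * R.x (s ^ 2) := by
    rw [R.w_x hs, div_self (pow_ne_zero 2 hs)]
  have e3 : R.w t * R.y (-1) = R.x (t ^ 2) * R.w t := by
    rw [R.w_y ht, mul_neg, mul_one, neg_neg]
  rw [hx1, show R.w t * (R.y (-1) * (R.w 1)⁻¹ * R.y (-1)) * R.w s =
      R.w t * R.y (-1) * (R.w 1)⁻¹ * (R.y (-1) * R.w s) by group, e2, e3] at e1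
  have e4 : R.x (t ^ 2 + -t) * (R.w t * (R.w 1)⁻¹ * R.w s) * R.x (s ^ 2 + -s) =
      R.x (-(t * s)) * R.w (t * s) * R.x (-(t * s)) := by
    rw [← e1, add_comm (t ^ 2), R.x_add, R.x_add]; group
  rw [show t ^ 2 + -t = -(t * s) by rw [hsdef]; ring, show s ^ 2 + -s = -(t * s) by rw [hsdef]; ring,
    mul_left_inj, mul_right_inj] at e4
  rw [h, h, h, ← e4]; group

theorem exists_nonsquare_pair {n : ZMod p} (hn : ¬ IsSquare n) :
    ∃ t : ZMod p, ¬ IsSquare t ∧ ¬ IsSquare (1 - t) := by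
  classical
  by_contra hno
  push Not at hno
  have hn0 : n ≠ 0 := fun e => hn (e ▸ IsSquare.zero)
  let S := (Finset.univ : Finset (ZMod p)).filter fun u => IsSquare u ∧ u ≠ 0
  let N := (Finset.univ : Finset (ZMod p)).filter fun u => ¬ IsSquare u
  have hle : S.card ≤ N.card := Finset.card_le_card_of_injOn (· * n)
    (fun u hu => by
      obtain ⟨⟨r, rfl⟩, hr0⟩ := (Finset.mem_filter.1 hu).2
      refine Finset.mem_filter.2 ⟨Finset.mem_univ _, fun ⟨q, hq⟩ => hn ⟨q / r, ?_⟩⟩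
      have hr : r ≠ 0 := (mul_ne_zero_iff.1 hr0).1
      simp only at hq
      field_simp
      linear_combination hq)
    (fun u _ v _ e => mul_right_cancel₀ hn0 e)
  have hmaps : Set.MapsTo (fun t : ZMod p => 1 - t) N S := fun t ht => by
    have ht' := (Finset.mem_filter.1 ht).2
    refine Finset.mem_filter.2 ⟨Finset.mem_univ _, hno t ht', fun e => ht' ?_⟩
    rw [← sub_eq_zero.1 e]; exact IsSquare.one
  have hinj : Set.InjOn (fun t : ZMod p => 1 - t) N := fun u _ v _ e => sub_right_injective e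
  obtain ⟨t, ht, hte⟩ := Finset.surjOn_of_injOn_of_card_le _ hmaps hinj hle
    (Finset.mem_filter.2 ⟨Finset.mem_univ _, IsSquare.one, one_ne_zero⟩ : (1 : ZMod p) ∈ S)
  exact (Finset.mem_filter.1 ht).2 (by rw [show t = 0 from sub_eq_self.1 hte]; exact IsSquare.zero)

theorem h_mul {t s : ZMod p} (ht : t ≠ 0) (hs : s ≠ 0) : R.h t * R.h s = R.h (t * s) := by
  by_cases hts : IsSquare t
  · obtain ⟨r, rfl⟩ := hts
    rw [← pow_two, R.h_sq_mul (mul_ne_zero_iff.1 ht).1 hs]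
  by_cases hss : IsSquare s
  · obtain ⟨r, rfl⟩ := hss
    rw [← pow_two, R.h_comm ht (pow_ne_zero 2 (mul_ne_zero_iff.1 hs).1), mul_comm t,
      R.h_sq_mul (mul_ne_zero_iff.1 hs).1 ht]
  obtain ⟨a, ha, hb⟩ := exists_nonsquare_pair hts
  have hp2 : ringChar (ZMod p) ≠ 2 := fun e => by
    refine hts (FiniteField.isSquare_of_char_two e t)
  have ha0 : a ≠ 0 := fun e => ha (e ▸ IsSquare.zero)
  have ha1 : a ≠ 1 := fun e => ha (e ▸ IsSquare.one)
  have hb0 : 1 - a ≠ 0 := sub_ne_zero.2 (Ne.symm ha1)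
  have hsq : ∀ {u v : ZMod p}, ¬ IsSquare u → ¬ IsSquare v → ∃ r, r ≠ 0 ∧ r ^ 2 * v = u := by
    intro u v hu hv
    have hv0 : v ≠ 0 := fun e => hv (e ▸ IsSquare.zero)
    have hu0 : u ≠ 0 := fun e => hu (e ▸ IsSquare.zero)
    have h1 := (quadraticChar_neg_one_iff_not_isSquare).2 hu
    have h2 := (quadraticChar_neg_one_iff_not_isSquare).2 hv
    obtain ⟨r, hr⟩ := (quadraticChar_one_iff_isSquare (a := u * v) (mul_ne_zero hu0 hv0)).1
      (by rw [map_mul, h1, h2]; norm_num)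
    exact ⟨r / v, div_ne_zero (fun e => mul_ne_zero hu0 hv0 (by rw [hr, e, mul_zero])) hv0,
      by field_simp; linear_combination -hr⟩
  obtain ⟨r, hr, rfl⟩ := hsq hts ha
  obtain ⟨q, hq, rfl⟩ := hsq hss hb
  have hr2 := pow_ne_zero 2 hr
  have hq2 := pow_ne_zero 2 hq
  rw [show r ^ 2 * a * (q ^ 2 * (1 - a)) = (r * q) ^ 2 * (a * (1 - a)) by ring,
    R.h_sq_mul (mul_ne_zero hr hq) (mul_ne_zero ha0 hb0), mul_pow, R.h_sq_mul hr hq2,
    R.h_sq_mul hr ha0, R.h_sq_mul hq hb0, ← R.h_pair ha0 ha1]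
  simp only [mul_assoc]
  rw [← mul_assoc (R.h a), R.h_comm ha0 hq2, mul_assoc]

theorem w_eq_h (t : ZMod p) : R.w t = R.h t * R.w 1 := by rw [h, inv_mul_cancel_right]

theorem h_inv {t : ZMod p} (ht : t ≠ 0) : (R.h t)⁻¹ = R.h t⁻¹ :=
  inv_eq_of_mul_eq_one_right (by rw [R.h_mul ht (inv_ne_zero ht), mul_inv_cancel₀ ht, h_one])

theorem w_w {t q : ZMod p} (ht : t ≠ 0) (hq : q ≠ 0) : R.w t * R.w q = R.h (-(t / q)) := by
  have : R.w t * R.w q = R.h t * (R.h (-q))⁻¹ := by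
    rw [h, h, w_neg, mul_inv_rev, inv_inv, inv_inv]; group
  rw [this, R.h_inv (neg_ne_zero.2 hq), R.h_mul ht (inv_ne_zero (neg_ne_zero.2 hq)), inv_neg, mul_neg,
    div_eq_mul_inv]

/-- The value on an element in Bruhat form. -/
def f (g : Matrix.SpecialLinearGroup (Fin 2) (ZMod p)) : G :=
  if g 1 0 = 0 then R.h (g 0 0) * R.x (g 0 1 / g 0 0)
  else R.x (g 0 0 / g 1 0) * R.w (-(g 1 0)⁻¹) * R.x (g 1 1 / g 1 0)

theorem det_eq (g : Matrix.SpecialLinearGroup (Fin 2) (ZMod p)) : g 0 0 * g 1 1 - g 0 1 * g 1 0 = 1 :=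
  (Matrix.det_fin_two _).symm.trans g.2

/-- The standard Weyl matrix. -/
def wMat : Matrix.SpecialLinearGroup (Fin 2) (ZMod p) := ⟨!![0, 1; -1, 0], by simp [Matrix.det_fin_two]⟩

@[simp] theorem wMat_coe : (wMat (p := p) : Matrix (Fin 2) (Fin 2) (ZMod p)) = !![0, 1; -1, 0] := rfl

theorem f_upper (q : ZMod p) : R.f (upperSL q) = R.x q := by
  simp [f, h_one]

theorem f_wMat : R.f wMat = R.w 1 := by
  simp [f, x_zero, inv_neg]

theorem f_mul_upper (g : Matrix.SpecialLinearGroup (Fin 2) (ZMod p)) (q : ZMod p) :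
    R.f (g * upperSL q) = R.f g * R.f (upperSL q) := by
  have hd := det_eq g
  have e10 : (g * upperSL q) 1 0 = g 1 0 := by simp [Matrix.mul_apply, Fin.sum_univ_two]
  have e00 : (g * upperSL q) 0 0 = g 0 0 := by simp [Matrix.mul_apply, Fin.sum_univ_two]
  have e01 : (g * upperSL q) 0 1 = g 0 0 * q + g 0 1 := by simp [Matrix.mul_apply, Fin.sum_univ_two]
  have e11 : (g * upperSL q) 1 1 = g 1 0 * q + g 1 1 := by simp [Matrix.mul_apply, Fin.sum_univ_two]
  rw [R.f_upper, f, f, e10, e00, e01, e11]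
  split_ifs with hc
  · have : g 0 0 ≠ 0 := fun e => by simp [hc, e] at hd
    rw [mul_assoc, ← R.x_add]; congr 2; field_simp; ring
  · rw [mul_assoc _ _ (R.x q), ← R.x_add]; congr 2; field_simp; ring

theorem f_mul_wMat (g : Matrix.SpecialLinearGroup (Fin 2) (ZMod p)) :
    R.f (g * wMat (p := p)) = R.f g * R.f wMat := by
  have hd := det_eq g
  have e10 : (g * wMat (p := p)) 1 0 = -g 1 1 := by simp [Matrix.mul_apply, Fin.sum_univ_two]
  have e00 : (g * wMat (p := p)) 0 0 = -g 0 1 := by simp [Matrix.mul_apply, Fin.sum_univ_two]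
  have e01 : (g * wMat (p := p)) 0 1 = g 0 0 := by simp [Matrix.mul_apply, Fin.sum_univ_two]
  have e11 : (g * wMat (p := p)) 1 1 = g 1 0 := by simp [Matrix.mul_apply, Fin.sum_univ_two]
  rw [R.f_wMat, f, f, e10, e00, e01, e11]
  simp only [neg_eq_zero, inv_neg, neg_neg]
  set α := g 0 0; set β := g 0 1; set γ := g 1 0; set δ := g 1 1
  by_cases hγ : γ = 0
  · have hα : α ≠ 0 := fun e => by simp [hγ, e] at hd
    have hδ : δ = α⁻¹ := eq_inv_of_mul_eq_one_right (by simpa [hγ] using hd)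
    rw [if_pos hγ, if_neg (by rw [hδ]; exact inv_ne_zero hα), hγ, zero_div, x_zero, mul_one,
      R.h_x hα, R.w_eq_h, hδ, inv_inv, mul_assoc]
    congr 1
    congr 1; field_simp
  rw [if_neg hγ]
  by_cases hδ : δ = 0
  · have hb : β * γ = -1 := by linear_combination (-1 : ZMod p) * hd + α * hδ
    have hβ : β ≠ 0 := fun e => by simp [e] at hb
    rw [if_pos hδ, hδ, zero_div, x_zero, mul_one, mul_assoc (R.x (α / γ)),
      R.w_w (neg_ne_zero.2 (inv_ne_zero hγ)) one_ne_zero, div_one, neg_neg,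
      R.h_x (neg_ne_zero.2 hβ)]
    have hβ' : -β = γ⁻¹ := eq_inv_of_mul_eq_one_left (by rw [neg_mul, hb, neg_neg])
    rw [hβ']
    congr 2
    field_simp
  rw [if_neg hδ]
  set q := δ / γ with hq
  have hq0 : q ≠ 0 := div_ne_zero hδ hγ
  have hxq : R.x q = R.y q⁻¹ * R.w q * R.y q⁻¹ := by
    rw [R.w_eq hq0, ← mul_assoc, ← mul_assoc, ← R.y_add, add_neg_cancel, y_zero, one_mul, mul_assoc,
      ← R.y_add, neg_add_cancel, y_zero, mul_one]
  have h1 : R.y q⁻¹ * R.w 1 = R.w 1 * R.x (-q⁻¹) := by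
    rw [R.w_x one_ne_zero]; simp
  have hγ' : -γ⁻¹ ≠ 0 := neg_ne_zero.2 (inv_ne_zero hγ)
  rw [hxq]
  calc _ = R.x (β / δ) * R.w δ⁻¹ * R.x (-(γ / δ)) := by
        congr 2
        · congr 1; field_simp
        · field_simp
    _ = R.x (α / γ) * R.x (-((-γ⁻¹) ^ 2 * q⁻¹)) * (R.w (-γ⁻¹) * R.w q) * R.w 1 * R.x (-q⁻¹) := by
        rw [← R.x_add, R.w_w hγ' hq0, mul_assoc (R.x _) (R.h _) (R.w 1), ← w_eq_h]
        congr 2
        · congr 1; rw [hq]; field_simp; linear_combination (-1 : ZMod p) * hd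
        · congr 1; rw [hq]; field_simp
        · rw [hq]; field_simp
    _ = R.x (α / γ) * R.x (-((-γ⁻¹) ^ 2 * q⁻¹)) * R.w (-γ⁻¹) * R.w q * (R.w 1 * R.x (-q⁻¹)) := by
        simp only [mul_assoc]
    _ = _ := by
        rw [← h1, mul_assoc (R.x (α / γ)), ← R.w_y hγ']
        simp only [mul_assoc]

theorem f_mul (g g' : Matrix.SpecialLinearGroup (Fin 2) (ZMod p)) : R.f (g * g') = R.f g * R.f g' := by
  have key : ∀ g', ∀ g, R.f (g * g') = R.f g * R.f g' := by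
    intro g'
    refine Matrix.SL2.transvection_induction (fun g' => ∀ g, R.f (g * g') = R.f g * R.f g') ?_ ?_ g'
    · have hmul : ∀ A B, (∀ g, R.f (g * A) = R.f g * R.f A) → (∀ g, R.f (g * B) = R.f g * R.f B) →
          ∀ g, R.f (g * (A * B)) = R.f g * R.f (A * B) := fun A B hA hB g => by
        rw [← mul_assoc, hB, hA, hB A, mul_assoc]
      intro i j hij c
      fin_cases i <;> fin_cases j <;> first | exact absurd rfl hij | skip
      · intro g
        convert R.f_mul_upper g c using 3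
        all_goals
          ext i j
          fin_cases i <;> fin_cases j <;> simp [Matrix.SpecialLinearGroup.transvection_coe]
      · convert hmul _ _ (hmul _ _ (hmul _ _ (hmul _ _ (fun g => R.f_mul_wMat g)
          (fun g => R.f_mul_upper g (-c))) (fun g => R.f_mul_wMat g)) (fun g => R.f_mul_wMat g))
          (fun g => R.f_mul_wMat g) using 5
        all_goals
          ext i j
          fin_cases i <;> fin_cases j <;>
            simp [Matrix.SpecialLinearGroup.transvection_coe, Matrix.mul_apply, Fin.sum_univ_two]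
    · intro A B hA hB g
      rw [← mul_assoc, hB, hA, hB A, mul_assoc]
  exact key g' g

/-- The homomorphism. -/
def hom : Matrix.SpecialLinearGroup (Fin 2) (ZMod p) →* G := MonoidHom.mk' R.f R.f_mul

theorem hom_apply (g : Matrix.SpecialLinearGroup (Fin 2) (ZMod p)) : R.hom g = R.f g := rfl

theorem hom_range : R.hom.range = R.K := by
  apply le_antisymm
  · rintro _ ⟨g, rfl⟩
    show R.f g ∈ R.K
    rw [f]; split_ifs
    · exact mul_mem (R.h_mem _) (R.x_mem _)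
    · exact mul_mem (mul_mem (R.x_mem _) (R.w_mem _)) (R.x_mem _)
  · rw [K, Subgroup.closure_le]
    intro z hz
    rw [Set.mem_insert_iff, Set.mem_singleton_iff] at hz
    rcases hz with e | e
    · exact MonoidHom.mem_range.2 ⟨upperSL 1, by rw [hom_apply, R.f_upper, e]⟩
    · rw [e]
      refine MonoidHom.mem_range.2 ⟨wMat (p := p) * upperSL (-1 : ZMod p) * (wMat (p := p))⁻¹, ?_⟩
      rw [map_mul, map_mul, map_inv, hom_apply, hom_apply]
      rw [R.f_wMat, R.f_upper, R.w_x one_ne_zero, mul_inv_cancel_right]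
      simp

theorem ker_le (hne : R.x 1 * R.y 1 ≠ R.y 1 * R.x 1) :
    R.hom.ker ≤ Subgroup.center _ := by
  refine (normal_cases special_SL.1 R.hom.ker (MonoidHom.normal_ker _)).resolve_left fun htop => ?_
  refine hne ?_
  have hcomm : ∀ g g', R.hom g * R.hom g' = R.hom g' * R.hom g := by
    have : ∀ g, ∃ t, R.hom g = R.hom (lowerSL t) := by
      intro g
      have : R.hom.ker.Normal := MonoidHom.normal_ker _
      obtain ⟨k, hk, a, ha, rfl⟩ := Subgroup.mem_sup_of_normal_left.1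
        (htop ▸ Subgroup.mem_top g : g ∈ R.hom.ker ⊔ Cfsg.lowerUnipotentSL2 (ZMod p))
      obtain ⟨t, rfl⟩ := mem_lower.1 ha
      exact ⟨t, by rw [map_mul, MonoidHom.mem_ker.1 hk, one_mul]⟩
    intro g g'
    obtain ⟨t, ht⟩ := this g; obtain ⟨t', ht'⟩ := this g'
    rw [ht, ht', ← map_mul, ← map_mul, lowerSL_mul, lowerSL_mul, add_comm]
  obtain ⟨g, hg⟩ : R.x 1 ∈ R.hom.range := R.hom_range ▸ R.x_mem 1
  obtain ⟨g', hg'⟩ : R.y 1 ∈ R.hom.range := R.hom_range ▸ R.y_mem 1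
  rw [← hg, ← hg', hcomm]

theorem classify (hne : R.x 1 * R.y 1 ≠ R.y 1 * R.x 1) :
    Nonempty (R.K ≃* Matrix.SpecialLinearGroup (Fin 2) (ZMod p)) ∨
      Nonempty (R.K ≃* Matrix.ProjectiveSpecialLinearGroup (Fin 2) (ZMod p)) := by
  have hker := R.ker_le hne
  have e : Matrix.SpecialLinearGroup (Fin 2) (ZMod p) ⧸ R.hom.ker ≃* R.K :=
    (QuotientGroup.quotientKerEquivRange R.hom).trans (MulEquiv.subgroupCongr R.hom_range)
  by_cases hb : R.hom.ker = ⊥
  · exact Or.inl ⟨((QuotientGroup.quotientMulEquivOfEq hb).symm.trans e).symm.trans QuotientGroup.quotientBot⟩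
  · refine Or.inr ⟨e.symm.trans (QuotientGroup.quotientMulEquivOfEq (le_antisymm hker ?_))⟩
    obtain ⟨z, hz, hz1⟩ := exists_ne_one hb
    have hscal : ∀ c ∈ Subgroup.center (Matrix.SpecialLinearGroup (Fin 2) (ZMod p)),
        ∃ r : ZMod p, (r = 1 ∨ r = -1) ∧ Matrix.scalar (Fin 2) r = (c : Matrix (Fin 2) (Fin 2) (ZMod p)) := by
      intro c hc
      obtain ⟨r, hr, he⟩ := Matrix.SpecialLinearGroup.mem_center_iff.1 hc
      refine ⟨r, ?_, he⟩
      simp only [Fintype.card_fin] at hr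
      exact sq_eq_one_iff.1 hr
    intro c hc
    obtain ⟨r, hr, he⟩ := hscal c hc
    obtain ⟨r', hr', he'⟩ := hscal z (hker hz)
    rcases hr with rfl | rfl
    · rw [show c = 1 from Subtype.ext (by rw [← he, map_one]; rfl)]; exact one_mem _
    · rcases hr' with rfl | rfl
      · exact absurd (Subtype.ext (by rw [← he', map_one]; rfl)) hz1
      · rwa [show c = z from Subtype.ext (he.symm.trans he')]

end Braided

end Cfsg.Agent.Timmesfeld
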