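import Cfsg.Agent.Lib.Timmesfeld.Special
import Cfsg.Agent.Lib.Timmesfeld.Steinberg

/-!
# Subgroups generated by an element and its partner
-/

set_option autoImplicit false

namespace Cfsg.Agent.Timmesfeld

variable {G : Type*} [Group G] {A B : Subgroup G} {p : ℕ} [Fact p.Prime]

theorem pow_val_add {a : G} (ha : a ^ p = 1) (s t : ZMod p) : a ^ (s + t).val = a ^ s.val * a ^ t.val := by
  rw [ZMod.val_add, ← pow_eq_pow_mod _ ha, pow_add]

theorem closure_pair_iso (hs : Cfsg.IsSpecialRankOnePair A B) (hab : Cfsg.HasAbelianUnipotents A B)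
    (hA : Cfsg.IsElementaryAbelian p A) {a b : G} (h : Part A B a b) :
    Nonempty (↥(Subgroup.closure ({a, b} : Set G)) ≃* Matrix.SpecialLinearGroup (Fin 2) (ZMod p)) ∨
      Nonempty (↥(Subgroup.closure ({a, b} : Set G)) ≃*
        Matrix.ProjectiveSpecialLinearGroup (Fin 2) (ZMod p)) := by
  have := hab.2
  have hB : ∀ u ∈ B, ∀ v ∈ B, u * v = v * u := fun u hu v hv =>
    congrArg Subtype.val (mul_comm' (⟨u, hu⟩ : B) ⟨v, hv⟩)
  have hap : a ^ p = 1 := hA.2 a h.mem_left
  have hbp : b ^ p = 1 := (h.pow_eq_one hs p).2 hap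
  have hadd := pow_val_add (p := p) hbp
  let R : Braided p G :=
    { x := fun t => a ^ t.val
      y := fun t => b ^ t.val
      x_add := pow_val_add hap
      y_add := hadd
      braid := fun t ht => by
        have hX : a ^ t.val ≠ 1 := by
          intro e
          have : orderOf a = p := orderOf_eq_prime hap h.ne_left
          have hd := orderOf_dvd_of_pow_eq_one e
          rw [this] at hd
          exact ht ((ZMod.val_eq_zero t).1 (Nat.eq_zero_of_dvd_of_lt hd (ZMod.val_lt t)))
        obtain ⟨g, hg⟩ := Part.exists_right hs.1 (pow_mem h.mem_left _) hX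
        have hgp : g ^ p = 1 := (hg.pow_eq_one hs p).2 (by rw [← pow_mul, mul_comm, pow_mul, hap, one_pow])
        have hgb : g = b ^ (t⁻¹).val := by
          rw [← Part.pow_partner hs hB t.val h hg, ← pow_mul, pow_eq_pow_mod _ hgp, ← ZMod.val_mul,
            mul_inv_cancel₀ ht, ZMod.val_one, pow_one]
        have hinv : b ^ (-t⁻¹).val = g⁻¹ := by
          rw [hgb]
          refine eq_inv_of_mul_eq_one_left ?_
          rw [← hadd, neg_add_cancel, ZMod.val_zero, pow_zero]
        show a ^ t.val * b ^ (-t⁻¹).val * a ^ t.val = b ^ (-t⁻¹).val * a ^ t.val * b ^ (-t⁻¹).val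
        rw [hinv]; exact hg.braid hs }
  have hx : R.x 1 = a := by show a ^ (1 : ZMod p).val = a; rw [ZMod.val_one, pow_one]
  have hy : R.y 1 = b := by show b ^ (1 : ZMod p).val = b; rw [ZMod.val_one, pow_one]
  have hne : R.x 1 * R.y 1 ≠ R.y 1 * R.x 1 := by
    rw [hx, hy]; intro e
    have h1 := h.conj_eq hs
    have hc : Commute a b⁻¹ := (show Commute a b from e).inv_right
    rw [show a * b⁻¹ * a * a * (a * b⁻¹ * a)⁻¹ = a from
      mul_inv_eq_iff_eq_mul.2 (((Commute.refl a).mul_right hc).mul_right (Commute.refl a)).eq.symm] at h1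
    exact h.ne_left (eq_one_of_normalizes hs.1 h.mem_left (conjBy_self (h1 ▸ inv_mem h.mem_right)))
  have hK : R.K = Subgroup.closure ({a, b} : Set G) := by rw [Braided.K, hx, hy]
  rcases R.classify hne with ⟨⟨e⟩⟩ | ⟨⟨e⟩⟩
  · exact Or.inl ⟨(MulEquiv.subgroupCongr hK.symm).trans e⟩
  · exact Or.inr ⟨(MulEquiv.subgroupCongr hK.symm).trans e⟩

end Cfsg.Agent.Timmesfeld
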