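import Cfsg.Prelude.Def_RootSubgroups

/-!
# Rank one groups: the action on the unipotent subgroups
-/

set_option autoImplicit false

namespace Cfsg.Agent.Timmesfeld

variable {G : Type*} [Group G]

theorem mem_conjBy {A : Subgroup G} {g x : G} : x ∈ Cfsg.conjBy A g ↔ g⁻¹ * x * g ∈ A := by
  constructor
  · rintro ⟨a, ha, rfl⟩
    show g⁻¹ * (g * a * g⁻¹) * g ∈ A
    rwa [show g⁻¹ * (g * a * g⁻¹) * g = a by group]
  · exact fun h => ⟨_, h, show g * (g⁻¹ * x * g) * g⁻¹ = x by group⟩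

theorem conjBy_conjBy (A : Subgroup G) (g h : G) :
    Cfsg.conjBy (Cfsg.conjBy A g) h = Cfsg.conjBy A (h * g) := by
  ext x; simp only [mem_conjBy, mul_inv_rev, mul_assoc]

theorem conjBy_one (A : Subgroup G) : Cfsg.conjBy A 1 = A := by ext x; simp [mem_conjBy]

theorem conjBy_inj {A B : Subgroup G} {g : G} (h : Cfsg.conjBy A g = Cfsg.conjBy B g) : A = B := by
  rw [← conjBy_one A, ← conjBy_one B, ← inv_mul_cancel g, ← conjBy_conjBy, h, conjBy_conjBy]

theorem conjBy_self {A : Subgroup G} {a : G} (ha : a ∈ A) : Cfsg.conjBy A a = A := by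
  ext x
  rw [mem_conjBy]
  exact ⟨fun h => by simpa [mul_assoc] using mul_mem (mul_mem ha h) (inv_mem ha),
    fun h => mul_mem (mul_mem (inv_mem ha) h) ha⟩

theorem normalizer_iff {A : Subgroup G} {g : G} :
    g ∈ Subgroup.normalizer (A : Set G) ↔ Cfsg.conjBy A g = A :=
  Subgroup.mem_normalizer_iff_map_conj_eq

theorem conjBy_of_centralizes {A : Subgroup G} {g : G} (h : ∀ x ∈ A, g * x = x * g) :
    Cfsg.conjBy A g = A := by
  ext x
  rw [mem_conjBy]
  constructor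
  · intro hx
    have h1 := h _ hx
    have h2 : x = g⁻¹ * x * g :=
      mul_right_cancel (b := g) (by rw [← h1]; group)
    rw [h2]; exact hx
  · intro hx
    rwa [mul_assoc, ← h x hx, inv_mul_cancel_left]

theorem commutes_conjBy {A : Subgroup G} {g z : G} (hzg : z * g = g * z) (h : ∀ x ∈ A, z * x = x * z) :
    ∀ x ∈ Cfsg.conjBy A g, z * x = x * z := by
  intro x hx
  have c : Commute z (g * (g⁻¹ * x * g) * g⁻¹) :=
    ((show Commute z g from hzg).mul_right (h _ (mem_conjBy.1 hx))).mul_right (show Commute z g from hzg).inv_right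
  rwa [show g * (g⁻¹ * x * g) * g⁻¹ = x by group] at c

theorem exists_ne_one {A : Subgroup G} (h : A ≠ ⊥) : ∃ a ∈ A, a ≠ 1 :=
  (Subgroup.bot_or_exists_ne_one A).resolve_left h

variable {A B : Subgroup G}

section
variable (h : Cfsg.IsRankOnePair A B)
include h

theorem eq_one_of_normalizes {a : G} (ha : a ∈ A) (hn : Cfsg.conjBy B a = B) : a = 1 := by
  by_contra ha1
  obtain ⟨b, hb, -, he⟩ := h.cond_left a ha ha1
  have h2 : Cfsg.conjBy B a⁻¹ = B := by
    conv_lhs => rw [← hn]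
    rw [conjBy_conjBy, inv_mul_cancel, conjBy_one]
  rw [h2, ← conjBy_self (inv_mem hb)] at he
  exact h.ne (conjBy_inj he)

theorem eq_one_of_normalizes' {b : G} (hb : b ∈ B) (hn : Cfsg.conjBy A b = A) : b = 1 :=
  eq_one_of_normalizes (Cfsg.RankOnePair_symm h) hb hn

theorem ne_bot_left : A ≠ ⊥ := by
  intro hA
  have hB : B ≠ ⊥ := fun hB => h.ne (hA.trans hB.symm)
  obtain ⟨b, hb, hb1⟩ := exists_ne_one hB
  obtain ⟨a, ha, ha1, -⟩ := h.cond_right b hb hb1
  exact ha1 (by rwa [hA, Subgroup.mem_bot] at ha)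

theorem ne_bot_right : B ≠ ⊥ := ne_bot_left (Cfsg.RankOnePair_symm h)

theorem conjBy_inj_left {a a' : G} (ha : a ∈ A) (ha' : a' ∈ A)
    (e : Cfsg.conjBy B a = Cfsg.conjBy B a') : a = a' := by
  refine (inv_mul_eq_one.1 (eq_one_of_normalizes h (mul_mem (inv_mem ha') ha) ?_)).symm
  rw [← conjBy_conjBy, e, conjBy_conjBy, inv_mul_cancel, conjBy_one]

theorem conjBy_inj_right {b b' : G} (hb : b ∈ B) (hb' : b' ∈ B)
    (e : Cfsg.conjBy A b = Cfsg.conjBy A b') : b = b' :=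
  conjBy_inj_left (Cfsg.RankOnePair_symm h) hb hb' e

theorem mem_left : A ∈ Cfsg.unipotentSubgroups A B := ⟨1, one_mem _, (conjBy_one A).symm⟩

theorem exists_conj_eq_right : ∃ x ∈ A ⊔ B, Cfsg.conjBy A x = B := by
  obtain ⟨a, ha, ha1⟩ := exists_ne_one (ne_bot_left h)
  obtain ⟨b, hb, -, he⟩ := h.cond_left a ha ha1
  refine ⟨a * b⁻¹, mul_mem (Subgroup.mem_sup_left ha) (Subgroup.mem_sup_right (inv_mem hb)), ?_⟩
  rw [← conjBy_conjBy, he, conjBy_conjBy, mul_inv_cancel, conjBy_one]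

/-- The unipotent subgroups: `A` and the conjugates of `B` by elements of `A`. -/
theorem mem_iff {C : Subgroup G} :
    C ∈ Cfsg.unipotentSubgroups A B ↔ C = A ∨ ∃ a ∈ A, C = Cfsg.conjBy B a := by
  constructor
  · rintro ⟨x, hx, rfl⟩
    -- the set is invariant under both `A` and `B`
    have key : ∀ y ∈ A ⊔ B, ∀ C : Subgroup G, (C = A ∨ ∃ a ∈ A, C = Cfsg.conjBy B a) →
        (Cfsg.conjBy C y = A ∨ ∃ a ∈ A, Cfsg.conjBy C y = Cfsg.conjBy B a) := by
      intro y hy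
      rw [Subgroup.sup_eq_closure] at hy
      have hA : ∀ a ∈ A, ∀ C : Subgroup G, (C = A ∨ ∃ a' ∈ A, C = Cfsg.conjBy B a') →
          (Cfsg.conjBy C a = A ∨ ∃ a' ∈ A, Cfsg.conjBy C a = Cfsg.conjBy B a') := by
        rintro a ha C (rfl | ⟨a', ha', rfl⟩)
        · exact Or.inl (conjBy_self ha)
        · exact Or.inr ⟨a * a', mul_mem ha ha', conjBy_conjBy _ _ _⟩
      have hB : ∀ b ∈ B, ∀ C : Subgroup G, (C = A ∨ ∃ a' ∈ A, C = Cfsg.conjBy B a') →
          (Cfsg.conjBy C b = A ∨ ∃ a' ∈ A, Cfsg.conjBy C b = Cfsg.conjBy B a') := by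
        intro b hb C hC
        -- pass to the other description
        have hC' : C = B ∨ ∃ b' ∈ B, C = Cfsg.conjBy A b' := by
          rcases hC with rfl | ⟨a', ha', rfl⟩
          · exact Or.inr ⟨1, one_mem _, (conjBy_one C).symm⟩
          · by_cases h1 : a' = 1
            · exact Or.inl (by rw [h1, conjBy_one])
            · obtain ⟨b', hb', -, he⟩ := h.cond_left a'⁻¹ (inv_mem ha') (inv_ne_one.2 h1)
              exact Or.inr ⟨b'⁻¹, inv_mem hb', by rw [he, inv_inv]⟩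
        obtain hC'' | ⟨b'', hb'', hC''⟩ : Cfsg.conjBy C b = B ∨
            ∃ b'' ∈ B, Cfsg.conjBy C b = Cfsg.conjBy A b'' := by
          rcases hC' with rfl | ⟨b', hb', rfl⟩
          · exact Or.inl (conjBy_self hb)
          · exact Or.inr ⟨b * b', mul_mem hb hb', conjBy_conjBy _ _ _⟩
        · exact Or.inr ⟨1, one_mem _, by rw [hC'', conjBy_one]⟩
        · by_cases h1 : b'' = 1
          · exact Or.inl (by rw [hC'', h1, conjBy_one])
          · obtain ⟨a', ha', -, he⟩ := h.cond_right b''⁻¹ (inv_mem hb'') (inv_ne_one.2 h1)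
            exact Or.inr ⟨a'⁻¹, inv_mem ha', by rw [hC'', he, inv_inv]⟩
      induction hy using Subgroup.closure_induction'' with
      | mem y hy =>
        rcases hy with hy | hy
        · exact hA y hy
        · exact hB y hy
      | inv_mem y hy =>
        rcases hy with hy | hy
        · exact hA y⁻¹ (inv_mem hy)
        · exact hB y⁻¹ (inv_mem hy)
      | one => intro C hC; rwa [conjBy_one]
      | mul y z _ _ hy hz =>
        intro C hC
        rw [← conjBy_conjBy]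
        exact hy _ (hz C hC)
    exact key x hx A (Or.inl rfl)
  · rintro (rfl | ⟨a, ha, rfl⟩)
    · exact mem_left h
    · obtain ⟨x, hx, hxe⟩ := exists_conj_eq_right h
      exact ⟨a * x, mul_mem (Subgroup.mem_sup_left ha) hx, by rw [← conjBy_conjBy, hxe]⟩

theorem mem_right : B ∈ Cfsg.unipotentSubgroups A B :=
  (mem_iff h).2 (Or.inr ⟨1, one_mem _, (conjBy_one B).symm⟩)

omit h in
theorem conj_mem {C : Subgroup G} (hC : C ∈ Cfsg.unipotentSubgroups A B) {x : G} (hx : x ∈ A ⊔ B) :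
    Cfsg.conjBy C x ∈ Cfsg.unipotentSubgroups A B := by
  obtain ⟨y, hy, rfl⟩ := hC
  exact ⟨x * y, mul_mem hx hy, conjBy_conjBy _ _ _⟩

omit h in
theorem le_sup {C : Subgroup G} (hC : C ∈ Cfsg.unipotentSubgroups A B) : C ≤ A ⊔ B := by
  obtain ⟨x, hx, rfl⟩ := hC
  intro c hc
  have hle : A ≤ A ⊔ B := le_sup_left
  have := mul_mem (mul_mem hx (hle (mem_conjBy.1 hc))) (inv_mem hx)
  rwa [show x * (x⁻¹ * c * x) * x⁻¹ = c by group] at this

theorem exists_to_pair {C₁ C₂ : Subgroup G} (h1 : C₁ ∈ Cfsg.unipotentSubgroups A B)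
    (h2 : C₂ ∈ Cfsg.unipotentSubgroups A B) (hne : C₁ ≠ C₂) :
    ∃ x ∈ A ⊔ B, Cfsg.conjBy A x = C₁ ∧ Cfsg.conjBy B x = C₂ := by
  obtain ⟨x, hx, rfl⟩ := h1
  have hC : Cfsg.conjBy C₂ x⁻¹ ∈ Cfsg.unipotentSubgroups A B := conj_mem h2 (inv_mem hx)
  rcases (mem_iff h).1 hC with e | ⟨a, ha, e⟩
  · refine absurd ?_ hne
    rw [← e, conjBy_conjBy, mul_inv_cancel, conjBy_one]
  · refine ⟨x * a, mul_mem hx (Subgroup.mem_sup_left ha), by rw [← conjBy_conjBy, conjBy_self ha], ?_⟩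
    rw [← conjBy_conjBy, ← e, conjBy_conjBy, mul_inv_cancel, conjBy_one]

theorem exists_conj_pair {C₁ C₂ D₁ D₂ : Subgroup G} (h1 : C₁ ∈ Cfsg.unipotentSubgroups A B)
    (h2 : C₂ ∈ Cfsg.unipotentSubgroups A B) (h3 : D₁ ∈ Cfsg.unipotentSubgroups A B)
    (h4 : D₂ ∈ Cfsg.unipotentSubgroups A B) (hne : C₁ ≠ C₂) (hne' : D₁ ≠ D₂) :
    ∃ x ∈ A ⊔ B, Cfsg.conjBy C₁ x = D₁ ∧ Cfsg.conjBy C₂ x = D₂ := by
  obtain ⟨x, hx, rfl, rfl⟩ := exists_to_pair h h1 h2 hne
  obtain ⟨y, hy, rfl, rfl⟩ := exists_to_pair h h3 h4 hne'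
  exact ⟨y * x⁻¹, mul_mem hy (inv_mem hx), by rw [conjBy_conjBy, inv_mul_cancel_right],
    by rw [conjBy_conjBy, inv_mul_cancel_right]⟩

theorem eq_left_of_fixed {a : G} (ha : a ∈ A) (ha1 : a ≠ 1) {C : Subgroup G}
    (hC : C ∈ Cfsg.unipotentSubgroups A B) (hf : Cfsg.conjBy C a = C) : C = A := by
  rcases (mem_iff h).1 hC with e | ⟨a', ha', rfl⟩
  · exact e
  · rw [conjBy_conjBy] at hf
    have := conjBy_inj_left h (mul_mem ha ha') ha' hf
    exact absurd (mul_eq_right.1 this) ha1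

theorem three_members : ∃ C₁ ∈ Cfsg.unipotentSubgroups A B, ∃ C₂ ∈ Cfsg.unipotentSubgroups A B,
    ∃ C₃ ∈ Cfsg.unipotentSubgroups A B, C₁ ≠ C₂ ∧ C₁ ≠ C₃ ∧ C₂ ≠ C₃ := by
  obtain ⟨a, ha, ha1⟩ := exists_ne_one (ne_bot_left h)
  refine ⟨A, mem_left h, B, mem_right h, Cfsg.conjBy B a, conj_mem (mem_right h) (Subgroup.mem_sup_left ha),
    h.ne, fun e => h.ne ?_, fun e => ha1 (eq_one_of_normalizes h ha e.symm)⟩
  exact conjBy_inj (g := a) ((conjBy_self ha).trans e)

theorem existsUnique_smul {C D : Subgroup G} (hC : C ∈ Cfsg.unipotentSubgroups A B)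
    (hD : D ∈ Cfsg.unipotentSubgroups A B) (hCA : C ≠ A) (hDA : D ≠ A) :
    ∃! a : G, a ∈ A ∧ Cfsg.conjBy C a = D := by
  rcases (mem_iff h).1 hC with e | ⟨c, hc, rfl⟩
  · exact absurd e hCA
  rcases (mem_iff h).1 hD with e | ⟨d, hd, rfl⟩
  · exact absurd e hDA
  refine ⟨d * c⁻¹, ⟨mul_mem hd (inv_mem hc), by rw [conjBy_conjBy, inv_mul_cancel_right]⟩, ?_⟩
  rintro a ⟨ha, he⟩
  rw [conjBy_conjBy] at he
  rw [← conjBy_inj_left h (mul_mem ha hc) hd he, mul_inv_cancel_right]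

/-- An element fixing all unipotent subgroups is central in the rank one group. -/
theorem commute_of_fix {k : G} (hk : ∀ C ∈ Cfsg.unipotentSubgroups A B, Cfsg.conjBy C k = C) :
    ∀ x ∈ A ⊔ B, k * x = x * k := by
  have key : ∀ {A B : Subgroup G}, Cfsg.IsRankOnePair A B →
      (∀ C ∈ Cfsg.unipotentSubgroups A B, Cfsg.conjBy C k = C) → ∀ a ∈ A, k * a = a * k := by
    intro A B h hk a ha
    have hc : k * a * k⁻¹ ∈ A := by
      have h1 := hk A (mem_left h)
      rw [← h1, mem_conjBy]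
      simpa [mul_assoc] using ha
    have hfix : Cfsg.conjBy B (k * a * k⁻¹) = Cfsg.conjBy B a := by
      have hB := hk B (mem_right h)
      have hBa := hk _ (conj_mem (mem_right h) (Subgroup.mem_sup_left (T := B) ha))
      have hBinv : Cfsg.conjBy B k⁻¹ = B := by
        conv_lhs => rw [← hB]
        rw [conjBy_conjBy, inv_mul_cancel, conjBy_one]
      rw [← conjBy_conjBy, hBinv, ← conjBy_conjBy, hBa]
    exact mul_inv_eq_iff_eq_mul.1 (conjBy_inj_left h hc ha hfix)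
  intro x hx
  rw [Subgroup.sup_eq_closure] at hx
  induction hx using Subgroup.closure_induction with
  | mem x hx =>
    rcases hx with hx | hx
    · exact key h hk x hx
    · refine key (Cfsg.RankOnePair_symm h) (fun C hC => hk C ?_) x hx
      obtain ⟨y, hy, rfl⟩ := hC
      exact conj_mem (mem_right h) (by rwa [sup_comm])
  | one => simp
  | mul x y _ _ hx hy => exact ((show Commute k x from hx).mul_right hy).eq
  | inv x _ hx => exact (show Commute k x from hx).inv_right.eq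

/-- An element of the rank one group centralising the abelian subgroup `A` lies in `A` up to a centre element. -/
theorem centralizes_left (hA : ∀ x ∈ A, ∀ y ∈ A, x * y = y * x) {g : G} (hg : g ∈ A ⊔ B)
    (hc : ∀ a ∈ A, g * a = a * g) : ∃ a ∈ A, ∀ x ∈ A ⊔ B, (a⁻¹ * g) * x = x * (a⁻¹ * g) := by
  have hgA : Cfsg.conjBy A g = A := conjBy_of_centralizes hc
  rcases (mem_iff h).1 (conj_mem (mem_right h) hg) with e | ⟨a, ha, e⟩
  · exact absurd (conjBy_inj (hgA.trans e.symm)) h.ne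
  refine ⟨a, ha, commute_of_fix h fun C hC => ?_⟩
  have hcA : ∀ y ∈ A, (a⁻¹ * g) * y = y * (a⁻¹ * g) := fun y hy =>
    ((show Commute a⁻¹ y from hA _ (inv_mem ha) y hy).mul_left (hc y hy)).eq
  have hB : Cfsg.conjBy B (a⁻¹ * g) = B := by
    rw [← conjBy_conjBy, e, conjBy_conjBy, inv_mul_cancel, conjBy_one]
  rcases (mem_iff h).1 hC with rfl | ⟨a', ha', rfl⟩
  · exact conjBy_of_centralizes hcA
  · rw [conjBy_conjBy, hcA a' ha', ← conjBy_conjBy, hB]

theorem right_not_central : ¬ ∀ a ∈ A, ∀ b ∈ B, a * b = b * a := fun hc => by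
  obtain ⟨a, ha, ha1⟩ := exists_ne_one (ne_bot_left h)
  exact ha1 (eq_one_of_normalizes h ha (conjBy_of_centralizes fun b hb => hc a ha b hb))

end

end Cfsg.Agent.Timmesfeld
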