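import Cfsg.Agent.Lib.Timmesfeld.Root

/-!
# Abstract root subgroups: commutator pairs, lines and components
-/

set_option autoImplicit false

namespace Cfsg.Agent.Timmesfeld

variable {G : Type*} [Group G] {S : Set (Subgroup G)}

theorem commute_sup {A B : Subgroup G} {z : G} (hA : ∀ x ∈ A, z * x = x * z) (hB : ∀ x ∈ B, z * x = x * z) :
    ∀ x ∈ A ⊔ B, z * x = x * z := by
  have : A ⊔ B ≤ Subgroup.centralizer {z} := sup_le
    (fun x hx => Subgroup.mem_centralizer_singleton_iff.2 (hA x hx).symm)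
    (fun x hx => Subgroup.mem_centralizer_singleton_iff.2 (hB x hx).symm)
  exact fun x hx => (Subgroup.mem_centralizer_singleton_iff.1 (this hx)).symm

theorem mem_rootElements {A : Subgroup G} (hA : A ∈ S) {x : G} (hx : x ∈ A) (hx1 : x ≠ 1) :
    x ∈ Cfsg.rootElements S := ⟨hx1, A, hA, hx⟩

theorem rootElements_conj (hS : Cfsg.IsRootSubgroupSet S) {x : G} (hx : x ∈ Cfsg.rootElements S) (g : G) :
    g * x * g⁻¹ ∈ Cfsg.rootElements S := by
  obtain ⟨hx1, A, hA, hxA⟩ := hx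
  exact ⟨fun e => hx1 (conj_eq_one_iff.1 e), _, hS.conj_mem A hA g, ⟨x, hxA, rfl⟩⟩

theorem rankPair_conj {A B : Subgroup G} (h : Cfsg.IsRankOnePair A B) (g : G) :
    Cfsg.IsRankOnePair (Cfsg.conjBy A g) (Cfsg.conjBy B g) := by
  have key : ∀ {A B : Subgroup G}, Cfsg.RankOneCondition A B →
      Cfsg.RankOneCondition (Cfsg.conjBy A g) (Cfsg.conjBy B g) := by
    intro A B hc a ha ha1
    obtain ⟨a, ha, rfl⟩ := ha
    obtain ⟨b, hb, hb1, he⟩ := hc a ha fun e => ha1 (by rw [e, map_one])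
    refine ⟨g * b * g⁻¹, ⟨b, hb, rfl⟩, fun e => hb1 (conj_eq_one_iff.1 e), ?_⟩
    show Cfsg.conjBy (Cfsg.conjBy A g) (g * b * g⁻¹)⁻¹ = Cfsg.conjBy (Cfsg.conjBy B g) (g * a * g⁻¹)⁻¹
    rw [conjBy_conjBy, conjBy_conjBy, show (g * b * g⁻¹)⁻¹ * g = g * b⁻¹ by group,
      show (g * a * g⁻¹)⁻¹ * g = g * a⁻¹ by group, ← conjBy_conjBy, ← conjBy_conjBy B, he]
  have := h.nilpotent_left
  have := h.nilpotent_right
  refine ⟨fun e => h.ne (conjBy_inj e), ?_, ?_, key h.cond_left, key h.cond_right⟩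
  · exact Group.nilpotent_of_mulEquiv (A.equivMapOfInjective _ (MulEquiv.injective (MulAut.conj g)))
  · exact Group.nilpotent_of_mulEquiv (B.equivMapOfInjective _ (MulEquiv.injective (MulAut.conj g)))

theorem rankPair_not_commute {A B : Subgroup G} (h : Cfsg.IsRankOnePair A B) : ⁅A, B⁆ ≠ ⊥ :=
  fun e => right_not_central h (bracket_eq_bot.1 e)

/-- Every element of the commutator subgroup is a single commutator with a given element. -/
theorem commCase_image {A B : Subgroup G} (h : Cfsg.RootCommutatorCase S A B) {a : G} (ha : a ∈ A)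
    (ha1 : a ≠ 1) {c : G} (hc : c ∈ ⁅A, B⁆) : ∃ b ∈ B, a * b * a⁻¹ * b⁻¹ = c := by
  obtain ⟨-, hcent, hgen, -⟩ := h
  have hc' := hgen a ha ha1 ▸ hc
  clear hc
  induction hc' using Subgroup.closure_induction with
  | mem x hx => exact hx
  | one => exact ⟨1, one_mem _, by group⟩
  | mul x y _ hy' ihx ihy =>
    obtain ⟨b, hb, rfl⟩ := ihx
    obtain ⟨b', hb', rfl⟩ := ihy
    refine ⟨b * b', mul_mem hb hb', ?_⟩
    have hm : a * b' * a⁻¹ * b'⁻¹ ∈ ⁅A, B⁆ := Subgroup.commutator_mem_commutator ha hb'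
    calc a * (b * b') * a⁻¹ * (b * b')⁻¹
        = (a * b * a⁻¹ * b⁻¹) * (b * (a * b' * a⁻¹ * b'⁻¹)) * b⁻¹ := by group
      _ = _ := by rw [← hcent _ hm b (Subgroup.mem_sup_right hb)]; group
  | inv x _ ihx =>
    obtain ⟨b, hb, rfl⟩ := ihx
    refine ⟨b⁻¹, inv_mem hb, ?_⟩
    have hm : a * b * a⁻¹ * b⁻¹ ∈ ⁅A, B⁆ := Subgroup.commutator_mem_commutator ha hb
    calc a * b⁻¹ * a⁻¹ * b⁻¹⁻¹ = b⁻¹ * ((a * b * a⁻¹ * b⁻¹)⁻¹ * b) := by group
      _ = _ := by rw [hcent _ (inv_mem hm) b (Subgroup.mem_sup_right hb), inv_mul_cancel_left]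

theorem commCase_comm {A B : Subgroup G} (h : Cfsg.RootCommutatorCase S A B) :
    (∀ x ∈ A, ∀ c ∈ ⁅A, B⁆, x * c = c * x) ∧ ∀ x ∈ B, ∀ c ∈ ⁅A, B⁆, x * c = c * x :=
  ⟨fun x hx c hc => (h.2.1 c hc x (Subgroup.mem_sup_left hx)).symm,
    fun x hx c hc => (h.2.1 c hc x (Subgroup.mem_sup_right hx)).symm⟩

/-- In the commutator case a member times an element of the commutator subgroup is a root element. -/
theorem commCase_line (hS : Cfsg.IsRootSubgroupSet S) {A B : Subgroup G} (hA : A ∈ S)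
    (h : Cfsg.RootCommutatorCase S A B) {a c : G} (ha : a ∈ A) (ha1 : a ≠ 1) (hc : c ∈ ⁅A, B⁆) :
    ∃ b ∈ B, b * a * b⁻¹ = a * c := by
  obtain ⟨b, hb, he⟩ := commCase_image h ha ha1 (inv_mem hc)
  refine ⟨b, hb, ?_⟩
  rw [(commCase_comm h).1 a ha c hc, ← inv_inv c, ← he]; group

section line

variable (hS : Cfsg.IsRootSubgroupSet S) {X D Z : Subgroup G} (hX : X ∈ S) (hD : D ∈ S)
  (h : Cfsg.IsRankOnePair X D) (hZ : Z ∈ S) (hcZ : ∀ x ∈ X, ∀ z ∈ Z, x * z = z * x)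
  (hline : ∀ x ∈ X, x ≠ 1 → ∀ z ∈ Z, z ≠ 1 → x * z ∈ Cfsg.rootElements S)

include hS hX hcZ hline in
/-- No non-identity element of `Z` centralizes a partner of `X`. -/
theorem central_line {E : Subgroup G} (hE : E ∈ S) (hp : Cfsg.IsRankOnePair X E) {z : G} (hz : z ∈ Z)
    (hzE : ∀ e ∈ E, z * e = e * z) : z = 1 := by
  by_contra hz1
  obtain ⟨a, ha, ha1⟩ := exists_ne_one (hS.ne_bot X hX)
  refine central_translate_not_root hS hX hE hp ha ha1
    (commute_sup (fun x hx => (hcZ x hx z hz).symm) hzE) hz1 ?_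
  rw [← hcZ a ha z hz]
  exact hline a ha ha1 z hz hz1

include hS hX hD h hZ hcZ hline in
/-- If `Z` lies on a line with `X` and is no partner of the partner `D` of `X`, then `Z = [X, [D, Z]]`. -/
theorem line_bracket (hnr : ¬ Cfsg.IsRankOnePair D Z) :
    Cfsg.RootCommutatorCase S D Z ∧ Cfsg.RootCommutatorCase S X ⁅D, Z⁆ ∧ ⁅X, ⁅D, Z⁆⁆ = Z ∧
      (∀ d ∈ D, d ≠ 1 → ∃ a ∈ X, a ≠ 1 ∧ Cfsg.conjBy D a⁻¹ = Cfsg.conjBy X d ∧
        ∀ z ∈ Z, a * (d * z * d⁻¹ * z⁻¹) * a⁻¹ * (d * z * d⁻¹ * z⁻¹)⁻¹ = z⁻¹) := by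
  obtain ⟨z₁, hz₁, hz₁1⟩ := exists_ne_one (hS.ne_bot Z hZ)
  have hDZ : Cfsg.RootCommutatorCase S D Z := by
    rcases hS.pair D hD Z hZ with e | e | e
    · exact absurd (central_line hS hX hcZ hline hD h hz₁
        fun d hd => (bracket_eq_bot.1 e d hd z₁ hz₁).symm) hz₁1
    · exact absurd e hnr
    · exact e
  have hW := hDZ.1
  have hDW := (commCase_comm hDZ).1
  have hZW := (commCase_comm hDZ).2
  -- the element `[a, w] * z` centralizes `D`
  have hk : ∀ d ∈ D, d ≠ 1 → ∀ a ∈ X, Cfsg.conjBy D a⁻¹ = Cfsg.conjBy X d → ∀ z ∈ Z,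
      (∀ w ∈ ⁅D, Z⁆, a * w * a⁻¹ * w⁻¹ * w = w * (a * w * a⁻¹ * w⁻¹)) →
      ∀ v ∈ D, (a * (d * z * d⁻¹ * z⁻¹) * a⁻¹ * (d * z * d⁻¹ * z⁻¹)⁻¹ * z) * v =
        v * (a * (d * z * d⁻¹ * z⁻¹) * a⁻¹ * (d * z * d⁻¹ * z⁻¹)⁻¹ * z) := by
    intro d hd _ a ha he z hz hcw v hv
    set w := d * z * d⁻¹ * z⁻¹ with hw
    have hwW : w ∈ ⁅D, Z⁆ := Subgroup.commutator_mem_commutator hd hz
    set c := a * w * a⁻¹ * w⁻¹ with hc
    have hmap : Cfsg.conjBy X (a * d) = D := by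
      rw [← conjBy_conjBy, ← he, conjBy_conjBy, mul_inv_cancel, conjBy_one]
    have hq : ∀ v ∈ D, (a * d) * z * (a * d)⁻¹ * v = v * ((a * d) * z * (a * d)⁻¹) := by
      intro v hv
      rw [← hmap] at hv
      obtain ⟨x, hx, rfl⟩ := hv
      show a * d * z * (a * d)⁻¹ * (a * d * x * (a * d)⁻¹) = a * d * x * (a * d)⁻¹ * (a * d * z * (a * d)⁻¹)
      calc _ = a * d * (z * x) * (a * d)⁻¹ := by group
        _ = a * d * (x * z) * (a * d)⁻¹ := by rw [hcZ x hx z hz]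
        _ = _ := by group
    have e : (a * d) * z * (a * d)⁻¹ = w * (c * z) := by
      calc (a * d) * z * (a * d)⁻¹ = a * w * a⁻¹ * (a * z * a⁻¹) := by rw [hw]; group
        _ = a * w * a⁻¹ * z := by rw [hcZ a ha z hz, mul_inv_cancel_right]
        _ = c * w * z := by rw [hc]; group
        _ = _ := by
          have h3 : c * w = w * c := by rw [hc]; exact hcw w hwW
          rw [h3]; group
    have h1 : Commute (w * (c * z)) v := e ▸ hq v hv
    have h2 : Commute w v := (hDW v hv w hwW).symm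
    have := h2.inv_left.mul_left h1
    rwa [inv_mul_cancel_left] at this
  have hXW : Cfsg.RootCommutatorCase S X ⁅D, Z⁆ := by
    rcases hS.pair X hX _ hW with e | e | e
    · exfalso
      obtain ⟨d, hd, hd1⟩ := exists_ne_one (hS.ne_bot D hD)
      obtain ⟨a, ha, -, he⟩ := h.cond_right d⁻¹ (inv_mem hd) (inv_ne_one.2 hd1)
      rw [inv_inv] at he
      refine hz₁1 (central_line hS hX hcZ hline hD h hz₁ fun v hv => ?_)
      have := hk d hd hd1 a ha he z₁ hz₁ (fun w hw => by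
        rw [show a * w * a⁻¹ * w⁻¹ = 1 by rw [bracket_eq_bot.1 e a ha w hw]; group, one_mul, mul_one]) v hv
      have hw' : d * z₁ * d⁻¹ * z₁⁻¹ ∈ ⁅D, Z⁆ := Subgroup.commutator_mem_commutator hd hz₁
      rwa [bracket_eq_bot.1 e a ha _ hw', mul_inv_cancel_right, mul_inv_cancel, one_mul] at this
    · exact absurd (central_line hS hX hcZ hline hW e hz₁ fun w hw => hZW z₁ hz₁ w hw) hz₁1
    · exact e
  have hXZ' := (commCase_comm hXW).1
  have hWZ' := (commCase_comm hXW).2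
  have hkey : ∀ d ∈ D, d ≠ 1 → ∀ a ∈ X, a ≠ 1 → Cfsg.conjBy D a⁻¹ = Cfsg.conjBy X d → ∀ z ∈ Z,
      a * (d * z * d⁻¹ * z⁻¹) * a⁻¹ * (d * z * d⁻¹ * z⁻¹)⁻¹ = z⁻¹ := by
    intro d hd hd1 a ha ha1 he z hz
    set w := d * z * d⁻¹ * z⁻¹ with hw
    have hwW : w ∈ ⁅D, Z⁆ := Subgroup.commutator_mem_commutator hd hz
    set c := a * w * a⁻¹ * w⁻¹ with hc
    have hcm : ∀ u ∈ ⁅D, Z⁆, a * u * a⁻¹ * u⁻¹ ∈ ⁅X, ⁅D, Z⁆⁆ := fun u hu =>
      Subgroup.commutator_mem_commutator ha hu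
    have hkD := hk d hd hd1 a ha he z hz fun u hu => (hWZ' u hu _ (hcm u hu)).symm
    rw [← hw, ← hc] at hkD
    by_cases hz1 : z = 1
    · rw [hc, hw, hz1]; group
    by_contra hne
    have hk1 : c * z ≠ 1 := fun e => hne (eq_inv_of_mul_eq_one_left e)
    have hwc : Commute w c := hWZ' w hwW c (hcm w hwW)
    have hwz : Commute w z := (hZW z hz w hwW).symm
    have hkw : ∀ v ∈ Cfsg.conjBy X w, c * z * v = v * (c * z) := by
      rintro v ⟨x, hx, rfl⟩
      show Commute (c * z) (w * x * w⁻¹)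
      have hw' : Commute (c * z) w := (hwc.mul_right hwz).symm
      have hx' : Commute (c * z) x :=
        (show Commute c x from (hXZ' x hx c (hcm w hwW)).symm).mul_left (hcZ x hx z hz).symm
      exact (hw'.mul_right hx').mul_right hw'.inv_right
    have hconjD : Cfsg.conjBy D w = D := conjBy_of_centralizes fun v hv => (hDW v hv w hwW).symm
    have hp' := rankPair_conj h w
    rw [hconjD] at hp'
    have hwa : a * c⁻¹ = w * a * w⁻¹ := by
      rw [hXZ' a ha _ (inv_mem (hcm w hwW))]; group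
    have hr : a * c⁻¹ ∈ Cfsg.conjBy X w := ⟨a, ha, hwa.symm⟩
    have hr1 : a * c⁻¹ ≠ 1 := by
      intro e
      rw [hwa, conj_eq_one_iff] at e
      exact ha1 e
    refine central_translate_not_root hS (hS.conj_mem X hX w) hD hp' hr hr1
      (commute_sup hkw hkD) hk1 ?_
    rw [hkw _ hr, show a * c⁻¹ * (c * z) = a * z by group]
    exact hline a ha ha1 z hz hz1
  have hex : ∀ d ∈ D, d ≠ 1 → ∃ a ∈ X, a ≠ 1 ∧ Cfsg.conjBy D a⁻¹ = Cfsg.conjBy X d := by
    intro d hd hd1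
    obtain ⟨a, ha, ha1, he⟩ := h.cond_right d⁻¹ (inv_mem hd) (inv_ne_one.2 hd1)
    rw [inv_inv] at he
    exact ⟨a, ha, ha1, he⟩
  refine ⟨hDZ, hXW, le_antisymm ?_ fun z hz => ?_, fun d hd hd1 => ?_⟩
  · obtain ⟨d, hd, hd1⟩ := exists_ne_one (hS.ne_bot D hD)
    obtain ⟨a, ha, ha1, he⟩ := hex d hd hd1
    rw [← hXW.2.2.1 a ha ha1, Subgroup.closure_le]
    rintro _ ⟨w, hw, rfl⟩
    obtain ⟨z, hz, rfl⟩ := commCase_image hDZ hd hd1 hw
    show a * (d * z * d⁻¹ * z⁻¹) * a⁻¹ * (d * z * d⁻¹ * z⁻¹)⁻¹ ∈ Z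
    rw [hkey d hd hd1 a ha ha1 he z hz]
    exact inv_mem hz
  · obtain ⟨d, hd, hd1⟩ := exists_ne_one (hS.ne_bot D hD)
    obtain ⟨a, ha, ha1, he⟩ := hex d hd hd1
    rw [← inv_inv z, ← hkey d hd hd1 a ha ha1 he z hz]
    exact inv_mem (Subgroup.commutator_mem_commutator ha (Subgroup.commutator_mem_commutator hd hz))
  · obtain ⟨a, ha, ha1, he⟩ := hex d hd hd1
    exact ⟨a, ha, ha1, he, hkey d hd hd1 a ha ha1 he⟩

include hS hX hD h hZ hcZ hline in
/-- A member contained in `Z` is `Z`. -/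
theorem eq_of_le_line {M : Subgroup G} (hM : M ∈ S) (hle : M ≤ Z) : M = Z := by
  obtain ⟨m, hm, hm1⟩ := exists_ne_one (hS.ne_bot M hM)
  by_cases hr : Cfsg.IsRankOnePair D Z
  · exact eq_of_mem_inter hS hZ hD (Cfsg.RankOnePair_symm hr) hM (hle hm) hm1 hm
  by_cases hr' : Cfsg.IsRankOnePair D M
  · exact (eq_of_mem_inter hS hM hD (Cfsg.RankOnePair_symm hr') hZ hm hm1 (hle hm)).symm
  obtain ⟨-, hXW, hZe, -⟩ := line_bracket hS hX hD h hZ hcZ hline hr
  obtain ⟨-, hXW', hMe, hkey⟩ := line_bracket hS hX hD h hM (fun x hx z hz => hcZ x hx z (hle hz))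
    (fun x hx hx1 z hz => hline x hx hx1 z (hle hz)) hr'
  obtain ⟨d, hd, hd1⟩ := exists_ne_one (hS.ne_bot D hD)
  obtain ⟨a, ha, -, -, hk⟩ := hkey d hd hd1
  have hwM : d * m * d⁻¹ * m⁻¹ ∈ ⁅D, M⁆ := Subgroup.commutator_mem_commutator hd hm
  have hwZ : d * m * d⁻¹ * m⁻¹ ∈ ⁅D, Z⁆ := Subgroup.commutator_mem_commutator hd (hle hm)
  have hw1 : d * m * d⁻¹ * m⁻¹ ≠ 1 := fun e => by
    have := hk m hm
    rw [e] at this
    exact hm1 (by simpa using this.symm)
  rw [← hMe, ← hXW'.2.2.2 _ hwM hw1, hXW.2.2.2 _ hwZ hw1, hZe]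

end line

/-- If the commutator of a member with a partner is a member, the pair is a commutator pair. -/
theorem commCase_of_bracket_mem (hS : Cfsg.IsRootSubgroupSet S) {A B : Subgroup G} (hA : A ∈ S) (hB : B ∈ S)
    (hC : ⁅A, B⁆ ∈ S) : Cfsg.RootCommutatorCase S A B := by
  rcases hS.pair A hA B hB with e | h | e
  · exact absurd e (hS.ne_bot _ hC)
  swap
  · exact e
  exfalso
  set C := ⁅A, B⁆ with hCdef
  have hnA : A ≤ Subgroup.normalizer (C : Set G) := Subgroup.normalizer_commutator_ge_left _ _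
  have hnB : B ≤ Subgroup.normalizer (C : Set G) := Subgroup.normalizer_commutator_ge_right _ _
  have htrans : ∀ a ∈ A, a ≠ 1 → ∀ g z : G, g * a * g⁻¹ = z * a → (∀ x ∈ A ⊔ B, z * x = x * z) → z = 1 := by
    intro a ha ha1 g z e hz
    by_contra hz1
    refine central_translate_not_root hS hA hB h ha ha1 hz hz1 ?_
    rw [← e]
    exact rootElements_conj hS (mem_rootElements hA ha ha1) g
  have hcomm : ∀ a ∈ A, ∀ c ∈ C, a * c = c * a := by
    rcases hS.pair A hA C hC with e | e | e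
    · exact bracket_eq_bot.1 e
    · exfalso
      obtain ⟨x, hx, hAx⟩ := mem_right (Cfsg.RankOnePair_symm e)
      have : x ∈ Subgroup.normalizer (C : Set G) := sup_le Subgroup.le_normalizer hnA hx
      exact e.ne (hAx.trans (normalizer_iff.1 this))
    -- the commutator case
    intro a ha c hc
    by_cases ha1 : a = 1
    · rw [ha1, one_mul, mul_one]
    have hB' : B ≤ A ⊔ C := by
      obtain ⟨x, hx, hBx⟩ := mem_right h
      intro b hb
      rw [hBx] at hb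
      obtain ⟨a', ha', rfl⟩ := hb
      have key : A ⊔ B ≤ Subgroup.normalizer ((A ⊔ C : Subgroup G) : Set G) := by
        refine sup_le (le_sup_left.trans Subgroup.le_normalizer) fun b hb => ?_
        refine (Subgroup.le_normalizer_iff_commutator_le_left (H := B) (K := A ⊔ C)).2 ?_ hb
        rw [Subgroup.commutator_le]
        intro u hu v hv
        have hu' : u ∈ Subgroup.closure ((A : Set G) ∪ C) := by
          rwa [Subgroup.closure_union, Subgroup.closure_eq, Subgroup.closure_eq]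
        clear hu
        have hbn : ∀ g ∈ (A : Set G) ∪ C, v * g * v⁻¹ ∈ A ⊔ C := by
          rintro g (hg | hg)
          · have h1 : g * v * g⁻¹ * v⁻¹ ∈ C := Subgroup.commutator_mem_commutator hg hv
            rw [show v * g * v⁻¹ = (g * v * g⁻¹ * v⁻¹)⁻¹ * g by group]
            exact mul_mem (Subgroup.mem_sup_right (inv_mem h1)) (Subgroup.mem_sup_left hg)
          · exact Subgroup.mem_sup_right ((Subgroup.mem_normalizer_iff.1 (hnB hv) g).1 hg)
        have hu2 : v * u * v⁻¹ ∈ A ⊔ C := by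
          induction hu' using Subgroup.closure_induction with
          | mem g hg => exact hbn g hg
          | one => rw [mul_one, mul_inv_cancel]; exact one_mem _
          | mul g k _ _ ig ik =>
            rw [show v * (g * k) * v⁻¹ = (v * g * v⁻¹) * (v * k * v⁻¹) by group]; exact mul_mem ig ik
          | inv g _ ig => rw [show v * g⁻¹ * v⁻¹ = (v * g * v⁻¹)⁻¹ by group]; exact inv_mem ig
        have hu3 : u ∈ A ⊔ C := by rwa [← Subgroup.closure_eq A, ← Subgroup.closure_eq C, ← Subgroup.closure_union]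
        rw [commutatorElement_def, show u * v * u⁻¹ * v⁻¹ = u * (v * u * v⁻¹)⁻¹ by group]
        exact mul_mem hu3 (inv_mem hu2)
      exact ((Subgroup.mem_normalizer_iff.1 (key hx)) a').1 (Subgroup.mem_sup_left ha')
    by_contra hne
    have hT : c * a * c⁻¹ * a⁻¹ ∈ ⁅A, C⁆ := by
      rw [Subgroup.commutator_comm]; exact Subgroup.commutator_mem_commutator hc ha
    have hz := htrans a ha ha1 c _ (by group : c * a * c⁻¹ = c * a * c⁻¹ * a⁻¹ * a)
      (fun x hx => e.2.1 _ hT x (sup_le le_sup_left hB' hx))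
    exact hne (mul_inv_eq_iff_eq_mul.1 (mul_inv_eq_one.1 hz)).symm
  have hcB : ∀ b ∈ B, ∀ c ∈ C, b * c = c * b := by
    obtain ⟨x, hx, hBx⟩ := mem_right h
    intro b hb c hc
    have hxn := inv_mem (sup_le hnA hnB hx)
    rw [hBx] at hb
    obtain ⟨a, ha, rfl⟩ := hb
    have := hcomm a ha _ ((Subgroup.mem_normalizer_iff.1 hxn c).1 hc)
    show Commute (x * a * x⁻¹) c
    have h2 : Commute a (x⁻¹ * c * x) := by
      show a * (x⁻¹ * c * x) = x⁻¹ * c * x * a
      simpa using this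
    have := congrArg (fun t => x * t * x⁻¹) h2.eq
    simpa [Commute, SemiconjBy, mul_assoc] using this
  refine rankPair_not_commute h (bracket_eq_bot.2 fun a ha b hb => ?_)
  by_cases ha1 : a = 1
  · rw [ha1, one_mul, mul_one]
  have hzC : b * a * b⁻¹ * a⁻¹ ∈ C := by
    rw [hCdef, Subgroup.commutator_comm]; exact Subgroup.commutator_mem_commutator hb ha
  have := htrans a ha ha1 b _ (by group : b * a * b⁻¹ = b * a * b⁻¹ * a⁻¹ * a)
    (commute_sup (fun x hx => (hcomm x hx _ hzC).symm) (fun x hx => (hcB x hx _ hzC).symm))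
  exact (mul_inv_eq_iff_eq_mul.1 (mul_inv_eq_one.1 this)).symm

end Cfsg.Agent.Timmesfeld
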