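import Cfsg.Agent.Lib.Timmesfeld.Basic
import Mathlib.LinearAlgebra.Matrix.SpecialLinearGroup

/-!
# `SL₂` is a special rank one group
-/

set_option autoImplicit false

namespace Cfsg.Agent.Timmesfeld

variable {k : Type*} [Field k]

/-- The lower unitriangular matrix with entry `x`. -/
def lowerSL (x : k) : Matrix.SpecialLinearGroup (Fin 2) k := ⟨!![1, 0; x, 1], by simp [Matrix.det_fin_two]⟩

/-- The upper unitriangular matrix with entry `y`. -/
def upperSL (y : k) : Matrix.SpecialLinearGroup (Fin 2) k := ⟨!![1, y; 0, 1], by simp [Matrix.det_fin_two]⟩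

@[simp] theorem lowerSL_coe (x : k) : (lowerSL x : Matrix (Fin 2) (Fin 2) k) = !![1, 0; x, 1] := rfl

@[simp] theorem upperSL_coe (y : k) : (upperSL y : Matrix (Fin 2) (Fin 2) k) = !![1, y; 0, 1] := rfl

theorem lowerSL_mul (x y : k) : lowerSL x * lowerSL y = lowerSL (x + y) := by
  ext i j; fin_cases i <;> fin_cases j <;>
    simp [Matrix.SpecialLinearGroup.coe_mul, Matrix.mul_apply, Fin.sum_univ_two]

theorem upperSL_mul (x y : k) : upperSL x * upperSL y = upperSL (x + y) := by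
  ext i j; fin_cases i <;> fin_cases j <;>
    simp [Matrix.SpecialLinearGroup.coe_mul, Matrix.mul_apply, Fin.sum_univ_two, add_comm]

theorem lowerSL_zero : lowerSL (0 : k) = 1 := by
  ext i j; fin_cases i <;> fin_cases j <;> simp

theorem upperSL_zero : upperSL (0 : k) = 1 := by
  ext i j; fin_cases i <;> fin_cases j <;> simp

theorem lowerSL_inv (x : k) : (lowerSL x)⁻¹ = lowerSL (-x) :=
  inv_eq_of_mul_eq_one_right (by rw [lowerSL_mul, add_neg_cancel, lowerSL_zero])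

theorem upperSL_inv (x : k) : (upperSL x)⁻¹ = upperSL (-x) :=
  inv_eq_of_mul_eq_one_right (by rw [upperSL_mul, add_neg_cancel, upperSL_zero])

theorem mem_lower {g : Matrix.SpecialLinearGroup (Fin 2) k} :
    g ∈ Cfsg.lowerUnipotentSL2 k ↔ ∃ x, g = lowerSL x := by
  constructor
  · intro hg
    induction hg using Subgroup.closure_induction with
    | mem g hg =>
      obtain ⟨h1, h2, h3⟩ := hg
      refine ⟨g 1 0, ?_⟩
      ext i j; fin_cases i <;> fin_cases j <;> simp [h1, h2, h3]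
    | one => exact ⟨0, lowerSL_zero.symm⟩
    | mul a b _ _ iha ihb =>
      obtain ⟨x, rfl⟩ := iha; obtain ⟨y, rfl⟩ := ihb
      exact ⟨_, lowerSL_mul x y⟩
    | inv a _ iha =>
      obtain ⟨x, rfl⟩ := iha
      exact ⟨_, lowerSL_inv x⟩
  · rintro ⟨x, rfl⟩
    exact Subgroup.subset_closure ⟨by simp, by simp, by simp⟩

theorem mem_upper {g : Matrix.SpecialLinearGroup (Fin 2) k} :
    g ∈ Cfsg.upperUnipotentSL2 k ↔ ∃ x, g = upperSL x := by
  constructor
  · intro hg
    induction hg using Subgroup.closure_induction with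
    | mem g hg =>
      obtain ⟨h1, h2, h3⟩ := hg
      refine ⟨g 0 1, ?_⟩
      ext i j; fin_cases i <;> fin_cases j <;> simp [h1, h2, h3]
    | one => exact ⟨0, upperSL_zero.symm⟩
    | mul a b _ _ iha ihb =>
      obtain ⟨x, rfl⟩ := iha; obtain ⟨y, rfl⟩ := ihb
      exact ⟨_, upperSL_mul x y⟩
    | inv a _ iha =>
      obtain ⟨x, rfl⟩ := iha
      exact ⟨_, upperSL_inv x⟩
  · rintro ⟨x, rfl⟩
    exact Subgroup.subset_closure ⟨by simp, by simp, by simp⟩

theorem abelian_SL :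
    IsMulCommutative (Cfsg.lowerUnipotentSL2 k) ∧ IsMulCommutative (Cfsg.upperUnipotentSL2 k) := by
  refine ⟨⟨⟨fun a b => Subtype.ext ?_⟩⟩, ⟨⟨fun a b => Subtype.ext ?_⟩⟩⟩
  · obtain ⟨x, hx⟩ := mem_lower.1 a.2
    obtain ⟨y, hy⟩ := mem_lower.1 b.2
    show a.1 * b.1 = b.1 * a.1
    rw [hx, hy, lowerSL_mul, lowerSL_mul, add_comm]
  · obtain ⟨x, hx⟩ := mem_upper.1 a.2
    obtain ⟨y, hy⟩ := mem_upper.1 b.2
    show a.1 * b.1 = b.1 * a.1
    rw [hx, hy, upperSL_mul, upperSL_mul, add_comm]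

theorem conj_lower {x : k} (hx : x ≠ 0) (t : k) :
    upperSL (-(1 / x)) * lowerSL t * upperSL (1 / x) = lowerSL (-x) * upperSL (-(t / x ^ 2)) * lowerSL x := by
  ext i j; fin_cases i <;> fin_cases j <;>
    simp [Matrix.SpecialLinearGroup.coe_mul, Matrix.mul_apply, Fin.sum_univ_two] <;>
    field_simp <;> ring

theorem conjBy_lower {x : k} (hx : x ≠ 0) :
    Cfsg.conjBy (Cfsg.lowerUnipotentSL2 k) (upperSL (1 / x))⁻¹ =
      Cfsg.conjBy (Cfsg.upperUnipotentSL2 k) (lowerSL x)⁻¹ := by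
  ext g
  constructor
  · rintro ⟨h, hh, rfl⟩
    obtain ⟨t, rfl⟩ := mem_lower.1 hh
    refine ⟨upperSL (-(t / x ^ 2)), mem_upper.2 ⟨_, rfl⟩, ?_⟩
    show (lowerSL x)⁻¹ * _ * (lowerSL x)⁻¹⁻¹ = (upperSL (1 / x))⁻¹ * _ * (upperSL (1 / x))⁻¹⁻¹
    rw [inv_inv, inv_inv, lowerSL_inv, upperSL_inv, conj_lower hx]
  · rintro ⟨h, hh, rfl⟩
    obtain ⟨y, rfl⟩ := mem_upper.1 hh
    refine ⟨lowerSL (-(y * x ^ 2)), mem_lower.2 ⟨_, rfl⟩, ?_⟩
    show (upperSL (1 / x))⁻¹ * _ * (upperSL (1 / x))⁻¹⁻¹ = (lowerSL x)⁻¹ * _ * (lowerSL x)⁻¹⁻¹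
    rw [inv_inv, inv_inv, lowerSL_inv, upperSL_inv, conj_lower hx]
    congr 3
    field_simp

theorem lowerSL_ne_one {x : k} (h : lowerSL x ≠ 1) : x ≠ 0 := fun e => h (e ▸ lowerSL_zero)

theorem upperSL_ne_one {x : k} (h : upperSL x ≠ 1) : x ≠ 0 := fun e => h (e ▸ upperSL_zero)

theorem special_SL :
    Cfsg.IsRankOneGroup (Matrix.SpecialLinearGroup (Fin 2) k) (Cfsg.lowerUnipotentSL2 k)
        (Cfsg.upperUnipotentSL2 k) ∧
      Cfsg.IsSpecialRankOnePair (Cfsg.lowerUnipotentSL2 k) (Cfsg.upperUnipotentSL2 k) := by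
  have h1ne : ∀ {x : k}, x ≠ 0 → upperSL x ≠ 1 := fun {x} hx e => hx (by
    simpa using congrArg (fun M : Matrix.SpecialLinearGroup (Fin 2) k => M 0 1) e)
  have h2ne : ∀ {x : k}, x ≠ 0 → lowerSL x ≠ 1 := fun {x} hx e => hx (by
    simpa using congrArg (fun M : Matrix.SpecialLinearGroup (Fin 2) k => M 1 0) e)
  have hp : Cfsg.IsRankOnePair (Cfsg.lowerUnipotentSL2 k) (Cfsg.upperUnipotentSL2 k) := by
    obtain ⟨hl, hu⟩ := abelian_SL (k := k)
    refine ⟨fun e => ?_, ?_, ?_, ?_, ?_⟩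
    · obtain ⟨y, hy⟩ := mem_upper.1 (e ▸ mem_lower.2 ⟨(1 : k), rfl⟩)
      have := congrArg (fun M : Matrix.SpecialLinearGroup (Fin 2) k => M 1 0) hy
      simp at this
    · letI : CommGroup (Cfsg.lowerUnipotentSL2 k) :=
        { (inferInstance : Group (Cfsg.lowerUnipotentSL2 k)) with mul_comm := hl.is_comm.comm }
      infer_instance
    · letI : CommGroup (Cfsg.upperUnipotentSL2 k) :=
        { (inferInstance : Group (Cfsg.upperUnipotentSL2 k)) with mul_comm := hu.is_comm.comm }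
      infer_instance
    · intro a ha ha1
      obtain ⟨x, rfl⟩ := mem_lower.1 ha
      have hx := lowerSL_ne_one ha1
      exact ⟨_, mem_upper.2 ⟨1 / x, rfl⟩, h1ne (by simpa using hx), conjBy_lower hx⟩
    · intro b hb hb1
      obtain ⟨y, rfl⟩ := mem_upper.1 hb
      have hy := upperSL_ne_one hb1
      refine ⟨_, mem_lower.2 ⟨1 / y, rfl⟩, h2ne (by simpa using hy), ?_⟩
      have := conjBy_lower (x := 1 / y) (by simpa using hy)
      rw [one_div_one_div] at this
      exact this.symm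
  refine ⟨⟨?_, hp⟩, hp, ?_⟩
  · refine le_antisymm le_top fun M _ => Matrix.SL2.transvection_induction _ (fun i j hij c => ?_)
      (fun _ _ ha hb => mul_mem ha hb) M
    fin_cases i <;> fin_cases j <;> first | exact absurd rfl hij | skip
    · refine Subgroup.mem_sup_right (mem_upper.2 ⟨c, ?_⟩)
      ext i j; fin_cases i <;> fin_cases j <;> simp [Matrix.SpecialLinearGroup.transvection_coe, Matrix.transvection]
    · refine Subgroup.mem_sup_left (mem_lower.2 ⟨c, ?_⟩)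
      ext i j; fin_cases i <;> fin_cases j <;> simp [Matrix.SpecialLinearGroup.transvection_coe, Matrix.transvection]
  · intro a ha ha1 b hb hb1 he
    obtain ⟨x, rfl⟩ := mem_lower.1 ha
    have hx := lowerSL_ne_one ha1
    have hu : upperSL (1 / x) ∈ Cfsg.upperUnipotentSL2 k := mem_upper.2 ⟨_, rfl⟩
    obtain rfl : b = upperSL (1 / x) :=
      inv_injective (conjBy_inj_right hp (inv_mem hb) (inv_mem hu) (he.trans (conjBy_lower hx).symm))
    have : x / x ^ 2 = 1 / x := by field_simp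
    rw [lowerSL_inv, upperSL_inv, conj_lower hx, this]

end Cfsg.Agent.Timmesfeld
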