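import Cfsg.Agent.Lib.Timmesfeld.Line

/-!
# Lines, components and classes of abstract root subgroups
-/

set_option autoImplicit false

namespace Cfsg.Agent.Timmesfeld

open scoped Pointwise

variable {G : Type*} [Group G] {S : Set (Subgroup G)}

theorem exists_partner {A : Subgroup G} (hA : ¬ Cfsg.IsIsolatedIn (Cfsg.FAdj S) S A) (hAS : A ∈ S) :
    ∃ D ∈ S, Cfsg.IsRankOnePair A D := by
  by_contra hno
  push Not at hno
  refine hA ⟨hAS, fun B => ⟨?_, ?_⟩⟩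
  · rintro ⟨-, hB, h⟩; exact hno B hB h
  · rintro ⟨hB, -, h⟩; exact hno B hB (Cfsg.RankOnePair_symm h)

/-- The members inside the line through `A` and `⁅A, B⁆`. -/
theorem line_description (hS : Cfsg.IsRootSubgroupSet S) {A B D : Subgroup G} (hA : A ∈ S) (hB : B ∈ S)
    (hD : D ∈ S) (hAD : Cfsg.IsRankOnePair A D) (hC : ⁅A, B⁆ ∈ S) :
    Cfsg.membersIn S (A ⊔ ⁅A, B⁆) = (fun b : G => Cfsg.conjBy A b) '' (B : Set G) ∪ {⁅A, B⁆} ∧
    Cfsg.IsSubgroupPartition (A ⊔ ⁅A, B⁆) (Cfsg.membersIn S (A ⊔ ⁅A, B⁆)) ∧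
    A ∈ Cfsg.linePartners S ⁅A, B⁆ ∧
    ∀ a ∈ A, a ≠ 1 → ∃ φ : ↥B ≃* ↥⁅A, B⁆, ∀ b : ↥B, (φ b : G) = a⁻¹ * (b : G)⁻¹ * a * b := by
  have hAB := commCase_of_bracket_mem hS hA hB hC
  set C := ⁅A, B⁆ with hCdef
  have hAC := (commCase_comm hAB).1
  have hBC := (commCase_comm hAB).2
  have hCne : C ≠ ⊥ := hS.ne_bot C hC
  have hne : A ≠ C := by
    intro e
    refine hCne ?_
    rw [hCdef, bracket_eq_bot]
    exact fun a ha b hb => (hBC b hb a (e ▸ ha : a ∈ C)).symm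
  have hdec : ∀ m ∈ A ⊔ C, ∃ a ∈ A, ∃ c ∈ C, m = a * c := by
    intro m hm
    have h1 : (m : G) ∈ ((A : Set G) * (C : Set G)) := by
      rw [← Subgroup.coe_mul_of_left_le_normalizer_right A C (Subgroup.normalizer_commutator_ge_left _ _)]
      exact hm
    obtain ⟨a, ha, c, hc, rfl⟩ := h1
    exact ⟨a, ha, c, hc, rfl⟩
  -- an element outside `C` lies in a conjugate of `A`
  have hconj : ∀ a ∈ A, a ≠ 1 → ∀ c ∈ C, ∀ M ∈ S, a * c ∈ M → ∃ b ∈ B, M = Cfsg.conjBy A b := by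
    intro a ha ha1 c hc M hM hm
    obtain ⟨b, hb, he⟩ := commCase_line hS hA hAB ha ha1 hc
    exact ⟨b, hb, eq_of_mem_inter hS (hS.conj_mem A hA b) (hS.conj_mem D hD b) (rankPair_conj hAD b) hM
      ⟨a, ha, he⟩ (fun e => ha1 (conj_eq_one_iff.1 (he.trans e))) hm⟩
  have hsmall : ∀ M ∈ S, M ≤ C → M = C := fun M hM hle =>
    eq_of_le_line hS hA hD hAD hC hAC (fun x hx hx1 z hz _ => by
      obtain ⟨b, hb, he⟩ := commCase_line hS hA hAB hx hx1 hz
      rw [← he]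
      exact rootElements_conj hS (mem_rootElements hA hx hx1) b) hM hle
  have hBfix : ∀ b ∈ B, Cfsg.conjBy C b = C := fun b hb => conjBy_of_centralizes fun c hc => hBC b hb c hc
  have hmem : Cfsg.membersIn S (A ⊔ C) = (fun b : G => Cfsg.conjBy A b) '' (B : Set G) ∪ {C} := by
    ext M
    constructor
    · rintro ⟨hM, hle⟩
      by_cases hMC : M ≤ C
      · exact Or.inr (hsmall M hM hMC)
      obtain ⟨m, hm, hmC⟩ := SetLike.not_le_iff_exists.1 hMC
      obtain ⟨a, ha, c, hc, rfl⟩ := hdec m (hle hm)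
      obtain ⟨b, hb, rfl⟩ := hconj a ha (fun e => hmC (by rw [e, one_mul]; exact hc)) c hc M hM hm
      exact Or.inl ⟨b, hb, rfl⟩
    · rintro (⟨b, hb, rfl⟩ | rfl)
      · refine ⟨hS.conj_mem A hA b, ?_⟩
        rintro _ ⟨a, ha, rfl⟩
        have h1 : a * b * a⁻¹ * b⁻¹ ∈ C := Subgroup.commutator_mem_commutator ha hb
        show b * a * b⁻¹ ∈ A ⊔ C
        rw [show b * a * b⁻¹ = (a * b * a⁻¹ * b⁻¹)⁻¹ * a by group]
        exact mul_mem (Subgroup.mem_sup_right (inv_mem h1)) (Subgroup.mem_sup_left ha)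
      · exact ⟨hC, le_sup_right⟩
  have hpart : Cfsg.IsSubgroupPartition (A ⊔ C) (Cfsg.membersIn S (A ⊔ C)) := by
    refine ⟨fun M hM => hM.2, fun x hx hx1 => ?_, fun M hM M' hM' hMM' => ?_⟩
    · obtain ⟨a, ha, c, hc, rfl⟩ := hdec x hx
      by_cases ha1 : a = 1
      · exact ⟨C, ⟨hC, le_sup_right⟩, by rw [ha1, one_mul]; exact hc⟩
      · obtain ⟨b, hb, he⟩ := commCase_line hS hA hAB ha ha1 hc
        exact ⟨Cfsg.conjBy A b, hmem ▸ Or.inl ⟨b, hb, rfl⟩, ⟨a, ha, he⟩⟩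
    · rw [Subgroup.eq_bot_iff_forall]
      rintro m ⟨hm, hm'⟩
      by_contra hm1
      refine hMM' ?_
      obtain ⟨a, ha, c, hc, rfl⟩ := hdec m (hM.2 hm)
      by_cases ha1 : a = 1
      · rw [ha1, one_mul] at hm hm' hm1
        have key : ∀ N ∈ Cfsg.membersIn S (A ⊔ C), c ∈ N → N = C := by
          intro N hN hcN
          rw [hmem] at hN
          rcases hN with ⟨b, hb, rfl⟩ | rfl
          · exact absurd (conjBy_inj ((eq_of_mem_inter hS (hS.conj_mem A hA b) (hS.conj_mem D hD b)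
              (rankPair_conj hAD b) hC hcN hm1 hc).symm.trans (hBfix b hb).symm)) hne
          · rfl
        rw [key M hM hm, key M' hM' hm']
      · obtain ⟨b, hb, he⟩ := commCase_line hS hA hAB ha ha1 hc
        have key : ∀ N ∈ S, a * c ∈ N → N = Cfsg.conjBy A b := fun N hN hm =>
          eq_of_mem_inter hS (hS.conj_mem A hA b) (hS.conj_mem D hD b) (rankPair_conj hAD b) hN
            ⟨a, ha, he⟩ hm1 hm
        rw [key M hM.1 hm, key M' hM'.1 hm']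
  refine ⟨hmem, hpart, ⟨⟨hA, hne, bracket_eq_bot.2 fun c hc a ha => (hAC a ha c hc).symm⟩, ?_⟩, ?_⟩
  · rwa [sup_comm]
  intro a ha ha1
  have hcm : ∀ b ∈ B, a⁻¹ * b⁻¹ * a * b ∈ C := fun b hb => by
    have := Subgroup.commutator_mem_commutator (inv_mem ha : a⁻¹ ∈ A) (inv_mem hb : b⁻¹ ∈ B)
    rwa [commutatorElement_def, inv_inv, inv_inv] at this
  let f : ↥B →* ↥C := MonoidHom.mk' (fun b => ⟨_, hcm b b.2⟩) fun b b' => Subtype.ext (by
    show a⁻¹ * (b.1 * b'.1)⁻¹ * a * (b.1 * b'.1) = (a⁻¹ * b.1⁻¹ * a * b.1) * (a⁻¹ * b'.1⁻¹ * a * b'.1)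
    calc a⁻¹ * (b.1 * b'.1)⁻¹ * a * (b.1 * b'.1)
        = (a⁻¹ * b'.1⁻¹ * a) * (a⁻¹ * b.1⁻¹ * a * b.1) * b'.1 := by group
      _ = (a⁻¹ * b'.1⁻¹ * a) * (b'.1 * (a⁻¹ * b.1⁻¹ * a * b.1)) := by
          rw [hBC _ b'.2 _ (hcm _ b.2)]; group
      _ = (a⁻¹ * b'.1⁻¹ * a * b'.1) * (a⁻¹ * b.1⁻¹ * a * b.1) := by group
      _ = _ := by
          have := hS.commutative C hC
          exact congrArg Subtype.val (mul_comm' (⟨_, hcm _ b'.2⟩ : C) ⟨_, hcm _ b.2⟩))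
  have hinj : Function.Injective f := by
    rw [injective_iff_map_eq_one]
    intro b hb
    by_contra hb1
    have hab : (b : G) * a = a * b := by
      have h1 : a⁻¹ * (b : G)⁻¹ * a * b = 1 := congrArg Subtype.val hb
      calc (b : G) * a = b * a * (a⁻¹ * (b : G)⁻¹ * a * b) := by rw [h1, mul_one]
        _ = _ := by group
    have hfix : Cfsg.conjBy A (b : G) = A := eq_of_mem_inter hS hA hD hAD (hS.conj_mem A hA _) ha ha1
      ⟨a, ha, show (b : G) * a * (b : G)⁻¹ = a by rw [hab, mul_inv_cancel_right]⟩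
    have hle : C ≤ A := by
      rw [hCdef, ← hAB.2.2.2 _ b.2 (fun e => hb1 (Subtype.ext e)), Subgroup.closure_le]
      rintro _ ⟨a', ha', rfl⟩
      have h1 : (b : G) * a'⁻¹ * (b : G)⁻¹ ∈ Cfsg.conjBy A (b : G) := ⟨a'⁻¹, inv_mem ha', rfl⟩
      rw [hfix] at h1
      simpa [mul_assoc] using mul_mem ha' h1
    obtain ⟨c, hc, hc1⟩ := exists_ne_one hCne
    exact hne (eq_of_mem_inter hS hA hD hAD hC (hle hc) hc1 hc).symm
  have hsurj : Function.Surjective f := fun c => by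
    obtain ⟨b, hb, he⟩ := commCase_image hAB (inv_mem ha) (inv_ne_one.2 ha1) c.2
    refine ⟨⟨b⁻¹, inv_mem hb⟩, Subtype.ext ?_⟩
    show a⁻¹ * b⁻¹⁻¹ * a * b⁻¹ = c.1
    rw [← he]; group
  exact ⟨MulEquiv.ofBijective f ⟨hinj, hsurj⟩, fun b => rfl⟩

/-- Reachability in the graph of rank one pairs. -/
abbrev Reach (S : Set (Subgroup G)) : Subgroup G → Subgroup G → Prop := Relation.ReflTransGen (Cfsg.FAdj S)

theorem reach_symm {X Y : Subgroup G} (h : Reach S X Y) : Reach S Y X := by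
  induction h with
  | refl => exact .refl
  | tail _ hs ih => exact .head ⟨hs.2.1, hs.1, Cfsg.RankOnePair_symm hs.2.2⟩ ih

theorem reach_conj (hS : Cfsg.IsRootSubgroupSet S) {X Y : Subgroup G} (h : Reach S X Y) (g : G) :
    Reach S (Cfsg.conjBy X g) (Cfsg.conjBy Y g) := by
  induction h with
  | refl => exact .refl
  | tail _ hs ih => exact ih.tail ⟨hS.conj_mem _ hs.1 g, hS.conj_mem _ hs.2.1 g, rankPair_conj hs.2.2 g⟩

/-- Two members on a line, both with partners, are connected. -/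
theorem reach_of_line (hS : Cfsg.IsRootSubgroupSet S) {X Z D E : Subgroup G} (hX : X ∈ S) (hZ : Z ∈ S)
    (hD : D ∈ S) (hE : E ∈ S) (hXD : Cfsg.IsRankOnePair X D) (hZE : Cfsg.IsRankOnePair Z E)
    (hcZ : ∀ x ∈ X, ∀ z ∈ Z, x * z = z * x)
    (hline : ∀ x ∈ X, x ≠ 1 → ∀ z ∈ Z, z ≠ 1 → x * z ∈ Cfsg.rootElements S) : Reach S X Z := by
  by_cases h1 : Cfsg.IsRankOnePair D Z
  · exact (Relation.ReflTransGen.single ⟨hX, hD, hXD⟩).tail ⟨hD, hZ, h1⟩
  by_cases h2 : Cfsg.IsRankOnePair E X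
  · exact reach_symm ((Relation.ReflTransGen.single ⟨hZ, hE, hZE⟩).tail ⟨hE, hX, h2⟩)
  obtain ⟨hDZ, hXW, hZ', -⟩ := line_bracket hS hX hD hXD hZ hcZ hline h1
  obtain ⟨hEX, hZV, hX', -⟩ := line_bracket hS hZ hE hZE hX (fun z hz x hx => (hcZ x hx z hz).symm)
    (fun z hz hz1 x hx hx1 => by rw [← hcZ x hx z hz]; exact hline x hx hx1 z hz hz1) h2
  obtain ⟨x, hx, hx1⟩ := exists_ne_one (hS.ne_bot X hX)
  obtain ⟨z, hz, hz1⟩ := exists_ne_one (hS.ne_bot Z hZ)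
  obtain ⟨w, hw, hwe⟩ := commCase_line hS hX hXW hx hx1 (c := z) (hZ'.symm ▸ hz)
  obtain ⟨v, hv, hve⟩ := commCase_line hS hZ hZV hz hz1 (c := x) (hX'.symm ▸ hx)
  have hDw : Cfsg.conjBy D w = D :=
    conjBy_of_centralizes fun d hd => ((commCase_comm hDZ).1 d hd w hw).symm
  have hEv : Cfsg.conjBy E v = E :=
    conjBy_of_centralizes fun e he => ((commCase_comm hEX).1 e he v hv).symm
  have hne : x * z ≠ 1 := (hline x hx hx1 z hz hz1).1
  have heq : Cfsg.conjBy Z v = Cfsg.conjBy X w :=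
    eq_of_mem_inter hS (hS.conj_mem X hX w) hD (hDw ▸ rankPair_conj hXD w) (hS.conj_mem Z hZ v)
      ⟨x, hx, hwe⟩ hne ⟨z, hz, hve.trans (hcZ x hx z hz).symm⟩
  have p1 : Reach S X (Cfsg.conjBy X w) := (Relation.ReflTransGen.single ⟨hX, hD, hXD⟩).tail
    ⟨hD, hS.conj_mem X hX w, Cfsg.RankOnePair_symm (hDw ▸ rankPair_conj hXD w)⟩
  have p2 : Reach S Z (Cfsg.conjBy Z v) := (Relation.ReflTransGen.single ⟨hZ, hE, hZE⟩).tail
    ⟨hE, hS.conj_mem Z hZ v, Cfsg.RankOnePair_symm (hEv ▸ rankPair_conj hZE v)⟩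
  rw [heq] at p2
  exact p1.trans (reach_symm p2)

theorem partner_of_component {A A' : Subgroup G} (hA' : A' ∈ Cfsg.componentOf (Cfsg.FAdj S) S A)
    (hne : A' ≠ A) : ∃ D ∈ S, Cfsg.IsRankOnePair A D := by
  rcases Relation.ReflTransGen.cases_head hA'.2 with e | ⟨D, ⟨-, hD, hp⟩, -⟩
  · exact absurd e.symm hne
  · exact ⟨D, hD, hp⟩

theorem not_line_of_components (hS : Cfsg.IsRootSubgroupSet S) {A B : Subgroup G} (hA : A ∈ S) (hB : B ∈ S)
    (hne : Cfsg.componentOf (Cfsg.FAdj S) S A ≠ Cfsg.componentOf (Cfsg.FAdj S) S B)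
    (hA2 : ∃ A' ∈ Cfsg.componentOf (Cfsg.FAdj S) S A, A' ≠ A)
    (hB2 : ∃ B' ∈ Cfsg.componentOf (Cfsg.FAdj S) S B, B' ≠ B) : B ∉ Cfsg.linePartners S A := by
  rintro ⟨⟨-, hBA, hc⟩, hpart⟩
  obtain ⟨A', hA', hA'ne⟩ := hA2
  obtain ⟨B', hB', hB'ne⟩ := hB2
  obtain ⟨D, hD, hAD⟩ := partner_of_component hA' hA'ne
  obtain ⟨E, hE, hBE⟩ := partner_of_component hB' hB'ne
  have hr : Reach S A B := reach_of_line hS hA hB hD hE hAD hBE (bracket_eq_bot.1 hc)
    fun x hx hx1 z hz _ => by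
      have hxz : x * z ≠ 1 := fun e => hBA (eq_of_mem_inter hS hA hD hAD hB hx hx1 (by
        rw [eq_inv_of_mul_eq_one_left e]; exact inv_mem hz))
      obtain ⟨M, hM, hm⟩ := hpart.2.1 _ (mul_mem (Subgroup.mem_sup_left hx) (Subgroup.mem_sup_right hz)) hxz
      exact mem_rootElements hM.1 hm hxz
  refine hne (Set.ext fun C => ⟨fun hC => ⟨hC.1, (reach_symm hr).trans hC.2⟩, fun hC => ⟨hC.1, hr.trans hC.2⟩⟩)

theorem connected_iff (hS : Cfsg.IsRootSubgroupSet S) (h2 : ∃ A ∈ S, ∃ B ∈ S, A ≠ B) :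
    Cfsg.IsConnectedFamily (Cfsg.FAdj S) S ↔
      (Cfsg.IsConjClassOfSubgroups S ∧ ∃ A ∈ S, ¬ Cfsg.IsIsolatedIn (Cfsg.FAdj S) S A) := by
  obtain ⟨A₀, hA₀, B₀, hB₀, hne⟩ := h2
  constructor
  · intro hc
    refine ⟨⟨⟨A₀, hA₀⟩, fun A hA B hB => ?_⟩, A₀, hA₀, fun hi => ?_⟩
    · have : ∀ B, Reach S A B → ∃ g : G, B = Cfsg.conjBy A g := by
        intro B hr
        induction hr with
        | refl => exact ⟨1, (conjBy_one A).symm⟩
        | tail _ hs ih =>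
          obtain ⟨g, hg⟩ := ih
          obtain ⟨x, -, hx⟩ := mem_right hs.2.2
          exact ⟨x * g, by rw [hx, hg, conjBy_conjBy]⟩
      exact this B (hc A hA B hB)
    · rcases Relation.ReflTransGen.cases_head (hc A₀ hA₀ B₀ hB₀) with e | ⟨D, hD, -⟩
      · exact hne e
      · exact (hi.2 D).1 hD
  · rintro ⟨⟨-, hconj⟩, A₁, hA₁, hni⟩
    obtain ⟨D₁, hD₁, hp₁⟩ := exists_partner hni hA₁
    have hpart : ∀ A ∈ S, ∃ D ∈ S, Cfsg.IsRankOnePair A D := fun A hA => by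
      obtain ⟨g, rfl⟩ := hconj A₁ hA₁ A hA
      exact ⟨_, hS.conj_mem D₁ hD₁ g, rankPair_conj hp₁ g⟩
    have hstep : ∀ C ∈ S, ∀ c ∈ C, ∀ X ∈ S, Reach S X (Cfsg.conjBy X c) := by
      intro C hC c hc X hX
      have hCc : Cfsg.conjBy C c = C := conjBy_self hc
      rcases hS.pair X hX C hC with e | e | e
      · rw [conjBy_of_centralizes fun x hx => (bracket_eq_bot.1 e x hx c hc).symm]
      · exact (Relation.ReflTransGen.single ⟨hX, hC, e⟩).tail
          ⟨hC, hS.conj_mem X hX c, Cfsg.RankOnePair_symm (hCc ▸ rankPair_conj e c)⟩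
      · obtain ⟨D, hD, hXD⟩ := hpart X hX
        obtain ⟨E, hE, hZE⟩ := hpart _ e.1
        have hr : Reach S X ⁅X, C⁆ := reach_of_line hS hX e.1 hD hE hXD hZE (commCase_comm e).1
          fun x hx hx1 z hz _ => by
            obtain ⟨b, hb, he⟩ := commCase_line hS hX e hx hx1 hz
            rw [← he]
            exact rootElements_conj hS (mem_rootElements hX hx hx1) b
        have hfix : Cfsg.conjBy ⁅X, C⁆ c = ⁅X, C⁆ :=
          conjBy_of_centralizes fun z hz => (commCase_comm e).2 c hc z hz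
        have := reach_conj hS hr c
        rw [hfix] at this
        exact hr.trans (reach_symm this)
    have hall : ∀ g : G, ∀ X ∈ S, Reach S X (Cfsg.conjBy X g) := by
      intro g
      have hg : g ∈ ⨆ A : S, (A : Subgroup G) := by
        rw [iSup_subtype'' S (fun A => A), hS.generates]
        exact Subgroup.mem_top g
      induction hg using Subgroup.iSup_induction' with
      | hp A c hc => exact hstep A A.2 c hc
      | h1 => intro X _; rw [conjBy_one]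
      | hmul c d _ _ ihc ihd =>
        intro X hX
        rw [← conjBy_conjBy]
        exact (ihc X hX).trans (reach_conj hS (ihd X hX) c)
    intro A hA B hB
    obtain ⟨g, rfl⟩ := hconj A hA B hB
    exact hall g A hA

end Cfsg.Agent.Timmesfeld
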