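import Cfsg.Agent.Lib.Timmesfeld.Nondeg

/-!
Containment of the sets of commuting members or of partners of two members forces equality.
-/

set_option autoImplicit false

namespace Cfsg.Agent.Timmesfeld

open scoped commutatorElement

variable {G : Type*} [Group G] {S : Set (Subgroup G)}

theorem rankPair_of_unipotent {A B C D : Subgroup G} (h : Cfsg.IsRankOnePair A B)
    (hC : C ∈ Cfsg.unipotentSubgroups A B) (hD : D ∈ Cfsg.unipotentSubgroups A B) (hne : C ≠ D) :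
    Cfsg.IsRankOnePair C D := by
  obtain ⟨x, -, rfl, rfl⟩ := exists_to_pair h hC hD hne
  exact rankPair_conj h x

/-- A transitive conjugation invariant relation never relating a rank one pair is symmetric on two commuting
members with a common partner. -/
theorem mirror (R : Subgroup G → Subgroup G → Prop) (htr : ∀ X Y Z, R X Y → R Y Z → R X Z)
    (hconj : ∀ X Y (g : G), R X Y → R (Cfsg.conjBy X g) (Cfsg.conjBy Y g))
    (hirr : ∀ X Y, R X Y → ¬ Cfsg.IsRankOnePair X Y) {A C Y : Subgroup G}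
    (hAC : ∀ a ∈ A, ∀ c ∈ C, a * c = c * a) (hYA : Cfsg.IsRankOnePair Y A) (hYC : Cfsg.IsRankOnePair Y C)
    (h : R A C) : R C A := by
  obtain ⟨y, hy, hy1⟩ := exists_ne_one (ne_bot_left hYA)
  obtain ⟨a, ha, ha1, hea⟩ := hYA.cond_left y hy hy1
  obtain ⟨c, hc, -, hec⟩ := hYC.cond_left y hy hy1
  obtain ⟨y', hy', hy'1, hea'⟩ := hYA.cond_right a⁻¹ (inv_mem ha) (inv_ne_one.2 ha1)
  obtain ⟨c', hc', -, hec'⟩ := hYC.cond_left y' hy' hy'1
  rw [inv_inv] at hea'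
  have h1 : R (Cfsg.conjBy Y a⁻¹) (Cfsg.conjBy Y c⁻¹) := by rw [hea, hec]; exact hconj _ _ _ h
  have h2 : R (Cfsg.conjBy Y a) (Cfsg.conjBy Y c'⁻¹) := by rw [← hea', hec']; exact hconj _ _ _ h
  have h1' := hconj _ _ c'⁻¹ h1
  have h2' := hconj _ _ a⁻¹ h2
  have hcom : c'⁻¹ * a⁻¹ = a⁻¹ * c'⁻¹ := (hAC _ (inv_mem ha) _ (inv_mem hc')).symm
  rw [conjBy_conjBy, conjBy_conjBy, inv_mul_cancel, conjBy_one] at h2'
  rw [conjBy_conjBy, conjBy_conjBy, hcom] at h1'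
  have h3 := htr _ _ _ h2' h1'
  have hd : c'⁻¹ * c⁻¹ = 1 := by
    by_contra hd
    have hdC : c'⁻¹ * c⁻¹ ∈ C := mul_mem (inv_mem hc') (inv_mem hc)
    refine hirr _ _ h3 (rankPair_of_unipotent hYC (mem_left hYC) (conj_mem (mem_left hYC)
      (Subgroup.mem_sup_right hdC)) fun e => hd ?_)
    exact eq_one_of_normalizes' hYC hdC e.symm
  have hc' : c'⁻¹ = c := by rw [mul_inv_eq_one.1 hd]
  rw [hc'] at h2
  have h4 := hconj _ _ (c⁻¹ * a⁻¹) h2
  rw [conjBy_conjBy, conjBy_conjBy, inv_mul_cancel_right,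
    show c⁻¹ * a⁻¹ = a⁻¹ * c⁻¹ from (hAC _ (inv_mem ha) _ (inv_mem hc)).symm, inv_mul_cancel_right, hec, hea] at h4
  have h5 := hconj _ _ y h4
  rwa [conjBy_conjBy, conjBy_conjBy, mul_inv_cancel, conjBy_one, conjBy_one] at h5

theorem mem_centralizing {A B : Subgroup G} :
    B ∈ Cfsg.centralizingMembers S A ↔ B ∈ S ∧ ∀ b ∈ B, ∀ a ∈ A, a * b = b * a :=
  and_congr_right fun _ =>
    ⟨fun h b hb a ha => Subgroup.mem_centralizer_iff.1 (h hb) a ha,
      fun h b hb => Subgroup.mem_centralizer_iff.2 fun a ha => h b hb a ha⟩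

theorem comm_conjBy {A B : Subgroup G} (h : ∀ b ∈ B, ∀ a ∈ A, a * b = b * a) (g : G) :
    ∀ b ∈ Cfsg.conjBy B g, ∀ a ∈ Cfsg.conjBy A g, a * b = b * a := by
  rintro _ ⟨b, hb, rfl⟩ _ ⟨a, ha, rfl⟩
  rw [← map_mul, ← map_mul, h b hb a ha]

theorem centralizing_eq (hS : Cfsg.IsRootSubgroupClass S) {A C : Subgroup G} (hA : A ∈ S) (hC : C ∈ S)
    (hsub : Cfsg.centralizingMembers S A ⊆ Cfsg.centralizingMembers S C) (hY : ∃ Y ∈ S, Cfsg.IsRankOnePair C Y) :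
    Cfsg.centralizingMembers S A = Cfsg.centralizingMembers S C := by
  obtain ⟨Y, hY, hCY⟩ := hY
  have hAC : ∀ a ∈ A, ∀ c ∈ C, a * c = c * a := fun a ha c hc =>
    ((mem_centralizing.1 (hsub (mem_centralizing.2 ⟨hA, fun x hx y hy => comm_left hS.1 hA y hy x hx⟩))).2 a ha c
      hc).symm
  have hncom : ∀ P Q : Subgroup G, Cfsg.IsRankOnePair P Q → ¬ ∀ b ∈ Q, ∀ a ∈ P, a * b = b * a := fun P Q h hc =>
    rankPair_not_commute h (bracket_eq_bot.2 fun a ha b hb => hc b hb a ha)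
  have hAY : Cfsg.IsRankOnePair A Y := by
    rcases hS.1.pair A hA Y hY with e | e | e
    · exact absurd (mem_centralizing.1 (hsub (mem_centralizing.2 ⟨hY, fun b hb a ha => bracket_eq_bot.1 e a ha b hb⟩))).2
        (hncom _ _ hCY)
    · exact e
    exfalso
    obtain ⟨y, hy, hy1⟩ := exists_ne_one (ne_bot_right hCY)
    have hyA : ∀ b ∈ Cfsg.conjBy A y, ∀ a ∈ A, a * b = b * a := by
      rintro _ ⟨b, hb, rfl⟩ a ha
      show a * (y * b * y⁻¹) = y * b * y⁻¹ * a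
      have hc : b * y * b⁻¹ * y⁻¹ ∈ ⁅A, Y⁆ := Subgroup.commutator_mem_commutator hb hy
      rw [show y * b * y⁻¹ = (b * y * b⁻¹ * y⁻¹)⁻¹ * b by group]
      exact ((show Commute a _ from (commCase_comm e).1 a ha _ (inv_mem hc)).mul_right (comm_left hS.1 hA a ha b hb)).eq
    have h1 := (mem_centralizing.1 (hsub (mem_centralizing.2 ⟨hS.1.conj_mem A hA y, hyA⟩))).2
    have h2 : ∀ b ∈ Cfsg.conjBy C y⁻¹, ∀ a ∈ A, a * b = b * a := by
      intro b hb a ha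
      have ha' : a ∈ Cfsg.conjBy (Cfsg.conjBy A y) y⁻¹ := by
        rw [conjBy_conjBy, inv_mul_cancel, conjBy_one]; exact ha
      exact (comm_conjBy h1 y⁻¹ a ha' b hb).symm
    have h3 := (mem_centralizing.1 (hsub (mem_centralizing.2 ⟨hS.1.conj_mem C hC _, h2⟩))).2
    refine hncom _ _ (rankPair_of_unipotent hCY (mem_left hCY)
      (conj_mem (mem_left hCY) (Subgroup.mem_sup_right (inv_mem hy))) fun e' => hy1 ?_) h3
    exact inv_eq_one.1 (eq_one_of_normalizes' hCY (inv_mem hy) e'.symm)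
  refine Set.Subset.antisymm hsub ?_
  refine mirror (fun P Q => P ∈ S ∧ Q ∈ S ∧ Cfsg.centralizingMembers S P ⊆ Cfsg.centralizingMembers S Q)
    (fun X Y Z h h' => ⟨h.1, h'.2.1, h.2.2.trans h'.2.2⟩) ?_ ?_ hAC (Cfsg.RankOnePair_symm hAY)
    (Cfsg.RankOnePair_symm hCY) ⟨hA, hC, hsub⟩ |>.2.2
  · rintro X X' g ⟨hX, hX', hs⟩
    refine ⟨hS.1.conj_mem X hX g, hS.1.conj_mem X' hX' g, fun B hB => ?_⟩
    obtain ⟨hB, hc⟩ := mem_centralizing.1 hB
    have hB' : Cfsg.conjBy B g⁻¹ ∈ Cfsg.centralizingMembers S X := mem_centralizing.2 ⟨hS.1.conj_mem B hB _, by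
      have := comm_conjBy hc g⁻¹
      rwa [conjBy_conjBy X, inv_mul_cancel, conjBy_one] at this⟩
    refine mem_centralizing.2 ⟨hB, ?_⟩
    have := comm_conjBy (mem_centralizing.1 (hs hB')).2 g
    rwa [conjBy_conjBy B, mul_inv_cancel, conjBy_one] at this
  · rintro X X' ⟨hX, hX', hs⟩ hr
    exact hncom _ _ (Cfsg.RankOnePair_symm hr)
      (mem_centralizing.1 (hs (mem_centralizing.2 ⟨hX, fun x hx y hy => comm_left hS.1 hX y hy x hx⟩))).2

theorem rankOne_eq (hS : Cfsg.IsRootSubgroupClass S) {A C : Subgroup G} (hA : A ∈ S) (hC : C ∈ S)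
    (hsub : Cfsg.rankOnePartners S A ⊆ Cfsg.rankOnePartners S C) (hF : ∀ X ∈ S, ∃ Y ∈ S, Cfsg.IsRankOnePair X Y) :
    ⁅A, C⁆ = ⊥ ∧ Cfsg.rankOnePartners S A = Cfsg.rankOnePartners S C := by
  have hconj : ∀ X Y (g : G), Cfsg.rankOnePartners S X ⊆ Cfsg.rankOnePartners S Y →
      Cfsg.rankOnePartners S (Cfsg.conjBy X g) ⊆ Cfsg.rankOnePartners S (Cfsg.conjBy Y g) := by
    intro X Y g h B ⟨hB, hr⟩
    have hr' := rankPair_conj hr g⁻¹
    rw [conjBy_conjBy, inv_mul_cancel, conjBy_one] at hr'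
    have := rankPair_conj (h ⟨hS.1.conj_mem B hB g⁻¹, hr'⟩).2 g
    rw [conjBy_conjBy B, mul_inv_cancel, conjBy_one] at this
    exact ⟨hB, this⟩
  have hbot : ⁅A, C⁆ = ⊥ := by
    rcases hS.1.pair A hA C hC with e | e | e
    · exact e
    · exact absurd rfl (hsub ⟨hC, e⟩).2.ne
    exfalso
    obtain ⟨D₀, hD₀, hAD₀⟩ := hF A hA
    obtain ⟨hmemA, -, hlA, -⟩ := line_description hS.1 hA hC hD₀ hAD₀ e.1
    set Z := ⁅A, C⁆ with hZ
    have hZC : ⁅C, A⁆ = Z := Subgroup.commutator_comm _ _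
    -- no partner of `A` is a partner of `Z`
    have hnone : ∀ D ∈ S, Cfsg.IsRankOnePair A D → ¬ Cfsg.IsRankOnePair D Z := by
      intro D hD hAD hDZ
      have hCD := (hsub ⟨hD, hAD⟩).2
      obtain ⟨hmemC, -, hlC, -⟩ := line_description hS.1 hC hA hD hCD (by rw [hZC]; exact e.1)
      rw [hZC] at hmemC hlC
      obtain ⟨M, hM, hMC, hnr, -, hsup, -, -, -, -⟩ :=
        exists_nonpartner hS.1 hF hC (linePartners_symm e.1 hlC) hD hCD
      have hMm : M ∈ Cfsg.membersIn S (C ⊔ Z) := ⟨hM, hsup ▸ le_sup_right⟩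
      rw [hmemC] at hMm
      rcases hMm with ⟨a, ha, rfl⟩ | hMZ
      · have := (hconj A C a hsub) (show D ∈ Cfsg.rankOnePartners S (Cfsg.conjBy A a) by
          rw [conjBy_self ha]; exact ⟨hD, hAD⟩)
        exact hnr (Cfsg.RankOnePair_symm this.2)
      · rw [Set.mem_singleton_iff] at hMZ
        exact hnr (hMZ ▸ hDZ)
    have hZA : Z ∈ Cfsg.linePartners S A := linePartners_symm e.1 hlA
    obtain ⟨M, hM, hMA, hnr, -, hsup, -, hDM, -, htr⟩ := exists_nonpartner hS.1 hF hA hZA hD₀ hAD₀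
    have hne : Z ≠ A := hZA.1.2.1
    obtain ⟨c, hc, hcA⟩ : ∃ c ∈ C, Cfsg.conjBy A c ≠ A := by
      by_contra hno
      push Not at hno
      refine hne ?_
      obtain ⟨z, hz, hz1⟩ := exists_ne_one (hS.1.ne_bot Z e.1)
      have hle : Z ≤ A := Subgroup.le_normalizer_iff_commutator_le_left.1 fun x hx => normalizer_iff.2 (hno x hx)
      exact eq_of_mem_inter hS.1 hA hD₀ hAD₀ e.1 (hle hz) hz1 hz
    have hNm : Cfsg.conjBy A c ∈ Cfsg.membersIn S (A ⊔ Z) := hmemA ▸ Or.inl ⟨c, hc, rfl⟩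
    have hN : Cfsg.conjBy A c ≠ Z := fun e' => by
      have hCfix : Cfsg.conjBy Z c = Z := conjBy_of_centralizes fun x hx => (commCase_comm e).2 c hc x hx
      exact hne (conjBy_inj (hCfix.trans e'.symm))
    -- the non-partner of `D₀` is `Z`
    have hND : Cfsg.IsRankOnePair D₀ (Cfsg.conjBy A c) := by
      by_cases hNM : Cfsg.conjBy A c = M
      · exfalso
        obtain ⟨w, hw, he⟩ := htr Z ⟨e.1, le_sup_right⟩ fun e' => hN (hNM.trans e'.symm)
        refine hnone D₀ hD₀ hAD₀ ?_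
        rw [he]
        have := rankPair_conj (Cfsg.RankOnePair_symm hAD₀) w
        rwa [conjBy_of_centralizes (A := D₀) fun x hx => ((commCase_comm hDM).1 x hx w hw).symm] at this
      · obtain ⟨w, hw, he⟩ := htr _ hNm hNM
        rw [he]
        have := rankPair_conj (Cfsg.RankOnePair_symm hAD₀) w
        rwa [conjBy_of_centralizes (A := D₀) fun x hx => ((commCase_comm hDM).1 x hx w hw).symm] at this
    obtain ⟨k, -, hkA, hkN⟩ := line_two_transitive hS.1 hF hA hZA A ⟨hA, le_sup_left⟩ _ hNm A ⟨hA, le_sup_left⟩ Z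
      ⟨e.1, le_sup_right⟩ hcA.symm hne.symm
    exact hnone _ (hS.1.conj_mem D₀ hD₀ k) (hkA ▸ rankPair_conj hAD₀ k) (hkN ▸ rankPair_conj hND k)
  refine ⟨hbot, Set.Subset.antisymm hsub ?_⟩
  obtain ⟨Y, hY, hAY⟩ := hF A hA
  exact mirror (fun P Q => P ∈ S ∧ Q ∈ S ∧ Cfsg.rankOnePartners S P ⊆ Cfsg.rankOnePartners S Q)
    (fun X Y Z h h' => ⟨h.1, h'.2.1, h.2.2.trans h'.2.2⟩)
    (fun X Y g h => ⟨hS.1.conj_mem X h.1 g, hS.1.conj_mem Y h.2.1 g, hconj X Y g h.2.2⟩)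
    (fun X Y h hr => absurd rfl (h.2.2 ⟨h.2.1, hr⟩).2.ne)
    (fun a ha c hc => bracket_eq_bot.1 hbot a ha c hc) (Cfsg.RankOnePair_symm hAY)
    (Cfsg.RankOnePair_symm (hsub ⟨hY, hAY⟩).2) ⟨hA, hC, hsub⟩ |>.2.2

end Cfsg.Agent.Timmesfeld
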