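import Cfsg.Agent.Lib.Timmesfeld.Quadratic
import Mathlib.GroupTheory.OrderOfElement
import Cfsg.Prelude.Def_Transfer

/-!
# Faithful quadratic modules
-/

set_option autoImplicit false

namespace Cfsg.Agent.Timmesfeld

variable {X : Type*} [Group X] {A B : Subgroup X}

theorem end_nsmul_mul {R : Type*} [Ring R] (n : ℕ) (x y : R) : (n • x) * y = n • (x * y) := by
  rw [nsmul_eq_mul, nsmul_eq_mul, mul_assoc]

theorem end_mul_nsmul {R : Type*} [Ring R] (n : ℕ) (x y : R) : x * (n • y) = n • (x * y) := by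
  rw [nsmul_eq_mul, nsmul_eq_mul, ← mul_assoc, ← Nat.cast_comm, mul_assoc]

theorem end_pow {V : Type*} [AddCommGroup V] [DistribMulAction X V] {a : X}
    (hα : (DistribMulAction.toAddMonoidEnd X V a - 1) * (DistribMulAction.toAddMonoidEnd X V a - 1) = 0) (n : ℕ) :
    DistribMulAction.toAddMonoidEnd X V (a ^ n) = 1 + n • (DistribMulAction.toAddMonoidEnd X V a - 1) := by
  induction n with
  | zero => rw [pow_zero, map_one, zero_nsmul, add_zero]
  | succ n ih =>
    rw [pow_succ, map_mul, ih]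
    nth_rewrite 2 [← add_sub_cancel 1 (DistribMulAction.toAddMonoidEnd X V a)]
    rw [mul_add, mul_one, add_mul, one_mul, end_nsmul_mul, hα, nsmul_zero, add_zero, succ_nsmul, add_assoc]

theorem faithful_quadratic (h : Cfsg.IsRankOneGroup X A B) {V : Type*} [AddCommGroup V] [DistribMulAction X V]
    (hf : ∀ x : X, (∀ v : V, x • v = v) → x = 1)
    (hq : ∀ a ∈ A, ∀ a' ∈ A, ∀ v : V, a' • (a • v - v) = a • v - v) :
    (∀ a ∈ A, a ≠ 1 → ¬ IsOfFinOrder a) ∨ ∃ p : ℕ, p.Prime ∧ Cfsg.IsElementaryAbelian p A := by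
  set ρ := DistribMulAction.toAddMonoidEnd X V with hρ
  have hinj : ∀ {x y : X}, ρ x = ρ y → x = y := by
    intro x y e
    refine (inv_mul_eq_one.1 (hf (x⁻¹ * y) fun v => ?_))
    have h1 : x • v = y • v := DFunLike.congr_fun e v
    rw [mul_smul, ← h1, inv_smul_smul]
  have habA : ∀ a ∈ A, ∀ a' ∈ A, a * a' = a' * a := by
    intro a ha a' ha'
    refine hinj ?_
    rw [map_mul, map_mul, ← sub_eq_zero,
      show ρ a * ρ a' - ρ a' * ρ a = (ρ a - 1) * (ρ a' - 1) - (ρ a' - 1) * (ρ a - 1) by noncomm_ring,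
      quad_end hq ha' ha, quad_end hq ha ha', sub_zero]
  have hqB := quad_right h.2 hq
  have hcent : ∀ a ∈ A, a ∈ Subgroup.center X → a = 1 := fun a ha hz =>
    eq_one_of_normalizes h.2 ha (center_fixes hz B)
  have hX : ∃ x y : X, ∃ v : V, y • (x • v - v) ≠ x • v - v := by
    by_contra hno
    push Not at hno
    refine commutator_ne_bot h (eq_top_iff.2 fun x _ => Subgroup.mem_center_iff.2 fun y => hinj ?_)
    have e : ∀ g k : X, (ρ g - 1) * (ρ k - 1) = 0 := fun g k =>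
      quad_end (A := (⊤ : Subgroup X)) (fun a _ a' _ v => hno a a' v) trivial trivial
    rw [map_mul, map_mul, ← sub_eq_zero,
      show ρ y * ρ x - ρ x * ρ y = (ρ y - 1) * (ρ x - 1) - (ρ x - 1) * (ρ y - 1) by noncomm_ring, e, e,
      sub_zero]
  have hsp := (special_of_quadratic h hq hX).2
  by_cases hfin : ∀ a ∈ A, a ≠ 1 → ¬ IsOfFinOrder a
  · exact Or.inl hfin
  push Not at hfin
  obtain ⟨a₀, ha₀, ha₀1, hof⟩ := hfin
  have hn : orderOf a₀ ≠ 1 := fun e => ha₀1 (orderOf_eq_one_iff.1 e)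
  obtain ⟨p, hp, ⟨m, hm⟩⟩ := Nat.exists_prime_and_dvd hn
  have hap : orderOf (a₀ ^ m) = p := by
    have hmpos : m ≠ 0 := fun e => hof.orderOf_pos.ne' (by rw [hm, e, mul_zero])
    rw [orderOf_pow' _ hmpos, hm, Nat.gcd_mul_left_left, Nat.mul_div_cancel _ (Nat.pos_of_ne_zero hmpos)]
  set a := a₀ ^ m with hadef
  have ha : a ∈ A := pow_mem ha₀ m
  have ha1 : a ≠ 1 := fun e => hp.ne_one (by rw [← hap, e, orderOf_one])
  have hpa : p • (ρ a - 1) = 0 := by
    have := end_pow (quad_end (N := V) hq ha ha) p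
    rw [← hap, pow_orderOf_eq_one, map_one, hap] at this
    exact left_eq_add.1 this
  -- the elements acting trivially modulo `p`
  let K : Subgroup X :=
    { carrier := {g | p • (ρ g - 1) = 0}
      one_mem' := by show p • (ρ 1 - 1) = 0; rw [map_one, sub_self, nsmul_zero]
      mul_mem' := fun {g k} hg hk => by
        show p • (ρ (g * k) - 1) = 0
        rw [map_mul, show ρ g * ρ k - 1 = (ρ g - 1) * ρ k + (ρ k - 1) by noncomm_ring, nsmul_add,
          ← end_nsmul_mul, hg, hk, zero_mul, add_zero]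
      inv_mem' := fun {g} hg => by
        show p • (ρ g⁻¹ - 1) = 0
        rw [show ρ g⁻¹ - 1 = -(ρ g⁻¹ * (ρ g - 1)) by
          rw [mul_sub, mul_one, neg_sub, ← map_mul, inv_mul_cancel, map_one],
          neg_nsmul, ← end_mul_nsmul, hg, mul_zero, neg_zero] }
  have hKn : K.Normal := ⟨fun g hg t => by
    show p • (ρ (t * g * t⁻¹) - 1) = 0
    rw [show ρ (t * g * t⁻¹) - 1 = ρ t * (ρ g - 1) * ρ t⁻¹ by
      rw [mul_sub, sub_mul, mul_one, ← map_mul, ← map_mul, ← map_mul, mul_inv_cancel, map_one],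
      ← end_nsmul_mul, ← end_mul_nsmul, hg, mul_zero, zero_mul]⟩
  have htop : K ⊔ A = ⊤ := (normal_cases h K hKn).resolve_right fun hle => ha1 (hcent a ha (hle hpa))
  have hprod : ∀ g k : X, p • ((ρ g - 1) * (ρ k - 1)) = 0 := by
    intro g k
    obtain ⟨l, hl, c, hc, rfl⟩ := Subgroup.mem_sup_of_normal_left.1 (htop ▸ Subgroup.mem_top g : g ∈ K ⊔ A)
    obtain ⟨l', hl', c', hc', rfl⟩ := Subgroup.mem_sup_of_normal_left.1 (htop ▸ Subgroup.mem_top k : k ∈ K ⊔ A)
    have e : ∀ l c : X, p • (ρ l - 1) = 0 → p • (ρ (l * c) - 1) = p • (ρ c - 1) := fun l c hl => by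
      rw [map_mul, show ρ l * ρ c - 1 = (ρ l - 1) * ρ c + (ρ c - 1) by noncomm_ring, nsmul_add,
        ← end_nsmul_mul, hl, zero_mul, zero_add]
    rw [← end_nsmul_mul, e l c hl, end_nsmul_mul, ← end_mul_nsmul, e l' c' hl', end_mul_nsmul,
      quad_end hq hc' hc, nsmul_zero]
  have hadd : ∀ g k : X, p • (ρ (g * k) - 1) = p • (ρ g - 1) + p • (ρ k - 1) := fun g k => by
    rw [map_mul, show ρ g * ρ k - 1 = (ρ g - 1) + (ρ k - 1) + (ρ g - 1) * (ρ k - 1) by noncomm_ring,
      nsmul_add, nsmul_add, hprod, add_zero]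
  refine Or.inr ⟨p, hp, ⟨⟨fun x y => Subtype.ext (habA x x.2 y y.2)⟩⟩, fun a' ha' => ?_⟩
  by_cases h1 : a' = 1
  · rw [h1, one_pow]
  obtain ⟨b', hb', hb'1, he⟩ := h.2.cond_left a' ha' h1
  have hsum : p • (ρ a' - 1) + p • (ρ b' - 1) = 0 := by
    let φ : X → AddMonoid.End V := fun g => p • (ρ g - 1)
    have hφ : ∀ g k, φ (g * k) = φ g + φ k := hadd
    have hφ1 : φ 1 = 0 := by show p • (ρ 1 - 1) = 0; rw [map_one, sub_self, nsmul_zero]
    have hφi : ∀ g, φ g⁻¹ = -φ g := fun g => eq_neg_of_add_eq_zero_left (by rw [← hφ, inv_mul_cancel, hφ1])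
    have := congrArg φ (hsp a' ha' h1 b' hb' hb'1 he)
    simp only [hφ, hφi] at this
    show φ a' + φ b' = 0
    rw [← sub_eq_zero] at this
    rw [← this]; abel
  have hab : a' ^ p * b' ^ p = 1 := hinj (by
    rw [map_mul, map_one, end_pow (quad_end (N := V) hq ha' ha'), end_pow (quad_end (N := V) hqB hb' hb'),
      show ∀ u w : AddMonoid.End V, (1 + u) * (1 + w) = 1 + (u + w) + u * w from fun u w => by noncomm_ring,
      hsum, eq_neg_of_add_eq_zero_left hsum, add_zero, neg_mul, end_nsmul_mul, end_mul_nsmul]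
    rw [quad_end hqB hb' hb', nsmul_zero, nsmul_zero, neg_zero, add_zero])
  refine eq_one_of_normalizes h.2 (pow_mem ha' p) (conjBy_self ?_)
  rw [eq_inv_of_mul_eq_one_left hab]
  exact inv_mem (pow_mem hb' p)

end Cfsg.Agent.Timmesfeld
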