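import Cfsg.Agent.Lib.Timmesfeld.Nilpotent3

/-!
# A line as a natural module for a rank one group
-/

set_option autoImplicit false

namespace Cfsg.Agent.Timmesfeld

open scoped Pointwise

open scoped commutatorElement

variable {G : Type*} [Group G] {S : Set (Subgroup G)}

theorem ne_of_bracket_mem (hS : Cfsg.IsRootSubgroupSet S) {A B : Subgroup G}
    (h : Cfsg.RootCommutatorCase S A B) : A ≠ ⁅A, B⁆ := by
  intro e
  refine hS.ne_bot _ h.1 (bracket_eq_bot.2 fun a ha b hb => ?_)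
  exact ((commCase_comm h).2 b hb a (e ▸ ha : a ∈ ⁅A, B⁆)).symm

/-- `⁅A, B⁆ = C` and `⁅D, C⁆ = A` force `B` and `D` to be partners. -/
theorem cycle_rank (hS : Cfsg.IsRootSubgroupSet S) {A B D : Subgroup G} (hA : A ∈ S) (hB : B ∈ S) (hD : D ∈ S)
    (hC : ⁅A, B⁆ ∈ S) (hDC : ⁅D, ⁅A, B⁆⁆ = A) : Cfsg.IsRankOnePair B D := by
  have hDC' := commCase_of_bracket_mem hS hD hC (hDC.symm ▸ hA)
  have hcDA : ∀ a ∈ A, ∀ d ∈ D, a * d = d * a := fun a ha d hd =>
    ((commCase_comm hDC').1 d hd a (hDC.symm ▸ ha)).symm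
  have hAB := commCase_of_bracket_mem hS hA hB hC
  rcases hS.pair B hB D hD with e | e | e
  · exfalso
    refine hS.ne_bot _ hC (bracket_eq_bot.2 fun a ha b hb => ?_)
    obtain ⟨c₀, hc₀, hc₀1⟩ := exists_ne_one (hS.ne_bot _ hC)
    have hbD : ∀ d ∈ D, Commute b d := fun d hd => bracket_eq_bot.1 e b hb d hd
    have hbC : Commute b c₀ := (commCase_comm hAB).2 b hb c₀ hc₀
    obtain ⟨d, hd, rfl⟩ := commCase_image' hDC' hc₀ hc₀1 (hDC.symm ▸ ha : a ∈ ⁅D, ⁅A, B⁆⁆)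
    exact ((((hbD d hd).mul_right hbC).mul_right (hbD d hd).inv_right).mul_right hbC.inv_right).eq.symm
  · exact e
  exfalso
  have hDA : D ≠ A := by
    intro e'
    rw [e'] at hDC
    refine hS.ne_bot A hA ?_
    rw [← hDC, bracket_eq_bot]
    exact (commCase_comm hAB).1
  have hnil := (three_members_nilpotent hS hA hB hD hC e.1 ⟨hD, hDA, bracket_eq_bot.2 hcDA⟩
    (exists_ne_one (hS.ne_bot B hB)).choose_spec.1 (exists_ne_one (hS.ne_bot B hB)).choose_spec.2).2.2.2.2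
  obtain ⟨n, hn⟩ := (Subgroup.isNilpotent_iff_lowerCentralSeries _).1 hnil
  set U := A ⊔ B ⊔ D with hU
  have hBU : B ≤ U := le_sup_right.trans le_sup_left
  have hCU : ⁅A, B⁆ ≤ U := by
    rw [Subgroup.commutator_le]
    intro x hx y hy
    have hx' : x ∈ U := Subgroup.mem_sup_left (Subgroup.mem_sup_left hx)
    rw [commutatorElement_def]
    exact mul_mem (mul_mem (mul_mem hx' (hBU hy)) (inv_mem hx')) (inv_mem (hBU hy))
  have key : ∀ m, A ≤ U.lowerCentralSeries m ∧ ⁅A, B⁆ ≤ U.lowerCentralSeries m := by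
    intro m
    induction m with
    | zero => exact ⟨le_sup_left.trans le_sup_left, hCU⟩
    | succ m ih =>
      rw [Subgroup.lowerCentralSeries_succ]
      refine ⟨?_, Subgroup.commutator_mono ih.1 hBU⟩
      calc A = ⁅⁅A, B⁆, D⁆ := by rw [Subgroup.commutator_comm]; exact hDC.symm
        _ ≤ _ := Subgroup.commutator_mono ih.2 le_sup_right
  exact hS.ne_bot A hA (le_bot_iff.1 (hn ▸ (key n).1))

theorem natural_module (hS : Cfsg.IsRootSubgroupSet S) {A B D : Subgroup G} (hA : A ∈ S) (hB : B ∈ S) (hD : D ∈ S)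
    (hC : ⁅A, B⁆ ∈ S) (hDC : ⁅D, ⁅A, B⁆⁆ = A) :
    Cfsg.IsRankOnePair B D ∧
    {E | ∃ x ∈ B ⊔ D, E = Cfsg.conjBy A x} = {E | ∃ x ∈ B ⊔ D, E = Cfsg.conjBy ⁅A, B⁆ x} ∧
    {E | ∃ x ∈ B ⊔ D, E = Cfsg.conjBy A x} = (fun b : G => Cfsg.conjBy A b) '' (B : Set G) ∪ {⁅A, B⁆} ∧
    {E | ∃ x ∈ B ⊔ D, E = Cfsg.conjBy A x} = (fun d : G => Cfsg.conjBy ⁅A, B⁆ d) '' (D : Set G) ∪ {A} ∧
    Cfsg.IsSubgroupPartition (A ⊔ ⁅A, B⁆) {E | ∃ x ∈ B ⊔ D, E = Cfsg.conjBy A x} ∧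
    ∀ x ∈ (B ⊔ D) ⊓ Subgroup.centralizer ((A ⊔ ⁅A, B⁆ : Subgroup G) : Set G), ∀ y ∈ B ⊔ D, x * y = y * x := by
  have hr := cycle_rank hS hA hB hD hC hDC
  have hAB := commCase_of_bracket_mem hS hA hB hC
  have hDC' := commCase_of_bracket_mem hS hD hC (hDC.symm ▸ hA)
  have hne := ne_of_bracket_mem hS hAB
  set C := ⁅A, B⁆ with hCdef
  have hcBC := (commCase_comm hAB).2
  have hcDA : ∀ d ∈ D, ∀ a ∈ A, d * a = a * d := fun d hd a ha =>
    (commCase_comm hDC').1 d hd a (hDC.symm ▸ ha)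
  have hdec : ∀ m ∈ A ⊔ C, ∃ a ∈ A, ∃ c ∈ C, m = a * c := by
    intro m hm
    have h1 : (m : G) ∈ ((A : Set G) * (C : Set G) : Set G) := by
      rw [← Subgroup.coe_mul_of_left_le_normalizer_right A C (Subgroup.normalizer_commutator_ge_left _ _)]
      exact hm
    obtain ⟨a, ha, c, hc, rfl⟩ := h1
    exact ⟨a, ha, c, hc, rfl⟩
  have hcentD : ∀ m ∈ A ⊔ C, (∀ d ∈ D, d * m = m * d) → m ∈ A := by
    intro m hm hmD
    obtain ⟨a, ha, c, hc, rfl⟩ := hdec m hm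
    by_cases hc1 : c = 1
    · rwa [hc1, mul_one]
    exfalso
    refine hS.ne_bot A hA ?_
    rw [← hDC, ← hDC'.2.2.2 c hc hc1, Subgroup.closure_eq_bot_iff]
    rintro _ ⟨d, hd, rfl⟩
    have h1 : Commute d (a⁻¹ * (a * c)) :=
      (show Commute d a from hcDA d hd a ha).inv_right.mul_right (hmD d hd)
    rw [inv_mul_cancel_left] at h1
    show d * c * d⁻¹ * c⁻¹ = 1
    rw [h1.eq, mul_inv_cancel_right, mul_inv_cancel]
  have hcentB : ∀ m ∈ A ⊔ C, (∀ b ∈ B, b * m = m * b) → m ∈ C := by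
    intro m hm hmB
    obtain ⟨a, ha, c, hc, rfl⟩ := hdec m hm
    by_cases ha1 : a = 1
    · rwa [ha1, one_mul]
    exfalso
    refine hS.ne_bot C hC ?_
    rw [hCdef, ← hAB.2.2.1 a ha ha1, Subgroup.closure_eq_bot_iff]
    rintro _ ⟨b, hb, rfl⟩
    have h1 : Commute b (a * c * c⁻¹) :=
      (show Commute b (a * c) from hmB b hb).mul_right (show Commute b c from hcBC b hb c hc).inv_right
    rw [mul_inv_cancel_right] at h1
    show a * b * a⁻¹ * b⁻¹ = 1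
    rw [← h1.eq, mul_inv_cancel_right, mul_inv_cancel]
  have hBn : B ≤ Subgroup.normalizer ((A ⊔ C : Subgroup G) : Set G) := by
    rw [Subgroup.le_normalizer_iff_commutator_le_right]
    refine bracket_sup_le' (le_sup_left.trans Subgroup.le_normalizer) (le_sup_right.trans Subgroup.le_normalizer) ?_ ?_
    · rw [Subgroup.commutator_comm]; exact le_sup_right
    · rw [bracket_eq_bot.2 hcBC]; exact bot_le
  have hDn : D ≤ Subgroup.normalizer ((A ⊔ C : Subgroup G) : Set G) := by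
    rw [Subgroup.le_normalizer_iff_commutator_le_right]
    refine bracket_sup_le' (le_sup_left.trans Subgroup.le_normalizer) (le_sup_right.trans Subgroup.le_normalizer) ?_ ?_
    · rw [bracket_eq_bot.2 hcDA]; exact bot_le
    · rw [hDC]; exact le_sup_left
  have hP : ∀ x ∈ B ⊔ D, ∀ m, m ∈ A ⊔ C ↔ x * m * x⁻¹ ∈ A ⊔ C := fun x hx m =>
    Subgroup.mem_normalizer_iff.1 (sup_le hBn hDn hx) m
  have hswap : ∀ x ∈ B ⊔ D, Cfsg.conjBy B x = D → Cfsg.conjBy C x = A := by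
    intro x hx he
    ext m
    constructor
    · rintro ⟨c, hc, rfl⟩
      refine hcentD _ ((hP x hx c).1 (Subgroup.mem_sup_right hc)) fun d hd => ?_
      rw [← he] at hd
      obtain ⟨b, hb, rfl⟩ := hd
      show x * b * x⁻¹ * (x * c * x⁻¹) = x * c * x⁻¹ * (x * b * x⁻¹)
      calc _ = x * (b * c) * x⁻¹ := by group
        _ = x * (c * b) * x⁻¹ := by rw [hcBC b hb c hc]
        _ = _ := by group
    · intro hm
      refine mem_conjBy.2 (hcentB _ ?_ fun b hb => ?_)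
      · refine (hP x hx _).2 ?_
        rw [show x * (x⁻¹ * m * x) * x⁻¹ = m by group]
        exact Subgroup.mem_sup_left hm
      · have hd : x * b * x⁻¹ ∈ D := by rw [← he]; exact ⟨b, hb, rfl⟩
        calc b * (x⁻¹ * m * x) = x⁻¹ * ((x * b * x⁻¹) * m) * x := by group
          _ = x⁻¹ * (m * (x * b * x⁻¹)) * x := by rw [hcDA _ hd m hm]
          _ = _ := by group
  have hcases : ∀ x ∈ B ⊔ D, (Cfsg.conjBy B x = B ∧ Cfsg.conjBy C x = C) ∨
      ∃ b ∈ B, Cfsg.conjBy B x = Cfsg.conjBy D b ∧ Cfsg.conjBy C x = Cfsg.conjBy A b := by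
    intro x hx
    rcases (mem_iff hr).1 (⟨x, hx, rfl⟩ : Cfsg.conjBy B x ∈ Cfsg.unipotentSubgroups B D) with e | ⟨b, hb, e⟩
    · refine Or.inl ⟨e, ?_⟩
      obtain ⟨x₀, hx₀, he₀⟩ := mem_right hr
      have h1 := hswap (x₀ * x) (mul_mem hx₀ hx) (by rw [← conjBy_conjBy, e, ← he₀])
      rw [← conjBy_conjBy, ← hswap x₀ hx₀ he₀.symm] at h1
      exact conjBy_inj h1
    · refine Or.inr ⟨b, hb, e, ?_⟩
      have h1 := hswap (b⁻¹ * x) (mul_mem (inv_mem (Subgroup.mem_sup_left hb)) hx) (by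
        rw [← conjBy_conjBy, e, conjBy_conjBy, inv_mul_cancel, conjBy_one])
      rw [← conjBy_conjBy] at h1
      conv_rhs => rw [← h1]
      rw [conjBy_conjBy, mul_inv_cancel, conjBy_one]
  obtain ⟨x₀, hx₀, he₀⟩ := mem_right hr
  have hA0 : Cfsg.conjBy C x₀ = A := hswap x₀ hx₀ he₀.symm
  have horb : {E | ∃ x ∈ B ⊔ D, E = Cfsg.conjBy A x} = {E | ∃ x ∈ B ⊔ D, E = Cfsg.conjBy C x} := by
    ext E
    constructor
    · rintro ⟨x, hx, rfl⟩
      exact ⟨x * x₀, mul_mem hx hx₀, by rw [← conjBy_conjBy, hA0]⟩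
    · rintro ⟨x, hx, rfl⟩
      exact ⟨x * x₀⁻¹, mul_mem hx (inv_mem hx₀), by rw [← hA0, conjBy_conjBy, inv_mul_cancel_right]⟩
  have hset1 : {E | ∃ x ∈ B ⊔ D, E = Cfsg.conjBy A x} = (fun b : G => Cfsg.conjBy A b) '' (B : Set G) ∪ {C} := by
    rw [horb]
    ext E
    constructor
    · rintro ⟨x, hx, rfl⟩
      rcases hcases x hx with ⟨-, e⟩ | ⟨b, hb, -, e⟩
      · exact Or.inr e
      · exact Or.inl ⟨b, hb, e.symm⟩
    · rintro (⟨b, hb, rfl⟩ | rfl)
      · exact ⟨b * x₀, mul_mem (Subgroup.mem_sup_left hb) hx₀, by rw [← conjBy_conjBy, hA0]⟩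
      · exact ⟨1, one_mem _, (conjBy_one _).symm⟩
  have hset2 : {E | ∃ x ∈ B ⊔ D, E = Cfsg.conjBy A x} = (fun d : G => Cfsg.conjBy C d) '' (D : Set G) ∪ {A} := by
    ext E
    constructor
    · rintro ⟨x, hx, rfl⟩
      rcases (mem_iff (Cfsg.RankOnePair_symm hr)).1
        (⟨x, by rwa [sup_comm], rfl⟩ : Cfsg.conjBy D x ∈ Cfsg.unipotentSubgroups D B) with e | ⟨d, hd, e⟩
      · right
        have h1 := hswap (x * x₀) (mul_mem hx hx₀) (by rw [← conjBy_conjBy, ← he₀, e])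
        rw [← conjBy_conjBy, hA0] at h1
        exact h1
      · left
        refine ⟨d, hd, ?_⟩
        have hy : d⁻¹ * x * x₀ ∈ B ⊔ D := mul_mem (mul_mem (inv_mem (Subgroup.mem_sup_right hd)) hx) hx₀
        have hB' : Cfsg.conjBy B (d⁻¹ * x * x₀) = B := by
          rw [← conjBy_conjBy, ← he₀, ← conjBy_conjBy, e, conjBy_conjBy, inv_mul_cancel, conjBy_one]
        rcases hcases _ hy with ⟨-, e'⟩ | ⟨b, hb, e', -⟩
        · show Cfsg.conjBy C d = Cfsg.conjBy A x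
          conv_lhs => rw [← e']
          rw [conjBy_conjBy, mul_assoc d⁻¹, mul_inv_cancel_left, ← conjBy_conjBy, hA0]
        · exfalso
          rw [hB', ← conjBy_self hb] at e'
          exact hr.ne (conjBy_inj e')
    · rintro (⟨d, hd, rfl⟩ | rfl)
      · exact ⟨d * x₀⁻¹, mul_mem (Subgroup.mem_sup_right hd) (inv_mem hx₀), by
          rw [← hA0, conjBy_conjBy, inv_mul_cancel_right]⟩
      · exact ⟨1, one_mem _, (conjBy_one _).symm⟩
  have hinter : A ⊓ C = ⊥ := by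
    rw [Subgroup.eq_bot_iff_forall]
    rintro a ⟨ha, hac⟩
    by_contra ha1
    refine hS.ne_bot C hC ?_
    rw [hCdef, ← hAB.2.2.1 a ha ha1, Subgroup.closure_eq_bot_iff]
    rintro _ ⟨b, hb, rfl⟩
    show a * b * a⁻¹ * b⁻¹ = 1
    rw [← hcBC b hb a hac, mul_inv_cancel_right, mul_inv_cancel]
  refine ⟨hr, horb, hset1, hset2, ⟨?_, ?_, ?_⟩, ?_⟩
  · rw [hset1]
    rintro E (⟨b, hb, rfl⟩ | rfl)
    · rintro _ ⟨a, ha, rfl⟩
      exact (hP b (Subgroup.mem_sup_left hb) a).1 (Subgroup.mem_sup_left ha)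
    · exact le_sup_right
  · intro m hm hm1
    rw [hset1]
    obtain ⟨a, ha, c, hc, rfl⟩ := hdec m hm
    by_cases ha1 : a = 1
    · exact ⟨C, Or.inr rfl, by rw [ha1, one_mul]; exact hc⟩
    · obtain ⟨b, hb, he⟩ := commCase_line hS hA hAB ha ha1 hc
      exact ⟨_, Or.inl ⟨b, hb, rfl⟩, ⟨a, ha, he⟩⟩
  · rw [horb]
    rintro E₁ ⟨x₁, hx₁, rfl⟩ E₂ ⟨x₂, hx₂, rfl⟩ hne12
    rw [Subgroup.eq_bot_iff_forall]
    rintro m ⟨hm1, hm2⟩
    have hBne : Cfsg.conjBy B x₁ ≠ Cfsg.conjBy B x₂ := by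
      intro e
      have hf : Cfsg.conjBy B (x₂⁻¹ * x₁) = B := by
        rw [← conjBy_conjBy, e, conjBy_conjBy, inv_mul_cancel, conjBy_one]
      rcases hcases _ (mul_mem (inv_mem hx₂) hx₁) with ⟨-, e'⟩ | ⟨b, hb, e', -⟩
      · refine hne12 ?_
        conv_rhs => rw [← e']
        rw [conjBy_conjBy, mul_inv_cancel_left]
      · rw [hf, ← conjBy_self hb] at e'
        exact hr.ne (conjBy_inj e')
    obtain ⟨y, hy, hy1, hy2⟩ := exists_conj_pair hr ⟨x₁, hx₁, rfl⟩ ⟨x₂, hx₂, rfl⟩ (mem_left hr) (mem_right hr)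
      hBne hr.ne
    rw [conjBy_conjBy] at hy1 hy2
    have h1 : Cfsg.conjBy C (y * x₁) = C := by
      rcases hcases _ (mul_mem hy hx₁) with ⟨-, e⟩ | ⟨b, hb, e, -⟩
      · exact e
      · rw [hy1, ← conjBy_self hb] at e
        exact absurd (conjBy_inj e) hr.ne
    have h2 := hswap _ (mul_mem hy hx₂) hy2
    have m1 : y * m * y⁻¹ ∈ C := by
      rw [← h1, ← conjBy_conjBy]; exact ⟨m, hm1, rfl⟩
    have m2 : y * m * y⁻¹ ∈ A := by
      rw [← h2, ← conjBy_conjBy]; exact ⟨m, hm2, rfl⟩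
    have := (Subgroup.eq_bot_iff_forall _).1 hinter _ ⟨m2, m1⟩
    exact conj_eq_one_iff.1 this
  · rintro x ⟨hx, hxc⟩ y hy
    refine commute_of_fix hr (fun E hE => ?_) y hy
    obtain ⟨u, hu, rfl⟩ := hE
    have hfixC : ∀ m ∈ A ⊔ C, x * m = m * x := fun m hm => (Subgroup.mem_centralizer_iff.1 hxc m hm).symm
    have hzR : u⁻¹ * x * u ∈ B ⊔ D := mul_mem (mul_mem (inv_mem hu) hx) hu
    have hzC : Cfsg.conjBy C (u⁻¹ * x * u) = C := by
      refine conjBy_of_centralizes fun c hc => ?_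
      have := hfixC _ ((hP u hu c).1 (Subgroup.mem_sup_right hc))
      calc u⁻¹ * x * u * c = u⁻¹ * (x * (u * c * u⁻¹)) * u := by group
        _ = u⁻¹ * ((u * c * u⁻¹) * x) * u := by rw [this]
        _ = _ := by group
    rcases hcases _ hzR with ⟨e, -⟩ | ⟨b, hb, -, e⟩
    · conv_rhs => rw [← e]
      rw [conjBy_conjBy, conjBy_conjBy]
      congr 1; group
    · exfalso
      rw [hzC] at e
      refine hne (conjBy_inj (e.symm.trans (conjBy_of_centralizes fun c hc => hcBC b hb c hc).symm))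

end Cfsg.Agent.Timmesfeld
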