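import Cfsg.Agent.Lib.Timmesfeld.Component

/-!
# Three members `A`, `B`, `C` with two commutator pairs and a commuting one
-/

set_option autoImplicit false

namespace Cfsg.Agent.Timmesfeld

open scoped commutatorElement

variable {G : Type*} [Group G] {S : Set (Subgroup G)}

/-- The other half of `commCase_image`. -/
theorem commCase_image' {A B : Subgroup G} (h : Cfsg.RootCommutatorCase S A B) {b : G} (hb : b ∈ B)
    (hb1 : b ≠ 1) {c : G} (hc : c ∈ ⁅A, B⁆) : ∃ a ∈ A, a * b * a⁻¹ * b⁻¹ = c := by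
  obtain ⟨-, hcent, -, hgen⟩ := h
  have hc' := hgen b hb hb1 ▸ hc
  clear hc
  induction hc' using Subgroup.closure_induction with
  | mem x hx => exact hx
  | one => exact ⟨1, one_mem _, by group⟩
  | mul x y hx' _ ihx ihy =>
    obtain ⟨a, ha, rfl⟩ := ihx
    obtain ⟨a', ha', rfl⟩ := ihy
    refine ⟨a' * a, mul_mem ha' ha, ?_⟩
    have hm : a * b * a⁻¹ * b⁻¹ ∈ ⁅A, B⁆ := Subgroup.commutator_mem_commutator ha hb
    calc a' * a * b * (a' * a)⁻¹ * b⁻¹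
        = a' * (a * b * a⁻¹ * b⁻¹) * a'⁻¹ * (a' * b * a'⁻¹ * b⁻¹) := by group
      _ = _ := by rw [← hcent _ hm a' (Subgroup.mem_sup_left ha'), mul_inv_cancel_right]
  | inv x _ ihx =>
    obtain ⟨a, ha, rfl⟩ := ihx
    refine ⟨a⁻¹, inv_mem ha, ?_⟩
    have hm : a * b * a⁻¹ * b⁻¹ ∈ ⁅A, B⁆ := Subgroup.commutator_mem_commutator ha hb
    calc a⁻¹ * b * a⁻¹⁻¹ * b⁻¹ = a⁻¹ * ((a * b * a⁻¹ * b⁻¹)⁻¹ * a) := by group
      _ = _ := by rw [hcent _ (inv_mem hm) a (Subgroup.mem_sup_left ha), inv_mul_cancel_left]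

theorem bracket_sup_le {P Q R T : Subgroup G} (hP : P ≤ Subgroup.normalizer (T : Set G))
    (hQ : Q ≤ Subgroup.normalizer (T : Set G)) (h1 : ⁅P, R⁆ ≤ T) (h2 : ⁅Q, R⁆ ≤ T) : ⁅P ⊔ Q, R⁆ ≤ T := by
  rw [Subgroup.commutator_le] at h1 h2 ⊢
  intro x hx r hr
  rw [← Subgroup.closure_eq P, ← Subgroup.closure_eq Q, ← Subgroup.closure_union] at hx
  suffices h : x ∈ Subgroup.normalizer (T : Set G) ∧ ⁅x, r⁆ ∈ T from h.2
  induction hx using Subgroup.closure_induction with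
  | mem y hy =>
    rcases hy with hy | hy
    · exact ⟨hP hy, h1 y hy r hr⟩
    · exact ⟨hQ hy, h2 y hy r hr⟩
  | one => exact ⟨one_mem _, by rw [commutatorElement_one_left]; exact one_mem _⟩
  | mul y z _ _ iy iz =>
    refine ⟨mul_mem iy.1 iz.1, ?_⟩
    rw [show ⁅y * z, r⁆ = (y * ⁅z, r⁆ * y⁻¹) * ⁅y, r⁆ by simp only [commutatorElement_def]; group]
    exact mul_mem ((Subgroup.mem_normalizer_iff.1 iy.1 _).1 iz.2) iy.2
  | inv y _ iy =>
    refine ⟨inv_mem iy.1, ?_⟩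
    rw [show ⁅y⁻¹, r⁆ = y⁻¹ * ⁅y, r⁆⁻¹ * y⁻¹⁻¹ by simp only [commutatorElement_def]; group]
    exact (Subgroup.mem_normalizer_iff.1 (inv_mem iy.1) _).1 (inv_mem iy.2)

theorem bracket_sup_le' {P Q R T : Subgroup G} (hP : P ≤ Subgroup.normalizer (T : Set G))
    (hQ : Q ≤ Subgroup.normalizer (T : Set G)) (h1 : ⁅R, P⁆ ≤ T) (h2 : ⁅R, Q⁆ ≤ T) : ⁅R, P ⊔ Q⁆ ≤ T := by
  rw [Subgroup.commutator_comm] at h1 h2 ⊢
  exact bracket_sup_le hP hQ h1 h2

/-- To bound `⁅⁅P, Q⁆, R⁆` it is enough to bound the commutators of commutators. -/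
theorem bracket_bracket_le {P Q R T : Subgroup G} (hn : ⁅P, Q⁆ ≤ Subgroup.normalizer (T : Set G))
    (h : ∀ x ∈ P, ∀ y ∈ Q, ∀ r ∈ R, ⁅⁅x, y⁆, r⁆ ∈ T) : ⁅⁅P, Q⁆, R⁆ ≤ T := by
  rw [Subgroup.commutator_le]
  intro g hg r hr
  suffices ∀ g ∈ ⁅P, Q⁆, g ∈ Subgroup.normalizer (T : Set G) ∧ ⁅g, r⁆ ∈ T from (this g hg).2
  intro g hg
  refine ⟨hn hg, ?_⟩
  rw [Subgroup.commutator_def] at hg
  induction hg using Subgroup.closure_induction with
  | mem z hz =>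
    obtain ⟨x, hx, y, hy, rfl⟩ := hz
    exact h x hx y hy r hr
  | one => rw [commutatorElement_one_left]; exact one_mem _
  | mul y z hy _ iy iz =>
    rw [show ⁅y * z, r⁆ = (y * ⁅z, r⁆ * y⁻¹) * ⁅y, r⁆ by simp only [commutatorElement_def]; group]
    exact mul_mem ((Subgroup.mem_normalizer_iff.1 (hn (by rw [Subgroup.commutator_def]; exact hy)) _).1 iz) iy
  | inv y hy iy =>
    rw [show ⁅y⁻¹, r⁆ = y⁻¹ * ⁅y, r⁆⁻¹ * y⁻¹⁻¹ by simp only [commutatorElement_def]; group]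
    exact (Subgroup.mem_normalizer_iff.1 (inv_mem (hn (by rw [Subgroup.commutator_def]; exact hy))) _).1 (inv_mem iy)

theorem isMulComm_sup {P Q : Subgroup G} (hP : ∀ x ∈ P, ∀ y ∈ P, x * y = y * x)
    (hQ : ∀ x ∈ Q, ∀ y ∈ Q, x * y = y * x) :
    IsMulCommutative ↥(P ⊔ Q) ↔ ⁅P, Q⁆ = ⊥ := by
  constructor
  · intro h
    exact bracket_eq_bot.2 fun x hx y hy => congrArg Subtype.val
      (mul_comm' (⟨x, Subgroup.mem_sup_left hx⟩ : ↥(P ⊔ Q)) ⟨y, Subgroup.mem_sup_right hy⟩)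
  · intro h
    have h' := bracket_eq_bot.1 h
    refine ⟨⟨fun x y => Subtype.ext ?_⟩⟩
    refine commute_sup (fun p hp => ?_) (fun q hq => ?_) y.1 y.2
    · exact (commute_sup (fun a ha => hP p hp a ha) (fun b hb => h' p hp b hb) x.1 x.2).symm
    · exact (commute_sup (fun a ha => (h' a ha q hq).symm) (fun b hb => hQ q hq b hb) x.1 x.2).symm

theorem three_members_nilpotent (hS : Cfsg.IsRootSubgroupSet S) {A B C : Subgroup G} (hA : A ∈ S) (hB : B ∈ S)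
    (hC : C ∈ S) (hAB : ⁅A, B⁆ ∈ S) (hBC : ⁅B, C⁆ ∈ S) (hAC : C ∈ Cfsg.commutingPartners S A) {b : G}
    (hb : b ∈ B) (hb1 : b ≠ 1) :
    ((IsMulCommutative ↥(A ⊔ Cfsg.conjBy C b⁻¹) ∧ IsMulCommutative ↥(Cfsg.conjBy A b⁻¹ ⊔ C)) ∨
      ((¬ IsMulCommutative ↥(A ⊔ Cfsg.conjBy C b⁻¹) ∧
          ⁅⁅A ⊔ Cfsg.conjBy C b⁻¹, A ⊔ Cfsg.conjBy C b⁻¹⁆, A ⊔ Cfsg.conjBy C b⁻¹⁆ = ⊥) ∧
        (¬ IsMulCommutative ↥(Cfsg.conjBy A b⁻¹ ⊔ C) ∧
          ⁅⁅Cfsg.conjBy A b⁻¹ ⊔ C, Cfsg.conjBy A b⁻¹ ⊔ C⁆, Cfsg.conjBy A b⁻¹ ⊔ C⁆ = ⊥))) ∧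
    ⁅A ⊔ Cfsg.conjBy C b⁻¹, Cfsg.conjBy A b⁻¹ ⊔ C⁆ = ⊥ ∧
    (∀ r ∈ A ⊔ B ⊔ C, Cfsg.conjBy ((A ⊔ Cfsg.conjBy C b⁻¹) ⊔ (Cfsg.conjBy A b⁻¹ ⊔ C)) r =
      (A ⊔ Cfsg.conjBy C b⁻¹) ⊔ (Cfsg.conjBy A b⁻¹ ⊔ C)) ∧
    ((A ⊔ Cfsg.conjBy C b⁻¹) ⊔ (Cfsg.conjBy A b⁻¹ ⊔ C)) ⊔ B = A ⊔ B ⊔ C ∧
    Group.IsNilpotent ↥(A ⊔ B ⊔ C) := by
  obtain ⟨-, -, hAC⟩ := hAC
  have hcAC := bracket_eq_bot.1 hAC
  have hab := commCase_of_bracket_mem hS hA hB hAB
  have hbc := commCase_of_bracket_mem hS hB hC hBC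
  set A2 := ⁅A, B⁆ with hA2
  set C2 := ⁅B, C⁆ with hC2
  set C' := Cfsg.conjBy C b⁻¹ with hC'
  set A' := Cfsg.conjBy A b⁻¹ with hA'
  have hC'S : C' ∈ S := hS.conj_mem C hC _
  have hA'S : A' ∈ S := hS.conj_mem A hA _
  have memA' : ∀ β ∈ B, ∀ a ∈ A, β * a * β⁻¹ * a⁻¹ ∈ A2 := fun β hβ a ha => by
    rw [hA2, Subgroup.commutator_comm]; exact Subgroup.commutator_mem_commutator hβ ha
  have memC' : ∀ β ∈ B, ∀ c ∈ C, β * c * β⁻¹ * c⁻¹ ∈ C2 := fun β hβ c hc =>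
    Subgroup.commutator_mem_commutator hβ hc
  -- commuting with a conjugate of `C` is commuting with `C2`
  have hiff : ∀ β ∈ B, β ≠ 1 → (⁅A, Cfsg.conjBy C β⁆ = ⊥ ↔ ⁅A, C2⁆ = ⊥) := by
    intro β hβ hβ1
    simp only [bracket_eq_bot]
    constructor
    · intro h a ha d hd
      obtain ⟨c, hc, rfl⟩ := commCase_image hbc hβ hβ1 hd
      have h1 : Commute a (β * c * β⁻¹) := h a ha _ ⟨c, hc, rfl⟩
      exact (h1.mul_right (show Commute a c from hcAC a ha c hc).inv_right).eq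
    · intro h a ha x hx
      obtain ⟨c, hc, rfl⟩ := hx
      have h1 : Commute a (β * c * β⁻¹ * c⁻¹) := h a ha _ (memC' β hβ c hc)
      have h2 := h1.mul_right (show Commute a c from hcAC a ha c hc)
      rw [inv_mul_cancel_right] at h2
      exact h2.eq
  have hnr : ∀ β ∈ B, ¬ Cfsg.IsRankOnePair A (Cfsg.conjBy C β) := by
    intro β hβ hr
    obtain ⟨a, ha, ha1⟩ := exists_ne_one (hS.ne_bot A hA)
    have hkey : β * a * β⁻¹ = a ∨ β * a * β⁻¹ ≠ a := em _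
    have hzC : ∀ x ∈ Cfsg.conjBy C β, (β * a * β⁻¹) * x = x * (β * a * β⁻¹) := by
      rintro _ ⟨c, hc, rfl⟩
      show β * a * β⁻¹ * (β * c * β⁻¹) = β * c * β⁻¹ * (β * a * β⁻¹)
      calc _ = β * (a * c) * β⁻¹ := by group
        _ = β * (c * a) * β⁻¹ := by rw [hcAC a ha c hc]
        _ = _ := by group
    have hzA : ∀ x ∈ A, (β * a * β⁻¹) * x = x * (β * a * β⁻¹) := by
      intro x hx
      have h1 : Commute (β * a * β⁻¹ * a⁻¹) x :=
        ((commCase_comm hab).1 x hx _ (memA' β hβ a ha)).symm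
      have h2 := h1.mul_left (show Commute a x from comm_left hS hA a ha x hx)
      rwa [inv_mul_cancel_right] at h2
    rcases hkey with e | e
    · rw [e] at hzC
      exact ha1 (eq_one_of_normalizes hr ha (conjBy_of_centralizes hzC))
    · refine central_translate_not_root hS hA (hS.conj_mem C hC β) hr (inv_mem ha) (inv_ne_one.2 ha1)
        (commute_sup hzA hzC) (fun h => ha1 (conj_eq_one_iff.1 h)) ?_
      exact mem_rootElements hAB (memA' β hβ a ha) fun h => e (mul_inv_eq_one.1 h)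
  have hswap : ⁅A', C⁆ = ⊥ ↔ ⁅A, Cfsg.conjBy C b⁆ = ⊥ := by
    have e : Cfsg.conjBy C b = Subgroup.map (MulAut.conj b).toMonoidHom C := rfl
    constructor
    · intro h
      have := congrArg (Subgroup.map (MulAut.conj b).toMonoidHom) h
      rw [Subgroup.map_commutator, Subgroup.map_bot] at this
      change ⁅Cfsg.conjBy A' b, Cfsg.conjBy C b⁆ = ⊥ at this
      rwa [hA', conjBy_conjBy, mul_inv_cancel, conjBy_one] at this
    · intro h
      have := congrArg (Subgroup.map (MulAut.conj b⁻¹).toMonoidHom) h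
      rw [Subgroup.map_commutator, Subgroup.map_bot] at this
      change ⁅Cfsg.conjBy A b⁻¹, Cfsg.conjBy (Cfsg.conjBy C b) b⁻¹⁆ = ⊥ at this
      rwa [conjBy_conjBy, inv_mul_cancel, conjBy_one] at this
  have hnr' : ¬ Cfsg.IsRankOnePair A' C := fun h => by
    have := rankPair_conj h b
    rw [hA', conjBy_conjBy, mul_inv_cancel, conjBy_one] at this
    exact hnr b hb this
  -- the two halves
  have hclass : ∀ P Q : Subgroup G, P ∈ S → Q ∈ S → ¬ Cfsg.IsRankOnePair P Q →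
      ⁅⁅P ⊔ Q, P ⊔ Q⁆, P ⊔ Q⁆ = ⊥ := by
    intro P Q hP hQ hnot
    have hcent : ∀ x ∈ ⁅P, Q⁆, ∀ v ∈ P ⊔ Q, x * v = v * x := by
      rcases hS.pair P hP Q hQ with e | e | e
      · intro x hx v _
        rw [e, Subgroup.mem_bot] at hx
        rw [hx, one_mul, mul_one]
      · exact absurd e hnot
      · exact e.2.1
    have hn : ∀ R : Subgroup G, R ≤ P ⊔ Q → R ≤ Subgroup.normalizer ((⁅P, Q⁆ : Subgroup G) : Set G) := fun R hR r hr =>
      normalizer_iff.2 (conjBy_of_centralizes fun x hx => (hcent x hx r (hR hr)).symm)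
    have h0 : ⁅P ⊔ Q, P ⊔ Q⁆ ≤ ⁅P, Q⁆ := by
      refine bracket_sup_le (hn P le_sup_left) (hn Q le_sup_right) ?_ ?_
      · refine bracket_sup_le' (hn P le_sup_left) (hn Q le_sup_right) ?_ le_rfl
        rw [bracket_eq_bot.2 (comm_left hS hP)]; exact bot_le
      · refine bracket_sup_le' (hn P le_sup_left) (hn Q le_sup_right) ?_ ?_
        · rw [Subgroup.commutator_comm]
        · rw [bracket_eq_bot.2 (comm_left hS hQ)]; exact bot_le
    exact bracket_eq_bot.2 fun x hx v hv => hcent x (h0 hx) v hv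
  have hU2 := hclass A C' hA hC'S (hnr b⁻¹ (inv_mem hb))
  have hV2 := hclass A' C hA'S hC hnr'
  -- elements
  have hsupA' : A' ≤ A2 ⊔ A := by
    rintro _ ⟨a, ha, rfl⟩
    show b⁻¹ * a * b⁻¹⁻¹ ∈ A2 ⊔ A
    rw [show b⁻¹ * a * b⁻¹⁻¹ = (b⁻¹ * a * b⁻¹⁻¹ * a⁻¹) * a by group]
    exact mul_mem (Subgroup.mem_sup_left (memA' _ (inv_mem hb) a ha)) (Subgroup.mem_sup_right ha)
  have hsupC' : C' ≤ C2 ⊔ C := by
    rintro _ ⟨c, hc, rfl⟩
    show b⁻¹ * c * b⁻¹⁻¹ ∈ C2 ⊔ C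
    rw [show b⁻¹ * c * b⁻¹⁻¹ = (b⁻¹ * c * b⁻¹⁻¹ * c⁻¹) * c by group]
    exact mul_mem (Subgroup.mem_sup_left (memC' _ (inv_mem hb) c hc)) (Subgroup.mem_sup_right hc)
  have hUV : ⁅A ⊔ C', A' ⊔ C⁆ = ⊥ := by
    rw [bracket_eq_bot]
    have h1 : ∀ a ∈ A, ∀ x ∈ A', a * x = x * a := fun a ha x hx =>
      commute_sup (fun y hy => (commCase_comm hab).1 a ha y hy) (fun y hy => comm_left hS hA a ha y hy) x
        (hsupA' hx)
    have h2 : ∀ c ∈ C, ∀ x ∈ C', c * x = x * c := fun c hc x hx =>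
      commute_sup (fun y hy => (commCase_comm hbc).2 c hc y hy) (fun y hy => comm_left hS hC c hc y hy) x
        (hsupC' hx)
    intro u hu v hv
    refine commute_sup (fun x hx => ?_) (fun x hx => ?_) v hv
    · refine (commute_sup (fun y hy => (h1 y hy x hx).symm) (fun y hy => ?_) u hu).symm
      obtain ⟨a, ha, rfl⟩ := hx
      obtain ⟨c, hc, rfl⟩ := hy
      rw [← map_mul, ← map_mul, hcAC a ha c hc]
    · exact (commute_sup (fun y hy => (hcAC y hy x hx).symm) (fun y hy => h2 x hx y hy) u hu).symm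
  set K := (A ⊔ C') ⊔ (A' ⊔ C) with hK
  have hAK : A ≤ K := le_sup_left.trans le_sup_left
  have hCK : C ≤ K := le_sup_right.trans le_sup_right
  have hA2K : A2 ≤ K := by
    intro x hx
    obtain ⟨a, ha, rfl⟩ := commCase_image' hab (inv_mem hb) (inv_ne_one.2 hb1) hx
    rw [show a * b⁻¹ * a⁻¹ * b⁻¹⁻¹ = a * (b⁻¹ * a⁻¹ * b⁻¹⁻¹) by group]
    exact mul_mem (hAK ha) (Subgroup.mem_sup_right (Subgroup.mem_sup_left ⟨a⁻¹, inv_mem ha, rfl⟩))
  have hC2K : C2 ≤ K := by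
    intro x hx
    obtain ⟨c, hc, rfl⟩ := commCase_image hbc (inv_mem hb) (inv_ne_one.2 hb1) hx
    exact mul_mem (Subgroup.mem_sup_left (Subgroup.mem_sup_right ⟨c, hc, rfl⟩)) (hCK (inv_mem hc))
  have hKeq : K = (A ⊔ A2) ⊔ (C ⊔ C2) := by
    refine le_antisymm (sup_le (sup_le (le_sup_left.trans le_sup_left) ?_) (sup_le ?_ (le_sup_left.trans le_sup_right)))
      (sup_le (sup_le hAK hA2K) (sup_le hCK hC2K))
    · exact (hsupC'.trans (by rw [sup_comm])).trans le_sup_right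
    · exact (hsupA'.trans (by rw [sup_comm])).trans le_sup_left
  have hBA2 : ⁅B, A2⁆ = ⊥ := bracket_eq_bot.2 (commCase_comm hab).2
  have hBC2 : ⁅B, C2⁆ = ⊥ := bracket_eq_bot.2 (commCase_comm hbc).1
  have hBK : B ≤ Subgroup.normalizer (K : Set G) := by
    rw [Subgroup.le_normalizer_iff_commutator_le_right, hKeq]
    have hn : ∀ {R : Subgroup G}, R ≤ (A ⊔ A2) ⊔ (C ⊔ C2) →
        R ≤ Subgroup.normalizer (((A ⊔ A2) ⊔ (C ⊔ C2) : Subgroup G) : Set G) := fun hR =>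
      hR.trans Subgroup.le_normalizer
    refine bracket_sup_le' (hn le_sup_left) (hn le_sup_right) ?_ ?_
    · refine bracket_sup_le' (hn (le_sup_left.trans le_sup_left)) (hn (le_sup_right.trans le_sup_left)) ?_ ?_
      · rw [Subgroup.commutator_comm]; exact le_sup_right.trans le_sup_left
      · rw [hBA2]; exact bot_le
    · refine bracket_sup_le' (hn (le_sup_left.trans le_sup_right)) (hn (le_sup_right.trans le_sup_right)) ?_ ?_
      · exact le_sup_right.trans le_sup_right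
      · rw [hBC2]; exact bot_le
  have hG0K : A ⊔ B ⊔ C ≤ Subgroup.normalizer (K : Set G) :=
    sup_le (sup_le (hAK.trans Subgroup.le_normalizer) hBK) (hCK.trans Subgroup.le_normalizer)
  have hA2G : A2 ≤ A ⊔ B ⊔ C := by
    rw [hA2, Subgroup.commutator_le]
    intro x hx y hy
    rw [commutatorElement_def]
    have hx' : x ∈ A ⊔ B ⊔ C := Subgroup.mem_sup_left (Subgroup.mem_sup_left hx)
    have hy' : y ∈ A ⊔ B ⊔ C := Subgroup.mem_sup_left (Subgroup.mem_sup_right hy)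
    exact mul_mem (mul_mem (mul_mem hx' hy') (inv_mem hx')) (inv_mem hy')
  have hC2G : C2 ≤ A ⊔ B ⊔ C := by
    rw [hC2, Subgroup.commutator_le]
    intro x hx y hy
    rw [commutatorElement_def]
    have hx' : x ∈ A ⊔ B ⊔ C := Subgroup.mem_sup_left (Subgroup.mem_sup_right hx)
    have hy' : y ∈ A ⊔ B ⊔ C := Subgroup.mem_sup_right hy
    exact mul_mem (mul_mem (mul_mem hx' hy') (inv_mem hx')) (inv_mem hy')
  have hKB : K ⊔ B = A ⊔ B ⊔ C := by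
    refine le_antisymm (sup_le ?_ (le_sup_right.trans le_sup_left))
      (sup_le (sup_le (hAK.trans le_sup_left) le_sup_right) (hCK.trans le_sup_left))
    rw [hKeq]
    exact sup_le (sup_le (le_sup_left.trans le_sup_left) hA2G) (sup_le le_sup_right hC2G)
  refine ⟨?_, hUV, fun r hr => normalizer_iff.1 (hG0K hr), hKB, ?_⟩
  · rw [isMulComm_sup (comm_left hS hA) (comm_left hS hC'S), isMulComm_sup (comm_left hS hA'S) (comm_left hS hC),
      hswap, hiff b hb hb1, hiff b⁻¹ (inv_mem hb) (inv_ne_one.2 hb1)]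
    by_cases h : ⁅A, C2⁆ = ⊥
    · exact Or.inl ⟨h, h⟩
    · exact Or.inr ⟨⟨h, hU2⟩, ⟨h, hV2⟩⟩
  -- nilpotency
  set T := ⁅K, K⁆ with hT
  have hUVc := bracket_eq_bot.1 hUV
  have hTK : T ≤ K := by
    rw [hT, Subgroup.commutator_le]
    intro x hx y hy
    rw [commutatorElement_def]
    exact mul_mem (mul_mem (mul_mem hx hy) (inv_mem hx)) (inv_mem hy)
  have hTc : ∀ x ∈ T, ∀ k ∈ K, x * k = k * x := by
    have hUle : ⁅A ⊔ C', A ⊔ C'⁆ ≤ A ⊔ C' := by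
      rw [Subgroup.commutator_le]; intro x hx y hy; rw [commutatorElement_def]
      exact mul_mem (mul_mem (mul_mem hx hy) (inv_mem hx)) (inv_mem hy)
    have hVle : ⁅A' ⊔ C, A' ⊔ C⁆ ≤ A' ⊔ C := by
      rw [Subgroup.commutator_le]; intro x hx y hy; rw [commutatorElement_def]
      exact mul_mem (mul_mem (mul_mem hx hy) (inv_mem hx)) (inv_mem hy)
    have hc : ∀ x ∈ ⁅A ⊔ C', A ⊔ C'⁆ ⊔ ⁅A' ⊔ C, A' ⊔ C⁆, ∀ k ∈ K, x * k = k * x := by
      intro x hx k hk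
      refine commute_sup (fun y hy => ?_) (fun y hy => ?_) k hk
      · exact (commute_sup (fun z hz => (bracket_eq_bot.1 hU2 z hz y hy).symm)
          (fun z hz => hUVc y hy z (hVle hz)) x hx).symm
      · exact (commute_sup (fun z hz => (hUVc z (hUle hz) y hy).symm)
          (fun z hz => (bracket_eq_bot.1 hV2 z hz y hy).symm) x hx).symm
    have hn : ∀ {R : Subgroup G}, R ≤ K →
        R ≤ Subgroup.normalizer ((⁅A ⊔ C', A ⊔ C'⁆ ⊔ ⁅A' ⊔ C, A' ⊔ C⁆ : Subgroup G) : Set G) := fun hR r hr =>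
      normalizer_iff.2 (conjBy_of_centralizes fun x hx => (hc x hx r (hR hr)).symm)
    have hle : T ≤ ⁅A ⊔ C', A ⊔ C'⁆ ⊔ ⁅A' ⊔ C, A' ⊔ C⁆ := by
      refine bracket_sup_le (hn le_sup_left) (hn le_sup_right) ?_ ?_
      · refine bracket_sup_le' (hn le_sup_left) (hn le_sup_right) le_sup_left ?_
        rw [hUV]; exact bot_le
      · refine bracket_sup_le' (hn le_sup_left) (hn le_sup_right) ?_ le_sup_right
        rw [Subgroup.commutator_comm, hUV]; exact bot_le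
    exact fun x hx => hc x (hle hx)
  set N1 := (A2 ⊔ C2) ⊔ T with hN1
  have hN1K : N1 ≤ K := sup_le (sup_le hA2K hC2K) hTK
  have hKN1 : ⁅K, N1⁆ ≤ T := Subgroup.commutator_mono le_rfl hN1K
  have hKnN1 : K ≤ Subgroup.normalizer (N1 : Set G) :=
    Subgroup.le_normalizer_iff_commutator_le_right.2 (hKN1.trans le_sup_right)
  have hBKN : ⁅B, K⁆ ≤ N1 := by
    rw [hKeq]
    refine bracket_sup_le' (le_trans (sup_le hAK hA2K) hKnN1) (le_trans (sup_le hCK hC2K) hKnN1) ?_ ?_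
    · refine bracket_sup_le' (hAK.trans hKnN1) (hA2K.trans hKnN1) ?_ ?_
      · rw [Subgroup.commutator_comm]; exact le_sup_left.trans le_sup_left
      · rw [hBA2]; exact bot_le
    · refine bracket_sup_le' (hCK.trans hKnN1) (hC2K.trans hKnN1) ?_ ?_
      · exact le_sup_right.trans le_sup_left
      · rw [hBC2]; exact bot_le
  have hcent : ∀ {P : Subgroup G}, P ≤ T → K ≤ Subgroup.normalizer (P : Set G) := fun hP k hk =>
    normalizer_iff.2 (conjBy_of_centralizes fun x hx => (hTc x (hP hx) k hk).symm)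
  set T2 := ⁅K, N1⁆ with hT2
  set T3 := ⁅N1, N1⁆ with hT3
  have hT32 : T3 ≤ T2 := Subgroup.commutator_mono hN1K le_rfl
  -- conjugating a commutator by an element of `B`
  have hexp : ∀ k₁ ∈ K, ∀ k₂ ∈ K, ∀ β ∈ B,
      ⁅β, ⁅k₁, k₂⁆⁆ = ⁅k₁, ⁅β, k₂⁆⁆ * ⁅⁅β, k₁⁆, ⁅β, k₂⁆ * k₂⁆ := by
    intro k₁ hk₁ k₂ hk₂ β hβ
    set m₁ := ⁅β, k₁⁆ with hm₁
    set m₂ := ⁅β, k₂⁆ with hm₂
    have hm₁K : m₁ ∈ K := hN1K (hBKN (Subgroup.commutator_mem_commutator hβ hk₁))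
    have hm₂K : m₂ ∈ K := hN1K (hBKN (Subgroup.commutator_mem_commutator hβ hk₂))
    have hp : ⁅k₁, k₂⁆ ∈ T := Subgroup.commutator_mem_commutator hk₁ hk₂
    have hq : ⁅k₁, m₂ * k₂⁆ ∈ T := Subgroup.commutator_mem_commutator hk₁ (mul_mem hm₂K hk₂)
    have hq2 : ⁅m₁, m₂ * k₂⁆ ∈ T := Subgroup.commutator_mem_commutator hm₁K (mul_mem hm₂K hk₂)
    have e1 : β * ⁅k₁, k₂⁆ * β⁻¹ = ⁅m₁ * k₁, m₂ * k₂⁆ := by
      rw [hm₁, hm₂]; simp only [commutatorElement_def]; group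
    have e2 : ⁅m₁ * k₁, m₂ * k₂⁆ = ⁅k₁, m₂ * k₂⁆ * ⁅m₁, m₂ * k₂⁆ := by
      calc ⁅m₁ * k₁, m₂ * k₂⁆ = m₁ * ⁅k₁, m₂ * k₂⁆ * m₁⁻¹ * ⁅m₁, m₂ * k₂⁆ := by
            simp only [commutatorElement_def]; group
        _ = _ := by rw [← hTc _ hq m₁ hm₁K, mul_inv_cancel_right]
    have e3 : ⁅k₁, m₂ * k₂⁆ = ⁅k₁, m₂⁆ * ⁅k₁, k₂⁆ := by
      calc ⁅k₁, m₂ * k₂⁆ = ⁅k₁, m₂⁆ * (m₂ * ⁅k₁, k₂⁆ * m₂⁻¹) := by simp only [commutatorElement_def]; group
        _ = _ := by rw [← hTc _ hp m₂ hm₂K, mul_inv_cancel_right]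
    rw [commutatorElement_def β ⁅k₁, k₂⁆, e1, e2, e3, mul_assoc (⁅k₁, m₂⁆) ⁅k₁, k₂⁆,
      hTc _ hp _ (hTK hq2), ← mul_assoc, mul_inv_cancel_right]
  have hBT : ⁅T, B⁆ ≤ T2 := by
    refine bracket_bracket_le (le_trans hTK (hcent hKN1)) fun x hx y hy β hβ => ?_
    rw [← commutatorElement_inv, hexp x hx y hy β hβ]
    have h1 := hBKN (Subgroup.commutator_mem_commutator hβ hx)
    have h2 := hBKN (Subgroup.commutator_mem_commutator hβ hy)
    refine inv_mem (mul_mem (Subgroup.commutator_mem_commutator hx h2) ?_)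
    rw [← commutatorElement_inv]
    exact inv_mem (Subgroup.commutator_mem_commutator (mul_mem (hN1K h2) hy) h1)
  have hBN1 : ⁅B, N1⁆ ≤ T := by
    refine bracket_sup_le' (le_trans (sup_le hA2K hC2K) (hcent le_rfl)) (hTK.trans (hcent le_rfl)) ?_ ?_
    · refine bracket_sup_le' (hA2K.trans (hcent le_rfl)) (hC2K.trans (hcent le_rfl)) ?_ ?_
      · rw [hBA2]; exact bot_le
      · rw [hBC2]; exact bot_le
    · rw [Subgroup.commutator_comm]; exact hBT.trans hKN1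
  have hBT2 : ⁅T2, B⁆ ≤ T3 := by
    refine bracket_bracket_le (le_trans (hKN1.trans hTK) (hcent (hT32.trans hKN1))) fun x hx y hy β hβ => ?_
    rw [← commutatorElement_inv, hexp x hx y (hN1K hy) β hβ]
    have h1 := hBKN (Subgroup.commutator_mem_commutator hβ hx)
    have h2 := hBN1 (Subgroup.commutator_mem_commutator hβ hy)
    refine inv_mem (mul_mem ?_ (Subgroup.commutator_mem_commutator h1 (mul_mem (Subgroup.mem_sup_right h2) hy)))
    rw [show ⁅x, ⁅β, y⁆⁆ = 1 from commutatorElement_eq_one_iff_mul_comm.2 (hTc _ h2 x hx).symm]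
    exact one_mem _
  have hBT3 : ⁅T3, B⁆ ≤ ⊥ := by
    refine bracket_bracket_le (fun r _ => by rw [normalizer_iff]; exact Subgroup.map_bot _) fun x hx y hy β hβ => ?_
    rw [← commutatorElement_inv, hexp x (hN1K hx) y (hN1K hy) β hβ]
    have h1 := hBN1 (Subgroup.commutator_mem_commutator hβ hx)
    have h2 := hBN1 (Subgroup.commutator_mem_commutator hβ hy)
    rw [show ⁅x, ⁅β, y⁆⁆ = 1 from commutatorElement_eq_one_iff_mul_comm.2 (hTc _ h2 x (hN1K hx)).symm,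
      show ⁅⁅β, x⁆, ⁅β, y⁆ * y⁆ = 1 from
        commutatorElement_eq_one_iff_mul_comm.2 (hTc _ h1 _ (mul_mem (hTK h2) (hN1K hy))), one_mul, inv_one]
    exact one_mem _
  -- the series
  rw [Subgroup.isNilpotent_iff_lowerCentralSeries]
  have hTK0 : ∀ {P : Subgroup G}, P ≤ T → ∀ {R : Subgroup G}, R ≤ K → ⁅P, R⁆ = ⊥ := fun hP R hR =>
    bracket_eq_bot.2 fun x hx r hr => hTc x (hP hx) r (hR hr)
  have step : ∀ {P Q : Subgroup G}, P ≤ T → Q ≤ T → B ≤ Subgroup.normalizer (Q : Set G) → ⁅P, B⁆ ≤ Q →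
      ⁅P, A ⊔ B ⊔ C⁆ ≤ Q := by
    intro P Q hP hQ hnB h
    rw [← hKB]
    refine bracket_sup_le' (hcent hQ) hnB ?_ h
    rw [hTK0 hP le_rfl]; exact bot_le
  refine ⟨5, eq_bot_iff.2 ?_⟩
  simp only [Subgroup.lowerCentralSeries_succ, Subgroup.lowerCentralSeries_zero]
  have hGn : ∀ {R : Subgroup G}, R ≤ A ⊔ B ⊔ C → R ≤ Subgroup.normalizer (N1 : Set G) := fun hR =>
    hR.trans (hKB ▸ sup_le hKnN1 (Subgroup.le_normalizer_iff_commutator_le_right.2 (hBN1.trans le_sup_right)))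
  have s1 : ⁅A ⊔ B ⊔ C, A ⊔ B ⊔ C⁆ ≤ N1 := by
    rw [← hKB]
    have hn1 := hGn (hKB ▸ (le_sup_left : K ≤ K ⊔ B))
    have hn2 := hGn (hKB ▸ (le_sup_right : B ≤ K ⊔ B))
    refine bracket_sup_le hn1 hn2 (bracket_sup_le' hn1 hn2 le_sup_right ?_) (bracket_sup_le' hn1 hn2 hBKN ?_)
    · rw [Subgroup.commutator_comm]; exact hBKN
    · rw [bracket_eq_bot.2 (comm_left hS hB)]; exact bot_le
  have s2 : ⁅N1, A ⊔ B ⊔ C⁆ ≤ T := by
    rw [← hKB]
    refine bracket_sup_le' (hcent le_rfl) ?_ ?_ ?_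
    · exact Subgroup.le_normalizer_iff_commutator_le_left.2 (hBT.trans hKN1)
    · rw [Subgroup.commutator_comm]; exact hKN1
    · rw [Subgroup.commutator_comm]; exact hBN1
  have hnT2 : B ≤ Subgroup.normalizer (T2 : Set G) :=
    Subgroup.le_normalizer_iff_commutator_le_left.2 (hBT2.trans hT32)
  have hnT3 : B ≤ Subgroup.normalizer (T3 : Set G) :=
    Subgroup.le_normalizer_iff_commutator_le_left.2 (hBT3.trans bot_le)
  calc _ ≤ ⁅⁅⁅⁅N1, A ⊔ B ⊔ C⁆, A ⊔ B ⊔ C⁆, A ⊔ B ⊔ C⁆, A ⊔ B ⊔ C⁆ :=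
        Subgroup.commutator_mono (Subgroup.commutator_mono (Subgroup.commutator_mono
          (Subgroup.commutator_mono s1 le_rfl) le_rfl) le_rfl) le_rfl
    _ ≤ ⁅⁅⁅T, A ⊔ B ⊔ C⁆, A ⊔ B ⊔ C⁆, A ⊔ B ⊔ C⁆ :=
        Subgroup.commutator_mono (Subgroup.commutator_mono (Subgroup.commutator_mono s2 le_rfl) le_rfl) le_rfl
    _ ≤ ⁅⁅T2, A ⊔ B ⊔ C⁆, A ⊔ B ⊔ C⁆ :=
        Subgroup.commutator_mono (Subgroup.commutator_mono (step le_rfl hKN1 hnT2 hBT) le_rfl) le_rfl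
    _ ≤ ⁅T3, A ⊔ B ⊔ C⁆ := Subgroup.commutator_mono (step hKN1 (hT32.trans hKN1) hnT3 hBT2) le_rfl
    _ ≤ ⊥ := step (hT32.trans hKN1) bot_le (fun r _ => by rw [normalizer_iff]; exact Subgroup.map_bot _) hBT3

end Cfsg.Agent.Timmesfeld
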