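import Cfsg.Agent.Lib.Timmesfeld.Special2
import Cfsg.Agent.Lib.Timmesfeld.Module2

/-!
# Lines: transitivity, connectedness, generation
-/

set_option autoImplicit false

namespace Cfsg.Agent.Timmesfeld

open scoped commutatorElement Pointwise

variable {G : Type*} [Group G] {S : Set (Subgroup G)}

theorem linePartners_symm {A B : Subgroup G} (hA : A ∈ S) (h : B ∈ Cfsg.linePartners S A) :
    A ∈ Cfsg.linePartners S B := by
  obtain ⟨⟨hB, hne, hc⟩, hp⟩ := h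
  exact ⟨⟨hA, hne.symm, by rwa [Subgroup.commutator_comm]⟩, sup_comm A B ▸ hp⟩

theorem line_comm {A B : Subgroup G} (h : B ∈ Cfsg.linePartners S A) : ∀ x ∈ A, ∀ y ∈ B, x * y = y * x :=
  bracket_eq_bot.1 h.1.2.2

theorem line_root (hS : Cfsg.IsRootSubgroupSet S) {A B D : Subgroup G} (hA : A ∈ S) (hD : D ∈ S)
    (hAD : Cfsg.IsRankOnePair A D) (h : B ∈ Cfsg.linePartners S A) :
    ∀ x ∈ A, x ≠ 1 → ∀ y ∈ B, y ≠ 1 → x * y ∈ Cfsg.rootElements S := fun x hx hx1 y hy _ => by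
  have hxy : x * y ≠ 1 := fun e => h.1.2.1 (eq_of_mem_inter hS hA hD hAD h.1.1 hx hx1 (by
    rw [eq_inv_of_mul_eq_one_left e]; exact inv_mem hy))
  obtain ⟨M, hM, hm⟩ := h.2.2.1 _ (mul_mem (Subgroup.mem_sup_left hx) (Subgroup.mem_sup_right hy)) hxy
  exact mem_rootElements hM.1 hm hxy

/-- For every partner `D` of `A`, some member of the line has `⁅A, ⁅D, M⁆⁆ = M`. -/
theorem exists_nonpartner (hS : Cfsg.IsRootSubgroupSet S) (hF : ∀ A ∈ S, ∃ D ∈ S, Cfsg.IsRankOnePair A D)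
    {A B D : Subgroup G} (hA : A ∈ S) (hB : B ∈ Cfsg.linePartners S A) (hD : D ∈ S)
    (hAD : Cfsg.IsRankOnePair A D) :
    ∃ M ∈ S, M ≠ A ∧ ¬ Cfsg.IsRankOnePair D M ∧ M ∈ Cfsg.linePartners S A ∧ A ⊔ M = A ⊔ B ∧
      ⁅A, ⁅D, M⁆⁆ = M ∧ Cfsg.RootCommutatorCase S D M ∧ Cfsg.RootCommutatorCase S A ⁅D, M⁆ ∧
      ∀ N ∈ Cfsg.membersIn S (A ⊔ B), N ≠ M → ∃ w ∈ ⁅D, M⁆, N = Cfsg.conjBy A w := by
  have hcAB := line_comm hB
  obtain ⟨⟨hBS, hBA, -⟩, hpart⟩ := hB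
  -- a member of the line which is no partner of `D`
  obtain ⟨M, hMm, hMA, hMD⟩ : ∃ M ∈ Cfsg.membersIn S (A ⊔ B), M ≠ A ∧ ¬ Cfsg.IsRankOnePair D M := by
    by_cases hDB : Cfsg.IsRankOnePair D B
    swap
    · exact ⟨B, ⟨hBS, le_sup_right⟩, hBA, hDB⟩
    obtain ⟨b, hb, hb1⟩ := exists_ne_one (hS.ne_bot D hD)
    obtain ⟨a, ha, ha1, hea⟩ := hAD.cond_right b hb hb1
    obtain ⟨z, hz, hz1, hez⟩ := hDB.cond_left b hb hb1
    have hz0 : a * z⁻¹ ≠ 1 := fun e => by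
      rw [mul_inv_eq_one] at e
      exact hBA (eq_of_mem_inter hS hA hD hAD hBS ha ha1 (e ▸ hz))
    obtain ⟨M, hMm, hMz⟩ := hpart.2.1 _
      (mul_mem (Subgroup.mem_sup_left ha) (Subgroup.mem_sup_right (inv_mem hz))) hz0
    refine ⟨M, hMm, fun e => ?_, fun hr => ?_⟩
    · rw [e] at hMz
      have hzA : z ∈ A := by
        have := mul_mem (inv_mem ha) hMz
        rw [inv_mul_cancel_left] at this
        simpa using inv_mem this
      exact hBA (eq_of_mem_inter hS hA hD hAD hBS hzA (fun e => hz1 e) hz)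
    have hcomm : ∀ u ∈ Cfsg.conjBy D a⁻¹, ∀ v ∈ Cfsg.conjBy D z⁻¹, u * v = v * u := by
      intro u hu v hv
      rw [hea] at hu
      rw [hez] at hv
      obtain ⟨x, hx, rfl⟩ := hu
      obtain ⟨y, hy, rfl⟩ := hv
      rw [← map_mul, ← map_mul, hcAB x hx y hy]
    obtain ⟨v, hv, hv1⟩ := exists_ne_one (hS.ne_bot D hD)
    have hfix := eq_left_of_fixed hr hv hv1
      (⟨_, Subgroup.mem_sup_right hMz, rfl⟩ : Cfsg.conjBy D (a * z⁻¹) ∈ Cfsg.unipotentSubgroups D M)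
      (conjBy_of_centralizes fun u hu => by
        have h1 : a⁻¹ * v * a ∈ Cfsg.conjBy D a⁻¹ := mem_conjBy.2 (by simpa [mul_assoc] using hv)
        have h2 : a⁻¹ * u * a ∈ Cfsg.conjBy D z⁻¹ :=
          mem_conjBy.2 (by simpa [mul_assoc] using mem_conjBy.1 hu)
        calc v * u = a * ((a⁻¹ * v * a) * (a⁻¹ * u * a)) * a⁻¹ := by group
          _ = a * ((a⁻¹ * u * a) * (a⁻¹ * v * a)) * a⁻¹ := by rw [hcomm _ h1 _ h2]
          _ = u * v := by group)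
    exact hz0 (eq_one_of_normalizes' hr hMz hfix)
  obtain ⟨hM, hMle⟩ := hMm
  have hcAM : ∀ x ∈ A, ∀ m ∈ M, x * m = m * x := fun x hx m hm =>
    commute_sup (fun a ha => comm_left hS hA x hx a ha) (fun y hy => hcAB x hx y hy) m (hMle hm)
  have hlineM : ∀ x ∈ A, x ≠ 1 → ∀ m ∈ M, m ≠ 1 → x * m ∈ Cfsg.rootElements S := by
    intro x hx hx1 m hm _
    have hxm : x * m ≠ 1 := fun e => hMA (eq_of_mem_inter hS hA hD hAD hM hx hx1 (by
      rw [eq_inv_of_mul_eq_one_left e]; exact inv_mem hm))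
    obtain ⟨N, hN, hn⟩ := hpart.2.1 _ (mul_mem (Subgroup.mem_sup_left hx) (hMle hm)) hxm
    exact mem_rootElements hN.1 hn hxm
  obtain ⟨hDM, hAW, hMe, -⟩ := line_bracket hS hA hD hAD hM hcAM hlineM hMD
  set W := ⁅D, M⁆ with hWdef
  have hDfix : ∀ w ∈ W, Cfsg.conjBy D w = D := fun w hw =>
    conjBy_of_centralizes fun d hd => ((commCase_comm hDM).1 d hd w hw).symm
  -- the members inside `A ⊔ M`
  obtain ⟨hmem, hpart', -, -⟩ := line_description hS hA hDM.1 hD hAD (by rw [hMe]; exact hM)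
  rw [hMe] at hmem hpart'
  have hsup : A ⊔ M = A ⊔ B := by
    refine le_antisymm (sup_le le_sup_left hMle) (sup_le le_sup_left ?_)
    by_cases hBM : B = M
    · rw [hBM]; exact le_sup_right
    -- an element of the member through `a * b`
    obtain ⟨m, hm, hm1⟩ := exists_ne_one (hS.ne_bot M hM)
    have hmAB := hMle hm
    obtain ⟨a, ha, b, hb, rfl⟩ : ∃ a ∈ A, ∃ b ∈ B, m = a * b := by
      have hn : A ≤ Subgroup.normalizer (B : Set G) := fun x hx =>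
        normalizer_iff.2 (conjBy_of_centralizes fun y hy => hcAB x hx y hy)
      have h1 : (m : G) ∈ ((A : Set G) * (B : Set G) : Set G) := by
        rw [← Subgroup.coe_mul_of_left_le_normalizer_right A B hn]; exact hmAB
      obtain ⟨a, ha, b, hb, rfl⟩ := h1
      exact ⟨a, ha, b, hb, rfl⟩
    have hbM : b ∈ A ⊔ M := by
      have := mul_mem (inv_mem (Subgroup.mem_sup_left (T := M) ha)) (Subgroup.mem_sup_right (S := A) hm)
      rwa [inv_mul_cancel_left] at this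
    have hb1 : b ≠ 1 := by
      rintro rfl
      rw [mul_one] at hm hm1
      exact hMA (eq_of_mem_inter hS hA hD hAD hM ha hm1 hm)
    obtain ⟨N, hN, hbN⟩ := hpart'.2.1 b hbM hb1
    obtain ⟨E, hE, hBE⟩ := hF B hBS
    exact (eq_of_mem_inter hS hBS hE hBE hN.1 hb hb1 hbN) ▸ hN.2
  refine ⟨M, hM, hMA, hMD, ⟨⟨hM, hMA, bracket_eq_bot.2 hcAM⟩, hpart'⟩, hsup, hMe, hDM, hAW, fun N hN hNM => ?_⟩
  rw [← hsup, hmem] at hN
  rcases hN with ⟨w, hw, rfl⟩ | e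
  · exact ⟨w, hw, rfl⟩
  · exact absurd e hNM

theorem line_two_transitive (hS : Cfsg.IsRootSubgroupSet S) (hF : ∀ A ∈ S, ∃ D ∈ S, Cfsg.IsRankOnePair A D)
    {A B : Subgroup G} (hA : A ∈ S) (hB : B ∈ Cfsg.linePartners S A) :
    ∀ C₁ ∈ Cfsg.membersIn S (A ⊔ B), ∀ C₂ ∈ Cfsg.membersIn S (A ⊔ B), ∀ D₁ ∈ Cfsg.membersIn S (A ⊔ B),
      ∀ D₂ ∈ Cfsg.membersIn S (A ⊔ B), C₁ ≠ C₂ → D₁ ≠ D₂ →
        ∃ x ∈ ⨆ E ∈ Cfsg.normalizingMembers S (A ⊔ B), E, Cfsg.conjBy C₁ x = D₁ ∧ Cfsg.conjBy C₂ x = D₂ := by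
  set P := A ⊔ B with hP
  set K := ⨆ E ∈ Cfsg.normalizingMembers S P, E with hK
  have hKn : K ≤ Subgroup.normalizer (P : Set G) := iSup₂_le fun E hE => hE.2
  have hKmem : ∀ k ∈ K, ∀ N ∈ Cfsg.membersIn S P, Cfsg.conjBy N k ∈ Cfsg.membersIn S P := fun k hk N hN =>
    ⟨hS.conj_mem N hN.1 k, (Subgroup.map_mono hN.2).trans (normalizer_iff.1 (hKn hk)).le⟩
  have hAm : A ∈ Cfsg.membersIn S P := ⟨hA, le_sup_left⟩
  have hBm : B ∈ Cfsg.membersIn S P := ⟨hB.1.1, le_sup_right⟩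
  -- for a member `X` with a line partner on `P`, a point stabiliser is transitive on the other members
  have key : ∀ X Y : Subgroup G, X ∈ S → Y ∈ Cfsg.linePartners S X → X ⊔ Y = P →
      ∃ M ∈ Cfsg.membersIn S P, M ≠ X ∧ X ⊔ M = P ∧ M ∈ Cfsg.linePartners S X ∧
        ∀ N₁ ∈ Cfsg.membersIn S P, ∀ N₂ ∈ Cfsg.membersIn S P, N₁ ≠ M → N₂ ≠ M →
          ∃ k ∈ K, Cfsg.conjBy M k = M ∧ Cfsg.conjBy N₁ k = N₂ := by
    intro X Y hX hY hXY
    obtain ⟨D, hD, hXD⟩ := hF X hX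
    obtain ⟨M, hM, hMX, -, hMl, hsup, hMe, hDM, hXW, htr⟩ := exists_nonpartner hS hF hX hY hD hXD
    rw [hXY] at htr hsup
    have hWfix : ∀ w ∈ ⁅D, M⁆, Cfsg.conjBy M w = M := fun w hw =>
      conjBy_of_centralizes fun m hm => ((commCase_comm hDM).2 m hm w hw).symm
    have hWK : ⁅D, M⁆ ≤ K := by
      refine le_iSup₂_of_le _ ⟨hDM.1, ?_⟩ le_rfl
      rw [← hsup, Subgroup.le_normalizer_iff_commutator_le_right]
      refine bracket_sup_le' (le_sup_left.trans Subgroup.le_normalizer) (le_sup_right.trans Subgroup.le_normalizer) ?_ ?_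
      · rw [Subgroup.commutator_comm, hMe]; exact le_sup_right
      · rw [bracket_eq_bot.2 fun w hw m hm => ((commCase_comm hDM).2 m hm w hw).symm]; exact bot_le
    refine ⟨M, ⟨hM, hsup ▸ le_sup_right⟩, hMX, hsup, hMl, fun N₁ h1 N₂ h2 hn1 hn2 => ?_⟩
    obtain ⟨w₁, hw₁, rfl⟩ := htr N₁ h1 hn1
    obtain ⟨w₂, hw₂, rfl⟩ := htr N₂ h2 hn2
    exact ⟨w₂ * w₁⁻¹, hWK (mul_mem hw₂ (inv_mem hw₁)), hWfix _ (mul_mem hw₂ (inv_mem hw₁)),
      by rw [conjBy_conjBy, inv_mul_cancel_right]⟩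
  obtain ⟨M, hMm, hMA, hsup, hMl, htrM⟩ := key A B hA hB rfl
  obtain ⟨M', hM'm, hM'M, -, -, htrM'⟩ := key M A hMm.1 (linePartners_symm hA hMl) (sup_comm A M ▸ hsup)
  -- a third member
  obtain ⟨T, hTm, hTM, hTM'⟩ : ∃ T ∈ Cfsg.membersIn S P, T ≠ M ∧ T ≠ M' := by
    by_cases hA' : A = M'
    swap
    · exact ⟨A, hAm, hMA.symm, hA'⟩
    obtain ⟨a, ha, ha1⟩ := exists_ne_one (hS.ne_bot A hA)
    obtain ⟨m, hm, hm1⟩ := exists_ne_one (hS.ne_bot M hMm.1)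
    obtain ⟨D, hD, hAD⟩ := hF A hA
    obtain ⟨T, hT, hTam⟩ := hsup ▸ hMl.2.2.1 _
      (mul_mem (Subgroup.mem_sup_left ha) (Subgroup.mem_sup_right hm)) (line_root hS hA hD hAD hMl a ha ha1 m hm hm1).1
    refine ⟨T, hT, fun e => ?_, fun e => ?_⟩
    · rw [e] at hTam
      refine hMA (eq_of_mem_inter hS hA hD hAD hMm.1 ha ha1 ?_)
      have := mul_mem hTam (inv_mem hm); rwa [mul_inv_cancel_right] at this
    · rw [e, ← hA'] at hTam
      refine hMA (eq_of_mem_inter hS hA hD hAD hMm.1 ?_ hm1 hm)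
      have := mul_mem (inv_mem ha) hTam; rwa [inv_mul_cancel_left] at this
  have hto : ∀ N ∈ Cfsg.membersIn S P, ∃ k ∈ K, Cfsg.conjBy T k = N := by
    intro N hN
    by_cases hNM : N = M
    · obtain ⟨k, hk, -, he⟩ := htrM' T hTm M hMm hTM' (Ne.symm hM'M)
      exact ⟨k, hk, hNM ▸ he⟩
    · obtain ⟨k, hk, -, he⟩ := htrM T hTm N hN hTM hNM
      exact ⟨k, hk, he⟩
  intro C₁ h1 C₂ h2 D₁ h3 D₂ h4 hC hD
  obtain ⟨k₁, hk₁, e₁⟩ := hto C₁ h1
  obtain ⟨k₂, hk₂, e₂⟩ := hto D₁ h3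
  obtain ⟨k₃, hk₃, e₃⟩ := hto M hMm
  -- conjugate to the stabiliser of `M`
  set g := k₃ * k₂⁻¹ with hg
  set h := k₃ * k₁⁻¹ with hh
  have hgK : g ∈ K := mul_mem hk₃ (inv_mem hk₂)
  have hhK : h ∈ K := mul_mem hk₃ (inv_mem hk₁)
  have hgD : Cfsg.conjBy D₁ g = M := by
    rw [hg, ← e₂, conjBy_conjBy, inv_mul_cancel_right, e₃]
  have hhC : Cfsg.conjBy C₁ h = M := by
    rw [hh, ← e₁, conjBy_conjBy, inv_mul_cancel_right, e₃]
  obtain ⟨k, hk, hkM, hke⟩ := htrM (Cfsg.conjBy C₂ h) (hKmem h hhK C₂ h2) (Cfsg.conjBy D₂ g)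
    (hKmem g hgK D₂ h4) (fun e => hC (conjBy_inj (hhC.trans e.symm)))
    (fun e => hD (conjBy_inj (hgD.trans e.symm)))
  refine ⟨g⁻¹ * k * h, mul_mem (mul_mem (inv_mem hgK) hk) hhK, ?_, ?_⟩
  · rw [← conjBy_conjBy, hhC, ← conjBy_conjBy, hkM, ← hgD, conjBy_conjBy, inv_mul_cancel, conjBy_one]
  · rw [← conjBy_conjBy, ← conjBy_conjBy, hke, conjBy_conjBy, inv_mul_cancel, conjBy_one]

theorem class_partners (hS : Cfsg.IsRootSubgroupClass S) {A₀ B₀ : Subgroup G} (hA₀ : A₀ ∈ S) (hB₀ : B₀ ∈ S)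
    (hp : Cfsg.IsRankOnePair A₀ B₀) : ∀ A ∈ S, ∃ D ∈ S, Cfsg.IsRankOnePair A D := fun A hA => by
  obtain ⟨g, rfl⟩ := hS.2.2 A₀ hA₀ A hA
  exact ⟨_, hS.1.conj_mem B₀ hB₀ g, rankPair_conj hp g⟩

theorem nondeg_partners (hS : Cfsg.IsRootSubgroupClass S) (hnd : Cfsg.IsNondegenerateRootSet S) :
    ∀ A ∈ S, ∃ D ∈ S, Cfsg.IsRankOnePair A D := by
  obtain ⟨-, ⟨A₀, hA₀, B₀, hB₀, hp⟩, -⟩ := hnd
  exact class_partners hS hA₀ hB₀ hp

theorem nondeg_fconnected (hS : Cfsg.IsRootSubgroupClass S) (hnd : Cfsg.IsNondegenerateRootSet S) :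
    Cfsg.IsConnectedFamily (Cfsg.FAdj S) S := by
  obtain ⟨⟨A₁, hA₁, B₁, hB₁, hne, -⟩, ⟨A₀, hA₀, B₀, hB₀, hp⟩, -⟩ := hnd
  exact (connected_iff hS.1 ⟨A₁, hA₁, B₁, hB₁, hne⟩).2
    ⟨hS.2, A₀, hA₀, fun hi => (hi.2 B₀).1 ⟨hA₀, hB₀, hp⟩⟩

theorem line_connected (hS : Cfsg.IsRootSubgroupClass S) (hnd : Cfsg.IsNondegenerateRootSet S) :
    Cfsg.IsConnectedFamily (Cfsg.EAdj S S) S ∧ Cfsg.IsConnectedFamily (Cfsg.DAdj S) S := by
  have hF := nondeg_partners hS hnd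
  have hstep : ∀ A B, A ∈ S → B ∈ S → Cfsg.IsRankOnePair A B →
      Relation.ReflTransGen (Cfsg.EAdj S S) A B := by
    intro A B hA hB hp
    obtain ⟨⟨C, hC, -, hW⟩, -⟩ := nondegenerate_special hS hnd hA ⟨hB, hp⟩
    have hC' := hC.1.1
    obtain ⟨D, hD, hBD⟩ := hF B hB
    obtain ⟨E, hE, hCE⟩ := hF C hC'
    have h2 := (line_description hS.1 hB hC' hD hBD hW).2.2.1
    have h3 := (line_description hS.1 hC' hB hE hCE (by rwa [Subgroup.commutator_comm])).2.2.1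
    rw [Subgroup.commutator_comm] at h3
    exact ((Relation.ReflTransGen.single ⟨hA, hC', hC⟩).tail ⟨hC', hW, linePartners_symm hW h3⟩).tail ⟨hW, hB, h2⟩
  have hE : Cfsg.IsConnectedFamily (Cfsg.EAdj S S) S := by
    intro A hA B hB
    have := nondeg_fconnected hS hnd A hA B hB
    induction this with
    | refl => exact .refl
    | tail _ hs ih => exact (ih hs.1).trans (hstep _ _ hs.1 hs.2.1 hs.2.2)
  refine ⟨hE, fun A hA B hB => ?_⟩
  refine (hE A hA B hB).lift id fun X Y h => ?_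
  exact ⟨h.1, h.2.1, h.2.2.1.2.1.symm, h.2.2.1.2.2⟩

/-- On a line through two members, a line partner `V` of the first one moves the second one. -/
theorem line_mover (hS : Cfsg.IsRootSubgroupClass S) (hnd : Cfsg.IsNondegenerateRootSet S) {A C : Subgroup G}
    (hA : A ∈ S) (hC : C ∈ Cfsg.linePartners S A) :
    ∃ E ∈ S, Cfsg.IsRankOnePair C E ∧ Cfsg.RootCommutatorCase S E A ∧ Cfsg.RootCommutatorCase S C ⁅E, A⁆ ∧
      ⁅C, ⁅E, A⁆⁆ = A ∧ ⁅E, A⁆ ∈ Cfsg.linePartners S A := by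
  have hF := nondeg_partners hS hnd
  obtain ⟨E₀, hE₀, hCE₀⟩ := hF C hC.1.1
  obtain ⟨D, hD, hAD⟩ := hF A hA
  obtain ⟨M, hM, hMC, hnr, hMl, hsup, hMe, hEM, hCW, htr⟩ :=
    exists_nonpartner hS.1 hF hC.1.1 (linePartners_symm hA hC) hE₀ hCE₀
  -- move `M` to `A` fixing `C`
  obtain ⟨x, -, hxC, hxM⟩ := line_two_transitive hS.1 hF hC.1.1 (linePartners_symm hA hC)
    C ⟨hC.1.1, le_sup_left⟩ M ⟨hM, hsup ▸ le_sup_right⟩ C ⟨hC.1.1, le_sup_left⟩ A ⟨hA, le_sup_right⟩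
    hMC.symm hC.1.2.1
  have hE := hS.1.conj_mem E₀ hE₀ x
  have hr : Cfsg.IsRankOnePair C (Cfsg.conjBy E₀ x) := hxC ▸ rankPair_conj hCE₀ x
  have hmap : Cfsg.conjBy ⁅E₀, M⁆ x = ⁅Cfsg.conjBy E₀ x, A⁆ := by
    rw [← hxM]; exact Subgroup.map_commutator _ _ _
  have hEA : Cfsg.RootCommutatorCase S (Cfsg.conjBy E₀ x) A :=
    commCase_of_bracket_mem hS.1 hE hA (hmap ▸ hS.1.conj_mem _ hEM.1 x)
  have hCV : ⁅C, ⁅Cfsg.conjBy E₀ x, A⁆⁆ = A := by
    calc ⁅C, ⁅Cfsg.conjBy E₀ x, A⁆⁆ = ⁅Cfsg.conjBy C x, Cfsg.conjBy ⁅E₀, M⁆ x⁆ := by rw [hmap, hxC]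
      _ = Cfsg.conjBy ⁅C, ⁅E₀, M⁆⁆ x := (Subgroup.map_commutator _ _ _).symm
      _ = A := by rw [hMe, hxM]
  refine ⟨_, hE, hr, hEA, commCase_of_bracket_mem hS.1 hC.1.1 hEA.1 (hCV.symm ▸ hA), hCV, ?_⟩
  have h := (line_description hS.1 hA hE hD hAD (by rw [Subgroup.commutator_comm]; exact hEA.1)).2.2.1
  rw [Subgroup.commutator_comm A] at h
  exact linePartners_symm hEA.1 h

theorem generation (hS : Cfsg.IsRootSubgroupClass S) (hnd : Cfsg.IsNondegenerateRootSet S)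
    {A B : Subgroup G} (hA : A ∈ S) (hB : B ∈ Cfsg.rankOnePartners S A) :
    (⨆ C ∈ Cfsg.linePartners S A, C) ⊔ B = ⊤ := by
  have hF := nondeg_partners hS hnd
  obtain ⟨hBS, hAB⟩ := hB
  set U := (⨆ C ∈ Cfsg.linePartners S A, C) ⊔ B with hU
  have hΛ : ∀ C ∈ Cfsg.linePartners S A, C ≤ U := fun C hC =>
    (le_iSup₂ (f := fun C (_ : C ∈ Cfsg.linePartners S A) => C) C hC).trans le_sup_left
  have hBU : B ≤ U := le_sup_right
  -- `A` lies in `U`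
  have hAU : A ≤ U := by
    obtain ⟨⟨C, hC, -, -⟩, -⟩ := nondegenerate_special hS hnd hA ⟨hBS, hAB⟩
    obtain ⟨E, -, -, -, -, hCV, hVl⟩ := line_mover hS hnd hA hC
    rw [← hCV, Subgroup.commutator_le]
    intro c hc v hv
    have hc' := hΛ C hC hc
    have hv' := hΛ _ hVl hv
    rw [commutatorElement_def]
    exact mul_mem (mul_mem (mul_mem hc' hv') (inv_mem hc')) (inv_mem hv')
  -- every line partner is conjugate to `A` under `U`
  have hconj : ∀ Y ∈ Cfsg.linePartners S A, ∃ u ∈ U, Y = Cfsg.conjBy A u := by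
    intro Y hY
    obtain ⟨M, hM, hMA, -, hMl, hsup, -, hDM, -, htr⟩ := exists_nonpartner hS.1 hF hA hY hBS hAB
    have hWU : ⁅B, M⁆ ≤ U := by
      rw [Subgroup.commutator_le]
      intro b hb m hm
      rw [commutatorElement_def]
      exact mul_mem (mul_mem (mul_mem (hBU hb) (hΛ M hMl hm)) (inv_mem (hBU hb))) (inv_mem (hΛ M hMl hm))
    by_cases hYM : Y = M
    swap
    · obtain ⟨w, hw, e⟩ := htr Y ⟨hY.1.1, le_sup_right⟩ hYM
      exact ⟨w, hWU hw, e⟩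
    obtain ⟨E, hE, -, -, hMV, hMVe, hVl⟩ := line_mover hS hnd hA hY
    obtain ⟨c, hc, hc1⟩ := exists_ne_one (hS.1.ne_bot Y hY.1.1)
    obtain ⟨a, ha, ha1⟩ := exists_ne_one (hS.1.ne_bot A hA)
    obtain ⟨v, hv, he⟩ := commCase_line hS.1 hY.1.1 hMV hc hc1 (hMVe.symm ▸ ha : a ∈ ⁅Y, ⁅E, A⁆⁆)
    have hvU : v ∈ U := hΛ _ hVl hv
    have hNmem : Cfsg.conjBy Y v ∈ Cfsg.membersIn S (A ⊔ Y) := by
      refine ⟨hS.1.conj_mem _ hY.1.1 v, ?_⟩
      rintro _ ⟨y, hy, rfl⟩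
      have h1 : y * v * y⁻¹ * v⁻¹ ∈ A := hMVe ▸ Subgroup.commutator_mem_commutator hy hv
      show v * y * v⁻¹ ∈ A ⊔ Y
      rw [show v * y * v⁻¹ = (y * v * y⁻¹ * v⁻¹)⁻¹ * y by group]
      exact mul_mem (Subgroup.mem_sup_left (inv_mem h1)) (Subgroup.mem_sup_right hy)
    have hNM : Cfsg.conjBy Y v ≠ M := by
      intro e
      rw [← hYM] at e
      have hca : c * a ∈ Y := by rw [← e]; exact ⟨c, hc, he⟩
      have haY : a ∈ Y := by
        have := mul_mem (inv_mem hc) hca; rwa [inv_mul_cancel_left] at this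
      obtain ⟨D, hD, hAD⟩ := hF A hA
      exact hY.1.2.1 (eq_of_mem_inter hS.1 hA hD hAD hY.1.1 ha ha1 haY)
    obtain ⟨w, hw, e⟩ := htr _ hNmem hNM
    refine ⟨v⁻¹ * w, mul_mem (inv_mem hvU) (hWU hw), ?_⟩
    rw [← conjBy_conjBy, ← e, conjBy_conjBy, inv_mul_cancel, conjBy_one]
  rw [eq_top_iff, ← hS.1.generates]
  refine iSup₂_le fun Y hY => ?_
  have key : ∀ Y, Relation.ReflTransGen (Cfsg.EAdj S S) A Y → ∃ u ∈ U, Y = Cfsg.conjBy A u := by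
    intro Y hr
    induction hr with
    | refl => exact ⟨1, one_mem _, (conjBy_one A).symm⟩
    | @tail X Y _ hs ih =>
      obtain ⟨u, hu, rfl⟩ := ih
      have hl : Cfsg.conjBy Y u⁻¹ ∈ Cfsg.linePartners S A := by
        obtain ⟨-, -, ⟨hYS, hne, hc⟩, hp⟩ := hs
        refine ⟨⟨hS.1.conj_mem Y hYS _, fun e => hne ?_, ?_⟩, ?_⟩
        · conv_rhs => rw [← e]
          rw [conjBy_conjBy, mul_inv_cancel, conjBy_one]
        · have := congrArg (Subgroup.map (MulAut.conj u⁻¹).toMonoidHom) hc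
          rw [Subgroup.map_commutator, Subgroup.map_bot] at this
          change ⁅Cfsg.conjBy (Cfsg.conjBy A u) u⁻¹, Cfsg.conjBy Y u⁻¹⁆ = ⊥ at this
          rwa [conjBy_conjBy, inv_mul_cancel, conjBy_one] at this
        · obtain ⟨h1, h2, h3⟩ := hp
          have hsupc : A ⊔ Cfsg.conjBy Y u⁻¹ = Cfsg.conjBy (Cfsg.conjBy A u ⊔ Y) u⁻¹ := by
            show _ = Subgroup.map (MulAut.conj u⁻¹).toMonoidHom _
            rw [Subgroup.map_sup]
            congr 1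
            show A = Cfsg.conjBy (Cfsg.conjBy A u) u⁻¹
            rw [conjBy_conjBy, inv_mul_cancel, conjBy_one]
          have hback : ∀ N : Subgroup G, Cfsg.conjBy (Cfsg.conjBy N u) u⁻¹ = N := fun N => by
            rw [conjBy_conjBy, inv_mul_cancel, conjBy_one]
          rw [hsupc]
          refine ⟨fun N hN => hN.2, fun x hx hx1 => ?_, fun N hN N' hN' hne => ?_⟩
          · obtain ⟨y, hy, rfl⟩ := hx
            obtain ⟨N, hN, hyN⟩ := h2 y hy (fun e => hx1 (by rw [e, map_one]))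
            exact ⟨Cfsg.conjBy N u⁻¹, ⟨hS.1.conj_mem N hN.1 _, Subgroup.map_mono hN.2⟩, ⟨y, hyN, rfl⟩⟩
          · have hm : ∀ N ∈ Cfsg.membersIn S (Cfsg.conjBy (Cfsg.conjBy A u ⊔ Y) u⁻¹),
                Cfsg.conjBy N u ∈ Cfsg.membersIn S (Cfsg.conjBy A u ⊔ Y) := fun N hN => by
              refine ⟨hS.1.conj_mem N hN.1 _, (Subgroup.map_mono hN.2).trans ?_⟩
              exact (show Cfsg.conjBy (Cfsg.conjBy (Cfsg.conjBy A u ⊔ Y) u⁻¹) u = _ by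
                rw [conjBy_conjBy, mul_inv_cancel, conjBy_one]).le
            have h4 := h3 _ (hm N hN) _ (hm N' hN') (fun e => hne (conjBy_inj e))
            rw [Subgroup.eq_bot_iff_forall]
            rintro x ⟨hx, hx'⟩
            exact conj_eq_one_iff.1 ((Subgroup.eq_bot_iff_forall _).1 h4 (u * x * u⁻¹) ⟨⟨x, hx, rfl⟩, ⟨x, hx', rfl⟩⟩)
      obtain ⟨v, hv, e⟩ := hconj _ hl
      refine ⟨u * v, mul_mem hu hv, ?_⟩
      rw [← conjBy_conjBy, ← e, conjBy_conjBy, mul_inv_cancel, conjBy_one]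
  obtain ⟨u, hu, rfl⟩ := key Y ((line_connected hS hnd).1 A hA Y hY)
  rintro _ ⟨a, ha, rfl⟩
  exact mul_mem (mul_mem hu (hAU ha)) (inv_mem hu)

theorem weakTI_abelian (hS : Cfsg.IsRootSubgroupClass S) (hnd : Cfsg.IsNondegenerateRootSet S)
    {Δ : Set (Subgroup G)} (hΔ : Cfsg.IsWeakTISubset S Δ) : Cfsg.IsAbelianFamily Δ := by
  obtain ⟨hsub, -, hneS, hTI⟩ := hΔ
  have hF := nondeg_partners hS hnd
  let K : Subgroup G :=
    { carrier := {g | (fun A => Cfsg.conjBy A g) '' Δ = Δ}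
      one_mem' := by
        show (fun A => Cfsg.conjBy A 1) '' Δ = Δ
        simp only [conjBy_one, Set.image_id']
      mul_mem' := fun {g h} hg hh => by
        show (fun A => Cfsg.conjBy A (g * h)) '' Δ = Δ
        have e : (fun A : Subgroup G => Cfsg.conjBy A (g * h)) = (fun A => Cfsg.conjBy A g) ∘ fun A => Cfsg.conjBy A h := by
          funext A; exact (conjBy_conjBy A h g).symm
        rw [e, Set.image_comp, hh, hg]
      inv_mem' := fun {g} hg => by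
        show (fun A => Cfsg.conjBy A g⁻¹) '' Δ = Δ
        conv_lhs => rw [← hg]
        rw [Set.image_image]
        simp only [conjBy_conjBy, inv_mul_cancel, conjBy_one, Set.image_id'] }
  have hKmem : ∀ k ∈ K, ∀ X ∈ Δ, Cfsg.conjBy X k ∈ Δ := fun k hk X hX => by
    have h : (fun A => Cfsg.conjBy A k) '' Δ = Δ := hk
    rw [← h]; exact ⟨X, hX, rfl⟩
  have hKfix : ∀ X ∈ Δ, ∀ Y ∈ S, (∀ x ∈ X, ∀ y ∈ Y, x * y = y * x) → Y ≤ K := by
    intro X hX Y hY hc y hy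
    by_cases hy1 : y = 1
    · rw [hy1]; exact one_mem _
    rcases hTI y (mem_rootElements hY hy hy1) with e | e
    · exact e
    · exfalso
      exact Set.disjoint_left.1 e ⟨X, hX, conjBy_of_centralizes fun x hx => (hc x hx y hy).symm⟩ hX
  -- `K` is not everything
  have hKne : ∀ X ∈ Δ, ∀ D ∈ S, Cfsg.IsRankOnePair X D → D ≤ K → False := by
    intro X hX D hD hXD hDK
    have htop : K = ⊤ := by
      rw [eq_top_iff, ← generation hS hnd (hsub hX) ⟨hD, hXD⟩]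
      exact sup_le (iSup₂_le fun C hC => hKfix X hX C hC.1.1 (line_comm hC)) hDK
    refine hneS (Set.Subset.antisymm hsub fun Y hY => ?_)
    obtain ⟨g, rfl⟩ := hS.2.2 X (hsub hX) Y hY
    exact hKmem g (htop ▸ Subgroup.mem_top g) X hX
  intro X hX Y hY
  rcases hS.1.pair X (hsub hX) Y (hsub hY) with e | e | e
  · exact bracket_eq_bot.1 e
  · exact (hKne X hX Y (hsub hY) e (hKfix Y hY Y (hsub hY) (comm_left hS.1 (hsub hY)))).elim
  exfalso
  set Z := ⁅X, Y⁆ with hZ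
  obtain ⟨D, hD, hXD⟩ := hF X (hsub hX)
  obtain ⟨D', hD', hYD'⟩ := hF Y (hsub hY)
  have hXZ : X ∈ Cfsg.linePartners S Z := (line_description hS.1 (hsub hX) (hsub hY) hD hXD e.1).2.2.1
  have hZX := linePartners_symm e.1 hXZ
  have hYZ : Y ∈ Cfsg.linePartners S Z := by
    have h := (line_description hS.1 (hsub hY) (hsub hX) hD' hYD' (by rw [Subgroup.commutator_comm]; exact e.1)).2.2.1
    rwa [Subgroup.commutator_comm] at h
  obtain ⟨E, -, -, hEY, hZV, hVe, hVl⟩ := line_mover hS hnd (hsub hY) (linePartners_symm e.1 hYZ)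
  -- `⁅E, Y⁆` is a partner of `X` inside `K`
  set V := ⁅E, Y⁆ with hV
  have hr : Cfsg.IsRankOnePair X V := by
    refine cycle_rank hS.1 (hsub hY) (hsub hX) hEY.1 (by rw [Subgroup.commutator_comm]; exact e.1) ?_
    rw [Subgroup.commutator_comm Y X, Subgroup.commutator_comm]
    exact hVe
  exact hKne X hX V hEY.1 hr (hKfix Y hY V hEY.1 (line_comm hVl))

end Cfsg.Agent.Timmesfeld
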