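import Cfsg.Agent.Lib.Timmesfeld.Prime
import Cfsg.Agent.Lib.Timmesfeld.Group
import Cfsg.Agent.Lib.Components.Basic

/-!
# Special rank one groups with abelian unipotent subgroups are small or perfect
-/

set_option autoImplicit false

namespace Cfsg.Agent.Timmesfeld

variable {G : Type*} [Group G] {A B : Subgroup G}

/-- The Weyl element of a pair is in the group and exchanges the two subgroups. -/
theorem Part.swap (hs : Cfsg.IsSpecialRankOnePair A B) {a b : G} (h : Part A B a b) :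
    (a * b⁻¹ * a ∈ A ⊔ B) ∧ Cfsg.conjBy A (a * b⁻¹ * a) = B ∧ Cfsg.conjBy B (a * b⁻¹ * a) = A := by
  refine ⟨mul_mem (mul_mem (Subgroup.mem_sup_left h.mem_left) (Subgroup.mem_sup_right (inv_mem h.mem_right)))
    (Subgroup.mem_sup_left h.mem_left), ?_, ?_⟩
  · rw [← conjBy_conjBy, conjBy_self h.mem_left, ← conjBy_conjBy, h.conj, conjBy_conjBy, mul_inv_cancel,
      conjBy_one]
  · rw [h.braid hs, ← conjBy_conjBy, conjBy_self (inv_mem h.mem_right), ← conjBy_conjBy,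
      show Cfsg.conjBy B a = Cfsg.conjBy A b by simpa only [inv_inv] using (h.inv hs).conj.symm,
      conjBy_conjBy, inv_mul_cancel, conjBy_one]

theorem conjBy_inv_eq {C D : Subgroup G} {g : G} (h : Cfsg.conjBy C g = D) : Cfsg.conjBy D g⁻¹ = C := by
  rw [← h, conjBy_conjBy, inv_mul_cancel, conjBy_one]

theorem Part.mem_diagonal (hs : Cfsg.IsSpecialRankOnePair A B) {a b a' b' : G} (h : Part A B a b)
    (h' : Part A B a' b') :
    (a * b⁻¹ * a) * (a' * b'⁻¹ * a') ∈ Cfsg.rankOneDiagonal A B ∧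
      (a * b⁻¹ * a)⁻¹ * (a' * b'⁻¹ * a') ∈ Cfsg.rankOneDiagonal A B := by
  obtain ⟨hm, hA, hB⟩ := h.swap hs
  obtain ⟨hm', hA', hB'⟩ := h'.swap hs
  refine ⟨⟨⟨mul_mem hm hm', normalizer_iff.2 ?_⟩, normalizer_iff.2 ?_⟩,
    ⟨⟨mul_mem ((A ⊔ B).inv_mem hm) hm', normalizer_iff.2 ?_⟩, normalizer_iff.2 ?_⟩⟩ <;> rw [← conjBy_conjBy]
  · rw [hA', hB]
  · rw [hB', hA]
  · rw [hA', conjBy_inv_eq hA]
  · rw [hB', conjBy_inv_eq hB]

theorem diff_mem (hs : Cfsg.IsSpecialRankOnePair A B) (hab : Cfsg.HasAbelianUnipotents A B) {t s : G}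
    (ht : t ∈ A) (hs' : s ∈ A) (ht1 : t ≠ 1) (hs1 : s ≠ 1) (hts : t * s ≠ 1) :
    t⁻¹ * s ∈ (⁅A, Cfsg.rankOneDiagonal A B⁆ : Subgroup G) := by
  have hA : ∀ u ∈ A, ∀ v ∈ A, u * v = v * u := fun u hu v hv => by
    have := hab.1; exact congrArg Subtype.val (mul_comm' (⟨u, hu⟩ : A) ⟨v, hv⟩)
  have hB : ∀ u ∈ B, ∀ v ∈ B, u * v = v * u := fun u hu v hv => by
    have := hab.2; exact congrArg Subtype.val (mul_comm' (⟨u, hu⟩ : B) ⟨v, hv⟩)
  obtain ⟨gt, pt⟩ := Part.exists_right hs.1 ht ht1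
  obtain ⟨gs, ps⟩ := Part.exists_right hs.1 hs' hs1
  obtain ⟨gu, pu⟩ := Part.exists_right hs.1 (mul_mem ht hs') hts
  have hne : gt * gs ≠ 1 := by
    intro e
    have e' : gt = gs⁻¹ := eq_inv_of_mul_eq_one_left e
    rw [e'] at pt
    exact hts (by rw [pt.unique_left hs.1 (ps.inv hs), inv_mul_cancel])
  obtain ⟨r, pr⟩ := Part.exists_left hs.1 (mul_mem pt.mem_right ps.mem_right) hne
  set u := t * s with hu
  set wt := t * gt⁻¹ * t with hwt
  set ws := s * gs⁻¹ * s with hws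
  set wu := u * gu⁻¹ * u with hwu
  set wr := r * (gt * gs)⁻¹ * r with hwr
  obtain ⟨-, hrA, hrB⟩ := pr.swap hs
  obtain ⟨-, htA, htB⟩ := pt.swap hs
  obtain ⟨-, hsA, hsB⟩ := ps.swap hs
  obtain ⟨-, huA, huB⟩ := pu.swap hs
  rw [← hwr] at hrA hrB; rw [← hwt] at htA htB; rw [← hws] at hsA hsB; rw [← hwu] at huA huB
  set a1 := wt * gu⁻¹ * wt⁻¹ with ha1
  set a2 := ws⁻¹ * gu⁻¹ * ws with ha2
  have ha1A : a1 ∈ A := by rw [← htB]; exact ⟨gu⁻¹, inv_mem pu.mem_right, rfl⟩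
  have ha2A : a2 ∈ A := by
    rw [← conjBy_inv_eq hsA]
    exact mem_conjBy.2 (by simpa [ha2, mul_assoc] using inv_mem pu.mem_right)
  set n := wt * wu⁻¹ * ws with hn
  have hnB : Cfsg.conjBy B n = A := by
    rw [hn, ← conjBy_conjBy, hsB, ← conjBy_conjBy, conjBy_inv_eq huB, htB]
  have hnA : Cfsg.conjBy A n = B := by
    rw [hn, ← conjBy_conjBy, hsA, ← conjBy_conjBy, conjBy_inv_eq huA, htA]
  have hub : u⁻¹ = gu⁻¹ * wu⁻¹ * gu⁻¹ := by rw [hwu, pu.braid hs]; group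
  have hmain : t⁻¹ * a1 * n * (a2 * s⁻¹) = r⁻¹ * wr * r⁻¹ := by
    have h1 : r⁻¹ * wr * r⁻¹ = gt⁻¹ * gs⁻¹ := by
      rw [hwr, mul_inv_rev gt gs, ← hB _ (inv_mem pt.mem_right) _ (inv_mem ps.mem_right)]; group
    have h2 : t⁻¹ * a1 * n * (a2 * s⁻¹) = t⁻¹ * wt * (gu⁻¹ * wu⁻¹ * gu⁻¹) * ws * s⁻¹ := by
      rw [ha1, ha2, hn]; group
    rw [h1, h2, ← hub, hu, mul_inv_rev, ← hA _ (inv_mem ht) _ (inv_mem hs'), hwt, hws]
    group
  set k := t⁻¹ * a1 with hk
  set l := a2 * s⁻¹ with hl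
  have hkA : k ∈ A := mul_mem (inv_mem ht) ha1A
  have hlA : l ∈ A := mul_mem ha2A (inv_mem hs')
  have hl' : r⁻¹ * l⁻¹ = 1 := by
    refine eq_one_of_normalizes hs.1 (mul_mem (inv_mem pr.mem_left) (inv_mem hlA)) ?_
    have e : n = k⁻¹ * r⁻¹ * (wr * (r⁻¹ * l⁻¹)) := by
      calc n = k⁻¹ * (k * n * l) * l⁻¹ := by group
        _ = _ := by rw [hmain]; group
    have h1 : Cfsg.conjBy (Cfsg.conjBy (Cfsg.conjBy B (r⁻¹ * l⁻¹)) wr) (k⁻¹ * r⁻¹) = A := by
      rw [conjBy_conjBy, conjBy_conjBy, mul_assoc, ← e, hnB]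
    conv_rhs at h1 => rw [← conjBy_self (mul_mem (inv_mem hkA) (inv_mem pr.mem_left))]
    have h2 := conjBy_inj h1
    conv_rhs at h2 => rw [← hrB]
    exact conjBy_inj h2
  have hl2 : l = r⁻¹ := by
    rw [mul_eq_one_iff_eq_inv, inv_inv] at hl'; exact hl'.symm
  have hkn : k * n = r⁻¹ * wr := by
    have := hmain; rw [hl2] at this; exact mul_right_cancel this
  have hk2 : k = r⁻¹ := by
    have h1 : Cfsg.conjBy B k = Cfsg.conjBy B r⁻¹ := by
      conv_lhs => rw [← hnA]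
      rw [conjBy_conjBy, hkn, ← conjBy_conjBy, hrA]
    exact conjBy_inj_left hs.1 hkA (inv_mem pr.mem_left) h1
  have hcomm : ∀ {h : G}, h ∈ Cfsg.rankOneDiagonal A B →
      h * u * h⁻¹ * u⁻¹ ∈ (⁅A, Cfsg.rankOneDiagonal A B⁆ : Subgroup G) := by
    intro h hh
    rw [Subgroup.commutator_comm]
    have := Subgroup.commutator_mem_commutator hh pu.mem_left
    rwa [commutatorElement_def] at this
  have hgu : gu⁻¹ = wu * u * wu⁻¹ := (pu.conj_eq hs).symm
  have c1 := hcomm (pt.mem_diagonal hs pu).1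
  have c2 := hcomm (ps.mem_diagonal hs pu).2
  rw [← hwt, ← hwu, show wt * wu * u * (wt * wu)⁻¹ = a1 by rw [ha1, hgu]; group] at c1
  rw [← hws, ← hwu, show ws⁻¹ * wu * u * (ws⁻¹ * wu)⁻¹ = a2 by rw [ha2, hgu]; group] at c2
  have e1 : a1 = t * r⁻¹ := by
    calc a1 = t * k := by rw [hk]; group
      _ = t * r⁻¹ := by rw [hk2]
  have e2 : a2 = r⁻¹ * s := by
    calc a2 = l * s := by rw [hl]; group
      _ = r⁻¹ * s := by rw [hl2]
  have h3 := mul_mem (inv_mem c1) c2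
  rw [e1, e2] at h3
  have h4 : (t * r⁻¹ * u⁻¹)⁻¹ * (r⁻¹ * s * u⁻¹) = t⁻¹ * s := by
    rw [← hA _ (inv_mem pr.mem_left) _ ht,
      show (r⁻¹ * t * u⁻¹)⁻¹ * (r⁻¹ * s * u⁻¹) = u * (t⁻¹ * s * u⁻¹) by group,
      hA _ (mul_mem (inv_mem ht) hs') _ (inv_mem pu.mem_left), mul_inv_cancel_left]
  rwa [h4] at h3

theorem le_commutator_diagonal (hs : Cfsg.IsSpecialRankOnePair A B) (hab : Cfsg.HasAbelianUnipotents A B)
    (hcard : 3 < ENat.card A) : A ≤ (⁅A, Cfsg.rankOneDiagonal A B⁆ : Subgroup G) := by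
  intro x hx
  by_cases hx1 : x = 1
  · rw [hx1]; exact one_mem _
  obtain ⟨y, hy, hy1, hy2, hy3⟩ : ∃ y ∈ A, y ≠ 1 ∧ x * y ≠ 1 ∧ x * (x * y) ≠ 1 := by
    by_contra hno
    push Not at hno
    refine absurd hcard (not_lt.2 ?_)
    have hsub : (A : Set G) ⊆ {1, x⁻¹, (x * x)⁻¹} := by
      intro y hy
      simp only [Set.mem_insert_iff, Set.mem_singleton_iff]
      by_cases h1 : y = 1
      · exact Or.inl h1
      by_cases h2 : x * y = 1
      · exact Or.inr (Or.inl (eq_inv_of_mul_eq_one_right h2))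
      · exact Or.inr (Or.inr (eq_inv_of_mul_eq_one_right (by rw [mul_assoc]; exact hno y hy h1 h2)))
    refine le_trans (le_of_eq_of_le ?_ (Set.encard_le_encard hsub)) ?_
    · exact ENat.card_coe_set_eq (A : Set G)
    · refine (Set.encard_insert_le _ _).trans (add_le_add ((Set.encard_insert_le _ _).trans (add_le_add (Set.encard_singleton _).le le_rfl)) le_rfl |>.trans ?_)
      norm_num
  have h1 := diff_mem hs hab hx hy hx1 hy1 hy2
  have h2 := diff_mem hs hab hx (mul_mem hx hy) hx1 hy2 hy3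
  rw [inv_mul_cancel_left] at h2
  have h3 := mul_mem h2 (inv_mem h1)
  rwa [mul_inv_rev, inv_inv, mul_inv_cancel_left] at h3

theorem small_or_perfect {X : Type*} [Group X] {A B : Subgroup X} (h : Cfsg.IsRankOneGroup X A B)
    (hs : Cfsg.IsSpecialRankOnePair A B) (hab : Cfsg.HasAbelianUnipotents A B) :
    (ENat.card A ≤ 3 ∧ (Nonempty (X ≃* Matrix.SpecialLinearGroup (Fin 2) (ZMod 2)) ∨
        Nonempty (X ≃* Matrix.SpecialLinearGroup (Fin 2) (ZMod 3)) ∨
        Nonempty (X ≃* Matrix.ProjectiveSpecialLinearGroup (Fin 2) (ZMod 3)))) ∨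
    (commutator X ⊔ A = ⊤ ∧ Cfsg.IsQuasisimple (commutator X) ∧
      3 < ENat.card ↥(⁅A, Cfsg.rankOneDiagonal A B⁆ : Subgroup X)) := by
  obtain ⟨a, ha, ha1⟩ := exists_ne_one (ne_bot_left h.2)
  obtain ⟨b, hp⟩ := Part.exists_right h.2 ha ha1
  obtain ⟨-, hwA, -⟩ := hp.swap hs
  by_cases hcard : 3 < ENat.card A
  · refine Or.inr ?_
    have hle := le_commutator_diagonal hs hab hcard
    have hA' : A ≤ commutator X := hle.trans (Subgroup.commutator_mono le_top le_top)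
    have htop : commutator X = ⊤ := by
      rw [eq_top_iff, ← h.1]
      refine sup_le hA' fun y hy => ?_
      rw [← hwA] at hy
      obtain ⟨x, hx, rfl⟩ := hy
      exact (inferInstance : (commutator X).Normal).conj_mem x (hA' hx) _
    refine ⟨by rw [htop, top_sup_eq], ?_, hcard.trans_le ?_⟩
    · rw [htop]
      have hp : Group.IsPerfect X := ⟨htop⟩
      exact (Components.quasisimple_congr Subgroup.topEquiv.symm).1 (quasisimple h hp)
    · exact ENat.card_le_card_of_injective (Subgroup.inclusion_injective hle)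
  · push Not at hcard
    refine Or.inl ⟨hcard, ?_⟩
    have hfin : Finite A := ENat.card_lt_top.1 (hcard.trans_lt (by decide))
    have hn : Nat.card A ≤ 3 := by
      rw [ENat.card_eq_coe_natCard] at hcard; exact_mod_cast hcard
    have hn2 : 2 ≤ Nat.card A := by
      have : Nontrivial A := ⟨⟨⟨a, ha⟩, 1, fun e => ha1 (congrArg Subtype.val e)⟩⟩
      exact Finite.one_lt_card
    have key : ∀ (p : ℕ) [Fact p.Prime], Nat.card A = p →
        Nonempty (X ≃* Matrix.SpecialLinearGroup (Fin 2) (ZMod p)) ∨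
          Nonempty (X ≃* Matrix.ProjectiveSpecialLinearGroup (Fin 2) (ZMod p)) := by
      intro p _ hpc
      have hel : Cfsg.IsElementaryAbelian p A := ⟨hab.1, fun x hx => by
        have := pow_card_eq_one' (x := (⟨x, hx⟩ : A))
        rw [hpc] at this; exact congrArg Subtype.val this⟩
      have hz : A ≤ Subgroup.closure ({a, b} : Set X) := fun x hx => by
        obtain ⟨k, hk⟩ := Subgroup.mem_zpowers_iff.1
          (mem_zpowers_of_prime_card hpc (g := (⟨a, ha⟩ : A)) (g' := ⟨x, hx⟩)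
            fun e => ha1 (congrArg Subtype.val e))
        rw [show x = ((⟨x, hx⟩ : A) : X) from rfl, ← hk, Subgroup.coe_zpow]
        exact zpow_mem (Subgroup.subset_closure (Set.mem_insert _ _)) _
      have htop : Subgroup.closure ({a, b} : Set X) = ⊤ := by
        rw [eq_top_iff, ← h.1]
        refine sup_le hz fun y hy => ?_
        rw [← hwA] at hy
        obtain ⟨x, hx, rfl⟩ := hy
        have hw : a * b⁻¹ * a ∈ Subgroup.closure ({a, b} : Set X) :=
          mul_mem (mul_mem (hz ha) (inv_mem (Subgroup.subset_closure (Set.mem_insert_of_mem _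
            (Set.mem_singleton _))))) (hz ha)
        exact mul_mem (mul_mem hw (hz hx)) (inv_mem hw)
      have e := (MulEquiv.subgroupCongr htop).trans Subgroup.topEquiv
      rcases closure_pair_iso hs hab hel hp with ⟨⟨f⟩⟩ | ⟨⟨f⟩⟩
      · exact Or.inl ⟨e.symm.trans f⟩
      · exact Or.inr ⟨e.symm.trans f⟩
    rcases (show Nat.card A = 2 ∨ Nat.card A = 3 by omega) with hc | hc
    · rcases key 2 hc with ⟨⟨f⟩⟩ | ⟨⟨f⟩⟩
      · exact Or.inl ⟨f⟩
      · have hbot : Subgroup.center (Matrix.SpecialLinearGroup (Fin 2) (ZMod 2)) = ⊥ := by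
          rw [Subgroup.eq_bot_iff_forall]
          intro c hc
          obtain ⟨r, hr, he⟩ := Matrix.SpecialLinearGroup.mem_center_iff.1 hc
          obtain rfl : r = 1 := by
            have hr' : r ^ 2 = 1 := by simpa using hr
            have := (by decide : ∀ q : ZMod 2, q ^ 2 = 1 → q = 1)
            exact this r hr'
          exact Subtype.ext (by rw [← he, map_one]; rfl)
        exact Or.inl ⟨f.trans ((QuotientGroup.quotientMulEquivOfEq hbot).trans QuotientGroup.quotientBot)⟩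
    · rcases key 3 hc with hf | hf
      · exact Or.inr (Or.inl hf)
      · exact Or.inr (Or.inr hf)

end Cfsg.Agent.Timmesfeld
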