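import Cfsg.Agent.Lib.Timmesfeld.Group
import Mathlib.Algebra.Module.Basic

/-!
# Quadratic modules for rank one groups
-/

set_option autoImplicit false

namespace Cfsg.Agent.Timmesfeld

/-- The ring identity behind `b' = b⁻¹`. -/
theorem quad_identity {R : Type*} [Ring R] {α β γ : R} (hα : α * α = 0) (hβ : β * β = 0)
    (hβγ : β * γ = 0) (hγβ : γ * β = 0)
    (heq : (1 - β) * (1 + α) * (1 + β) = (1 - α) * (1 + γ) * (1 + α)) :
    α * (γ + β) = 0 ∧ (γ + β) * α = 0 := by
  have hα' : ∀ x, x * α * α = 0 := fun x => by rw [mul_assoc, hα, mul_zero]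
  have hβ' : ∀ x, x * β * β = 0 := fun x => by rw [mul_assoc, hβ, mul_zero]
  have e0 : γ + γ * α - α * γ - α * γ * α = α + α * β - β * α - β * α * β := by
    have e1 : (1 - β) * (1 + α) * (1 + β) = 1 - β * β + (α + α * β - β * α - β * α * β) := by noncomm_ring
    have e2 : (1 - α) * (1 + γ) * (1 + α) = 1 - α * α + (γ + γ * α - α * γ - α * γ * α) := by noncomm_ring
    rw [e1, e2, hα, hβ] at heq
    exact (add_left_cancel heq).symm
  have h1 : α * γ + α * γ * α + α * β * α + α * β * α * β = 0 := by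
    have := congrArg (α * ·) e0
    simp only [mul_add, mul_sub, ← mul_assoc, hα, zero_mul, sub_zero, zero_add, zero_sub] at this
    rw [this]; abel
  have h2 : α * γ * α = -(α * β * α * β * α) := by
    have := congrArg (· * α) h1
    simp only [add_mul, hα', add_zero, zero_mul] at this
    exact eq_neg_of_add_eq_zero_left this
  have h3 : α * γ = α * β * α * β * α - α * β * α - α * β * α * β := by
    rw [h2] at h1
    rw [← sub_eq_zero, ← h1]; abel
  have h4 : γ * α = α * β * α - β * α * β * α - α * β * α * β * α := by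
    have := congrArg (· * α) e0
    simp only [add_mul, sub_mul, hα, hα', add_zero, sub_zero, zero_add, zero_sub] at this
    rw [eq_add_of_sub_eq this, h2]; abel
  have h5 : γ = α + α * β - β * α - β * α * β - α * β * α - α * β * α + β * α * β * α - α * β * α * β
      + α * β * α * β * α := by
    rw [← sub_eq_zero]
    rw [h2, h3, h4, ← sub_eq_zero] at e0
    rw [← e0]; abel
  have q1 : β * α + β * α * β - β * α * β * α - β * α * β * α - β * α * β * α * β
      + β * α * β * α * β * α = 0 := by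
    have := hβγ
    rw [h5] at this
    simp only [mul_add, mul_sub, ← mul_assoc, hβ, zero_mul, sub_zero, add_zero] at this
    rw [← this]
  have q2 : β * α * β * α * β * α = β * α * β * α := by
    have := congrArg (· * α) q1
    simp only [add_mul, sub_mul, hα', zero_mul, add_zero, sub_zero, zero_add] at this
    exact (sub_eq_zero.1 this).symm
  have qq : β * α * β * α = β * α := by
    rw [q2] at q1
    have := congrArg (· * α) q1
    have q3 := congrArg (· * β) q1
    simp only [add_mul, sub_mul, hβ', zero_mul, add_zero, sub_zero] at q3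
    have q4 : β * α * β = β * α * β * α * β := by
      rw [← sub_eq_zero, ← q3]; abel
    rw [← q4] at q1
    rw [← sub_eq_zero]
    rw [← neg_eq_zero, ← q1]; abel
  have p1 : α * β - β * α * β - α * β * α * β - α * β * α * β + β * α * β * α * β
      + α * β * α * β * α * β = 0 := by
    have := hγβ
    rw [h5] at this
    simp only [add_mul, sub_mul, hβ, hβ', zero_mul, sub_zero, add_zero] at this
    rw [← this]
  have pp : α * β * α * β = α * β := by
    rw [qq, show α * β * α * β * α * β = α * (β * α * β * α) * β by noncomm_ring, qq,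
      show α * (β * α) * β = α * β * α * β by noncomm_ring] at p1
    rw [← sub_eq_zero, ← neg_eq_zero, ← p1]; abel
  have hγ : γ = α - β * α * β - α * β * α := by
    rw [h5, qq, pp]; abel
  constructor
  · rw [hγ]
    simp only [mul_add, mul_sub, ← mul_assoc, hα, zero_mul, sub_zero, pp]
    abel
  · rw [hγ]
    simp only [add_mul, sub_mul, hα, hα', sub_zero, qq]
    abel

variable {X : Type*} [Group X] {A B : Subgroup X} {N : Type*} [AddCommGroup N] [DistribMulAction X N]

theorem quad_end {A : Subgroup X} (hq : ∀ a ∈ A, ∀ a' ∈ A, ∀ n : N, a' • (a • n - n) = a • n - n) {a a' : X}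
    (ha : a ∈ A) (ha' : a' ∈ A) :
    (DistribMulAction.toAddMonoidEnd X N a' - 1) * (DistribMulAction.toAddMonoidEnd X N a - 1) = 0 := by
  refine AddMonoidHom.ext fun n => ?_
  show a' • (a • n - n) - (a • n - n) = 0
  rw [hq a ha a' ha', sub_self]

theorem quad_conj (hq : ∀ a ∈ A, ∀ a' ∈ A, ∀ n : N, a' • (a • n - n) = a • n - n) (g : X) :
    ∀ a ∈ Cfsg.conjBy A g, ∀ a' ∈ Cfsg.conjBy A g, ∀ n : N, a' • (a • n - n) = a • n - n := by
  intro a ha a' ha' n
  have := congrArg (g • ·) (hq _ (mem_conjBy.1 ha) _ (mem_conjBy.1 ha') (g⁻¹ • n))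
  simpa [smul_sub, mul_smul] using this

theorem quad_right (h : Cfsg.IsRankOnePair A B)
    (hq : ∀ a ∈ A, ∀ a' ∈ A, ∀ n : N, a' • (a • n - n) = a • n - n) :
    ∀ a ∈ B, ∀ a' ∈ B, ∀ n : N, a' • (a • n - n) = a • n - n := by
  obtain ⟨x, -, hx⟩ := mem_right h
  rw [hx]
  exact quad_conj hq x

/-- If some product `(y-1)(x-1)` is nonzero, the kernel of the action is central. -/
theorem kernel_central (h : Cfsg.IsRankOneGroup X A B)
    (hq : ∀ a ∈ A, ∀ a' ∈ A, ∀ n : N, a' • (a • n - n) = a • n - n)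
    (hX : ∃ x y : X, ∃ n : N, y • (x • n - n) ≠ x • n - n) {k : X} (hk : ∀ n : N, k • n = n) :
    k ∈ Subgroup.center X := by
  let K : Subgroup X := (DistribMulAction.toAddMonoidEnd X N).ker
  have hkK : k ∈ K := AddMonoidHom.ext hk
  refine (normal_cases h K (MonoidHom.normal_ker _)).elim (fun htop => ?_) (fun hle => hle hkK)
  exfalso
  obtain ⟨x, y, n, hne⟩ := hX
  have hmem : ∀ g : X, ∃ a ∈ A, ∀ m : N, g • m = a • m := by
    intro g
    have : K.Normal := MonoidHom.normal_ker _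
    obtain ⟨l, hl, a, ha, rfl⟩ := Subgroup.mem_sup_of_normal_left.1 (htop ▸ Subgroup.mem_top g : g ∈ K ⊔ A)
    exact ⟨a, ha, fun m => by rw [mul_smul]; exact DFunLike.congr_fun (MonoidHom.mem_ker.1 hl) (a • m)⟩
  obtain ⟨a, ha, hax⟩ := hmem x
  obtain ⟨a', ha', hay⟩ := hmem y
  exact hne (by rw [hay, hax, hq a ha a' ha'])

theorem special_of_quadratic (h : Cfsg.IsRankOneGroup X A B)
    (hq : ∀ a ∈ A, ∀ a' ∈ A, ∀ n : N, a' • (a • n - n) = a • n - n)
    (hX : ∃ x y : X, ∃ n : N, y • (x • n - n) ≠ x • n - n) : Cfsg.IsSpecialRankOnePair A B := by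
  refine ⟨h.2, fun a ha ha1 b hb hb1 he => ?_⟩
  set ρ := DistribMulAction.toAddMonoidEnd X N
  set b' := a * (b⁻¹ * a * b) * a⁻¹ with hb'def
  have hb' : b' ∈ B := by
    have h1 : b⁻¹ * a * b ∈ Cfsg.conjBy A b⁻¹ := mem_conjBy.2 (by
      rwa [show b⁻¹⁻¹ * (b⁻¹ * a * b) * b⁻¹ = a by group])
    rw [he] at h1
    simpa [hb'def, mul_assoc] using mem_conjBy.1 h1
  have hqB := quad_right h.2 hq
  have hαα := quad_end hq ha ha
  have hββ := quad_end hqB hb hb
  have hinv : ∀ g : X, (ρ g - 1) * (ρ g - 1) = 0 → ρ g⁻¹ = 1 - (ρ g - 1) := by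
    intro g hg
    have h1 : ρ g⁻¹ * ρ g = 1 := by rw [← map_mul, inv_mul_cancel, map_one]
    have h2 : ρ g * (1 - (ρ g - 1)) = 1 := by
      rw [show ρ g * (1 - (ρ g - 1)) = 1 - (ρ g - 1) * (ρ g - 1) by noncomm_ring, hg, sub_zero]
    exact left_inv_eq_right_inv h1 h2
  have heq : (1 - (ρ b - 1)) * (1 + (ρ a - 1)) * (1 + (ρ b - 1)) =
      (1 - (ρ a - 1)) * (1 + (ρ b' - 1)) * (1 + (ρ a - 1)) := by
    rw [← hinv a hαα, ← hinv b hββ, add_sub_cancel, add_sub_cancel, add_sub_cancel, ← map_mul, ← map_mul,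
      ← map_mul, ← map_mul, hb'def]
    congr 1; group
  obtain ⟨hδ, hδ'⟩ := quad_identity hαα hββ (quad_end hqB hb' hb) (quad_end hqB hb hb') heq
  set c := b * b' with hc
  have hcρ : ρ c = 1 + ((ρ b' - 1) + (ρ b - 1)) := by
    have h1 : ρ b * ρ b' = 1 + ((ρ b' - 1) + (ρ b - 1)) + (ρ b - 1) * (ρ b' - 1) := by noncomm_ring
    rw [hc, map_mul, h1, show (ρ b - 1) * (ρ b' - 1) = 0 from quad_end hqB hb' hb, add_zero]
  have hcomm : ρ (c * a) = ρ (a * c) := by
    have h1 : ∀ δ : AddMonoid.End N, (ρ a - 1) * δ = 0 → δ * (ρ a - 1) = 0 → (1 + δ) * ρ a = ρ a * (1 + δ) := by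
      intro δ e1 e2
      rw [← sub_eq_zero, show (1 + δ) * ρ a - ρ a * (1 + δ) = δ * (ρ a - 1) - (ρ a - 1) * δ by noncomm_ring,
        e1, e2, sub_zero]
    rw [map_mul ρ c a, map_mul ρ a c, hcρ, h1 _ hδ hδ']
  have hz : c * a * (a * c)⁻¹ ∈ Subgroup.center X := kernel_central h hq hX fun n => by
    show ρ (c * a * (a * c)⁻¹) n = n
    rw [map_mul, hcomm, ← map_mul, mul_inv_cancel, map_one]; rfl
  have hcB : c ∈ B := mul_mem hb hb'
  have hc1 : c = 1 := by
    by_contra hne
    refine ha1 (eq_one_of_normalizes h.2 ha (eq_left_of_fixed (Cfsg.RankOnePair_symm h.2) hcB hne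
      ⟨a, Subgroup.mem_sup_right ha, rfl⟩ ?_))
    rw [conjBy_conjBy, show c * a = c * a * (a * c)⁻¹ * (a * c) by group, ← conjBy_conjBy, ← conjBy_conjBy B c a,
      conjBy_self hcB, center_fixes hz]
  have : b' = b⁻¹ := eq_inv_of_mul_eq_one_right (hc ▸ hc1)
  conv_rhs => rw [← this, hb'def]
  group

end Cfsg.Agent.Timmesfeld
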