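import Cfsg.Agent.Lib.Timmesfeld.Special2
import Cfsg.Agent.Lib.Timmesfeld.Perfect
import Cfsg.Agent.Lib.Timmesfeld.Nilpotent3

/-!
# Groups generated by a connected set of abstract root subgroups are quasisimple
-/

set_option autoImplicit false

namespace Cfsg.Agent.Timmesfeld

open scoped commutatorElement

variable {G : Type*} [Group G] {S : Set (Subgroup G)}

theorem top_of_member_le (hS : Cfsg.IsRootSubgroupSet S) (hcl : Cfsg.IsConjClassOfSubgroups S)
    {N : Subgroup G} (hN : N.Normal) {M : Subgroup G} (hM : M ∈ S) (hle : M ≤ N) : N = ⊤ := by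
  rw [eq_top_iff, ← hS.generates]
  refine iSup₂_le fun A hA => ?_
  obtain ⟨g, rfl⟩ := hcl.2 M hM A hA
  rintro _ ⟨x, hx, rfl⟩
  exact hN.conj_mem x (hle hx) g

/-- A normal subgroup with a non-central element in a rank one group nearly contains it. -/
theorem pair_le_of_noncentral {A B N : Subgroup G} (h : Cfsg.IsRankOnePair A B) (hN : N.Normal) {n : G}
    (hn : n ∈ N) (hnR : n ∈ A ⊔ B) (hnc : ¬ ∀ x ∈ A ⊔ B, n * x = x * n) : B ≤ N ⊔ A := by
  obtain ⟨C, hC, hne⟩ : ∃ C ∈ Cfsg.unipotentSubgroups A B, Cfsg.conjBy C n ≠ C := by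
    by_contra hno
    push Not at hno
    exact hnc fun x hx => commute_of_fix h hno x hx
  obtain ⟨x, hx, hx1, hx2⟩ := exists_conj_pair h hC (conj_mem hC hnR) (mem_left h) (mem_right h)
    (Ne.symm hne) h.ne
  have hm : Cfsg.conjBy A (x * n * x⁻¹) = B := by
    rw [← hx1, conjBy_conjBy, inv_mul_cancel_right, ← conjBy_conjBy, hx2]
  intro b hb
  have hb' := mem_conjBy.1 (hm.symm ▸ hb)
  have hxn : x * n * x⁻¹ ∈ N ⊔ A := Subgroup.mem_sup_left (hN.conj_mem n hn x)
  have := mul_mem (mul_mem hxn (Subgroup.mem_sup_right hb')) (inv_mem hxn)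
  rwa [show x * n * x⁻¹ * ((x * n * x⁻¹)⁻¹ * b * (x * n * x⁻¹)) * (x * n * x⁻¹)⁻¹ = b by group] at this

theorem bracket_le_of_le_normal_sup {A N : Subgroup G} (hN : N.Normal) (hA : ∀ x ∈ A, ∀ y ∈ A, x * y = y * x)
    {P Q : Subgroup G} (hP : P ≤ N ⊔ A) (hQ : Q ≤ N ⊔ A) : ⁅P, Q⁆ ≤ N := by
  have hn : ∀ R : Subgroup G, R ≤ Subgroup.normalizer (N : Set G) := fun R => by
    rw [Subgroup.normalizer_eq_top]; exact le_top
  refine (Subgroup.commutator_mono hP hQ).trans (bracket_sup_le (hn _) (hn _)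
    (Subgroup.commutator_le_left _ _) (bracket_sup_le' (hn _) (hn _) (Subgroup.commutator_le_right _ _) ?_))
  rw [bracket_eq_bot.2 hA]; exact bot_le

theorem root_quasisimple (hS : Cfsg.IsRootSubgroupSet S) (h2 : ∃ A ∈ S, ∃ B ∈ S, A ≠ B)
    (h1 : Cfsg.IsConnectedFamily (Cfsg.FAdj S) S)
    (h2' : ∀ A ∈ S, ∀ C ∈ S, A ≠ C → Cfsg.centralizingMembers S A ≠ Cfsg.centralizingMembers S C)
    (h3 : Cfsg.IsDegenerateRootSet S → ∀ A ∈ S, 3 < ENat.card A)
    (h4 : ∀ A ∈ S, ∀ B ∈ Cfsg.rankOnePartners S A, Cfsg.IsSpecialRankOnePair A B) :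
    commutator G = ⊤ ∧ Cfsg.IsQuasisimple G := by
  obtain ⟨hcl, A₀, hA₀, hni⟩ := (connected_iff hS h2).1 h1
  obtain ⟨B₀, hB₀, hp₀⟩ := exists_partner hni hA₀
  have hpart : ∀ A ∈ S, ∃ D ∈ S, Cfsg.IsRankOnePair A D := fun A hA => by
    obtain ⟨g, rfl⟩ := hcl.2 A₀ hA₀ A hA
    exact ⟨_, hS.conj_mem B₀ hB₀ g, rankPair_conj hp₀ g⟩
  have hab : ∀ {A B : Subgroup G}, A ∈ S → B ∈ S → Cfsg.HasAbelianUnipotents A B := fun hA hB =>
    ⟨hS.commutative _ hA, hS.commutative _ hB⟩
  have hperfR : Cfsg.IsDegenerateRootSet S → ∀ {A B : Subgroup G}, A ∈ S → B ∈ S → Cfsg.IsRankOnePair A B →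
      A ≤ ⁅A ⊔ B, A ⊔ B⁆ := fun hdeg {A B} hA hB hp =>
    (le_commutator_diagonal (h4 A hA B ⟨hB, hp⟩) (hab hA hB) (h3 hdeg A hA)).trans
      (Subgroup.commutator_mono le_sup_left (inf_le_left.trans inf_le_left))
  have hperf : commutator G = ⊤ := by
    by_cases hdeg : Cfsg.IsDegenerateRootSet S
    · exact top_of_member_le hS hcl inferInstance hA₀
        ((hperfR hdeg hA₀ hB₀ hp₀).trans (Subgroup.commutator_mono le_top le_top))
    · simp only [Cfsg.IsDegenerateRootSet] at hdeg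
      push Not at hdeg
      obtain ⟨A, -, B, -, hAB⟩ := hdeg
      exact top_of_member_le hS hcl inferInstance hAB.1 (Subgroup.commutator_mono le_top le_top)
  -- a pair nearly contained in a normal subgroup
  have hcollapse : ∀ N : Subgroup G, N.Normal → ∀ A ∈ S, ∀ B ∈ S, Cfsg.IsRankOnePair A B → B ≤ N ⊔ A →
      N = ⊤ := by
    intro N hN A hA B hB hp hle
    by_cases hdeg : Cfsg.IsDegenerateRootSet S
    · exact top_of_member_le hS hcl hN hA ((hperfR hdeg hA hB hp).trans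
        (bracket_le_of_le_normal_sup hN (comm_left hS hA) (sup_le le_sup_right hle) (sup_le le_sup_right hle)))
    · simp only [Cfsg.IsDegenerateRootSet] at hdeg
      push Not at hdeg
      obtain ⟨A₁, hA₁, E₁, hE₁, hAE⟩ := hdeg
      have hne : A₁ ≠ ⁅A₁, E₁⁆ := by
        intro e
        refine hS.ne_bot _ hAE.1 ?_
        rw [bracket_eq_bot]
        exact fun a ha b hb => ((commCase_comm hAE).2 b hb a (e ▸ ha : a ∈ ⁅A₁, E₁⁆)).symm
      have hnd : Cfsg.IsNondegenerateRootSet S :=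
        ⟨⟨A₁, hA₁, _, hAE.1, hne, bracket_eq_bot.2 (commCase_comm hAE).1⟩, ⟨A, hA, B, hB, hp⟩,
          ⟨A₁, hA₁, E₁, hE₁, hAE⟩⟩
      obtain ⟨⟨C, ⟨⟨-, -, hAC⟩, -⟩, -, hBC⟩, -⟩ := nondegenerate_special ⟨hS, hcl⟩ hnd hA ⟨hB, hp⟩
      refine top_of_member_le hS hcl hN hBC ?_
      refine (Subgroup.commutator_mono hle le_rfl).trans (bracket_sup_le
        (by rw [Subgroup.normalizer_eq_top]; exact le_top) (by rw [Subgroup.normalizer_eq_top]; exact le_top)
        (Subgroup.commutator_le_left _ _) ?_)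
      rw [hAC]; exact bot_le
  have hsimple : ∀ N : Subgroup G, N.Normal → N ≤ Subgroup.center G ∨ N = ⊤ := by
    intro N hN
    by_contra hno
    push Not at hno
    obtain ⟨hnZ, hnT⟩ := hno
    obtain ⟨n, hn, hnc⟩ := SetLike.not_le_iff_exists.1 hnZ
    -- a rank one pair with a non-central element of `N`
    have hpairN : ∀ A ∈ S, ∀ B ∈ S, Cfsg.IsRankOnePair A B → ∀ z ∈ N, z ∈ A ⊔ B →
        (∀ x ∈ A ⊔ B, z * x = x * z) := fun A hA B hB hp z hz hzR => by
      by_contra hc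
      exact hnT (hcollapse N hN A hA B hB hp (pair_le_of_noncentral hp hN hz hzR hc))
    have hcommN : ∀ A ∈ S, ∀ E ∈ S, Cfsg.RootCommutatorCase S A E → ∀ a ∈ A, a ≠ 1 →
        ¬ (∀ e ∈ E, a * e * a⁻¹ * e⁻¹ ∈ N) := fun A _ E _ h a ha ha1 hall =>
      hnT (top_of_member_le hS hcl hN h.1 (by
        rw [← h.2.2.1 a ha ha1, Subgroup.closure_le]
        rintro _ ⟨e, he, rfl⟩
        exact hall e he))
    by_cases hfix : ∀ A ∈ S, Cfsg.conjBy A n = A
    · refine hnc (Subgroup.mem_center_iff.2 fun x => ?_)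
      have hx : x ∈ ⨆ A ∈ S, A := by rw [hS.generates]; exact Subgroup.mem_top x
      have hle : (⨆ A ∈ S, A) ≤ Subgroup.centralizer {n} := by
        refine iSup₂_le fun A hA a ha => Subgroup.mem_centralizer_singleton_iff.2 ?_
        by_contra hne
        obtain ⟨D, hD, hAD⟩ := hpart A hA
        have hk : n * a * n⁻¹ * a⁻¹ ∈ A := by
          have : n * a * n⁻¹ ∈ Cfsg.conjBy A n := ⟨a, ha, rfl⟩
          rw [hfix A hA] at this
          exact mul_mem this (inv_mem ha)
        have hkN : n * a * n⁻¹ * a⁻¹ ∈ N := by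
          rw [show n * a * n⁻¹ * a⁻¹ = n * (a * n⁻¹ * a⁻¹) by group]
          exact mul_mem hn (hN.conj_mem _ (inv_mem hn) a)
        have h1 := hpairN A hA D hD hAD _ hkN (Subgroup.mem_sup_left hk)
        have hone := eq_one_of_normalizes hAD hk
          (conjBy_of_centralizes fun d hd => h1 d (Subgroup.mem_sup_right hd))
        exact hne (mul_inv_eq_iff_eq_mul.1 (mul_inv_eq_one.1 hone)).symm
      exact (Subgroup.mem_centralizer_singleton_iff.1 (hle hx))
    push Not at hfix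
    obtain ⟨A, hA, hAn⟩ := hfix
    set E := Cfsg.conjBy A n with hE
    have hES : E ∈ S := hS.conj_mem A hA n
    obtain ⟨D, hD, hAD⟩ := hpart A hA
    obtain ⟨a, ha, ha1⟩ := exists_ne_one (hS.ne_bot A hA)
    set e := n * a * n⁻¹ with he
    have heE : e ∈ E := ⟨a, ha, rfl⟩
    have hxN : e * a⁻¹ ∈ N := by
      rw [he, show n * a * n⁻¹ * a⁻¹ = n * (a * n⁻¹ * a⁻¹) by group]
      exact mul_mem hn (hN.conj_mem _ (inv_mem hn) a)
    rcases hS.pair A hA E hES with hc | hr | hc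
    · have hce := bracket_eq_bot.1 hc
      have hne' := h2' A hA E hES (Ne.symm hAn)
      have key : ∀ P ∈ S, ∀ Q ∈ S, ∀ p ∈ P, p ≠ 1 → ∀ q ∈ Q, p * q ∈ N →
          ∀ M ∈ S, (∀ m ∈ M, q * m = m * q) → ⁅P, M⁆ = ⊥ := by
        intro P hP Q _ p hp hp1 q _ hpq M hM hqM
        have hall : ∀ m ∈ M, p * m * p⁻¹ * m⁻¹ ∈ N := by
          intro m hm
          have h1 : p * q * m * (p * q)⁻¹ * m⁻¹ ∈ N := by
            rw [show p * q * m * (p * q)⁻¹ * m⁻¹ = p * q * (m * (p * q)⁻¹ * m⁻¹) by group]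
            exact mul_mem hpq (hN.conj_mem _ (inv_mem hpq) m)
          rwa [show p * q * m * (p * q)⁻¹ * m⁻¹ = p * (q * m) * q⁻¹ * p⁻¹ * m⁻¹ by group, hqM m hm,
            show p * (m * q) * q⁻¹ * p⁻¹ * m⁻¹ = p * m * p⁻¹ * m⁻¹ by group] at h1
        rcases hS.pair P hP M hM with h | h | h
        · exact h
        · exfalso
          obtain ⟨m, hm, hm1⟩ := exists_ne_one (hS.ne_bot M hM)
          set z := p * m * p⁻¹ * m⁻¹ with hz
          have hzR : z ∈ P ⊔ M := mul_mem (mul_mem (mul_mem (Subgroup.mem_sup_left hp) (Subgroup.mem_sup_right hm))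
            (inv_mem (Subgroup.mem_sup_left hp))) (inv_mem (Subgroup.mem_sup_right hm))
          have hzc := hpairN P hP M hM h z (hall m hm) hzR
          have hz1 : z = 1 := by
            by_contra hz1
            refine central_translate_not_root hS hM hP (Cfsg.RankOnePair_symm h) hm hm1
              (fun x hx => hzc x (by rwa [sup_comm])) hz1 ?_
            rw [hz, show p * m * p⁻¹ * m⁻¹ * m = p * m * p⁻¹ by group]
            exact rootElements_conj hS (mem_rootElements hM hm hm1) p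
          have hpm : m * p * m⁻¹ = p := by
            rw [hz] at hz1
            rw [← mul_inv_eq_one.1 hz1 |> fun t => (mul_inv_eq_iff_eq_mul.1 t), mul_inv_cancel_right]
          exact hm1 (eq_one_of_normalizes' h hm (eq_left_of_fixed h hp hp1 (conj_mem (mem_left h)
            (Subgroup.mem_sup_right hm)) (conjBy_self ⟨p, hp, hpm⟩)))
        · exact absurd hall (hcommN P hP M hM h p hp hp1)
      have e1 : a⁻¹ * e ∈ N := by
        have := hN.mem_comm hxN
        exact this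
      have e2 : e⁻¹ * a ∈ N := by simpa using inv_mem e1
      refine hne' (Set.ext fun M => ⟨?_, ?_⟩)
      · rintro ⟨hM, hle⟩
        have hcm : ∀ m ∈ M, a * m = m * a := fun m hm => Subgroup.mem_centralizer_iff.1 (hle hm) a ha
        have := key E hES A hA e⁻¹ (inv_mem heE)
          (fun h => ha1 (conj_eq_one_iff.1 (inv_eq_one.1 h))) a ha e2 M hM hcm
        refine ⟨hM, fun m hm => Subgroup.mem_centralizer_iff.2 fun x hx => ?_⟩
        exact bracket_eq_bot.1 this x hx m hm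
      · rintro ⟨hM, hle⟩
        have hcm : ∀ m ∈ M, e * m = m * e := fun m hm => Subgroup.mem_centralizer_iff.1 (hle hm) e heE
        have := key A hA E hES a⁻¹ (inv_mem ha) (inv_ne_one.2 ha1) e heE e1 M hM hcm
        refine ⟨hM, fun m hm => Subgroup.mem_centralizer_iff.2 fun x hx => ?_⟩
        exact bracket_eq_bot.1 this x hx m hm
    · have hzR : e * a⁻¹ ∈ A ⊔ E := mul_mem (Subgroup.mem_sup_right heE) (inv_mem (Subgroup.mem_sup_left ha))
      have hzc := hpairN A hA E hES hr _ hxN hzR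
      have hz1 : e * a⁻¹ = 1 := by
        by_contra hz1
        refine central_translate_not_root hS hA hES hr ha ha1 hzc hz1 ?_
        rw [inv_mul_cancel_right, he]
        exact rootElements_conj hS (mem_rootElements hA ha ha1) n
      exact hAn (eq_of_mem_inter hS hA hES hr hES ha ha1 (mul_inv_eq_one.1 hz1 ▸ heE))
    · refine hcommN A hA E hES hc a⁻¹ (inv_mem ha) (inv_ne_one.2 ha1) fun u hu => ?_
      have hue : e * u = u * e := comm_left hS hES e heE u hu
      have e1 : a⁻¹ * e ∈ N := hN.mem_comm hxN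
      rw [show a⁻¹ * u * a⁻¹⁻¹ * u⁻¹ = a⁻¹ * (u * e) * e⁻¹ * a * u⁻¹ by group, ← hue,
        show a⁻¹ * (e * u) * e⁻¹ * a * u⁻¹ = (a⁻¹ * e) * (u * (a⁻¹ * e)⁻¹ * u⁻¹) by group]
      exact mul_mem e1 (hN.conj_mem _ (inv_mem e1) u)
  refine ⟨hperf, ⟨hperf⟩, ?_⟩
  have hnt : Nontrivial (G ⧸ Subgroup.center G) := by
    rw [← not_subsingleton_iff_nontrivial]
    intro hs
    refine right_not_central hp₀ fun a _ b _ => ?_
    exact Subgroup.mem_center_iff.1 ((QuotientGroup.eq_one_iff b).1 (Subsingleton.elim _ _)) a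
  refine { eq_bot_or_eq_top_of_normal := fun M hM => ?_ }
  set π := QuotientGroup.mk' (Subgroup.center G)
  rcases hsimple _ (hM.comap π) with h | h
  · left
    rw [← Subgroup.map_comap_eq_self_of_surjective (QuotientGroup.mk'_surjective _) M, Subgroup.map_eq_bot_iff,
      QuotientGroup.ker_mk']
    exact h
  · right
    rw [← Subgroup.map_comap_eq_self_of_surjective (QuotientGroup.mk'_surjective _) M, h,
      Subgroup.map_top_of_surjective _ (QuotientGroup.mk'_surjective _)]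

end Cfsg.Agent.Timmesfeld
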