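import Cfsg.Agent.Lib.Timmesfeld.Basic

/-!
# Abstract root subgroups: first lemmas
-/

set_option autoImplicit false

namespace Cfsg.Agent.Timmesfeld

variable {G : Type*} [Group G] {S : Set (Subgroup G)}

theorem bracket_eq_bot {A B : Subgroup G} : ⁅A, B⁆ = ⊥ ↔ ∀ a ∈ A, ∀ b ∈ B, a * b = b * a := by
  rw [eq_bot_iff, Subgroup.commutator_le]
  simp only [Subgroup.mem_bot, commutatorElement_eq_one_iff_mul_comm]

theorem comm_left (hS : Cfsg.IsRootSubgroupSet S) {A : Subgroup G} (hA : A ∈ S) :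
    ∀ x ∈ A, ∀ y ∈ A, x * y = y * x := fun x hx y hy => by
  have := hS.commutative A hA
  exact congrArg Subtype.val (mul_comm' (⟨x, hx⟩ : A) ⟨y, hy⟩)

/-- A central translate of an element of `A` lies in a member of `S` only when the member is `A`. -/
theorem eq_of_central_translate (hS : Cfsg.IsRootSubgroupSet S) {A B : Subgroup G} (hA : A ∈ S)
    (hB : B ∈ S) (h : Cfsg.IsRankOnePair A B) {a z : G} (ha : a ∈ A) (ha1 : a ≠ 1)
    (hz : ∀ x ∈ A ⊔ B, z * x = x * z) {D : Subgroup G} (hD : D ∈ S) (hx : z * a ∈ D) (hx1 : z * a ≠ 1) :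
    D = A := by
  have hAX : A ≤ A ⊔ B := le_sup_left
  have hBX : B ≤ A ⊔ B := le_sup_right
  have hzA : ∀ y ∈ A, (z * a) * y = y * (z * a) := fun y hy =>
    ((show Commute z y from hz y (hAX hy)).mul_left (comm_left hS hA a ha y hy)).eq
  have hnc : ¬ ∀ y ∈ B, (z * a) * y = y * (z * a) := fun hc => ha1 (eq_one_of_normalizes h ha
    (conjBy_of_centralizes fun y hy => by
      have h1 : Commute (z * a) y := hc y hy
      have h2 : Commute (z⁻¹ * (z * a)) y := (show Commute z y from hz y (hBX hy)).inv_left.mul_left h1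
      rwa [inv_mul_cancel_left] at h2))
  rcases hS.pair D hD B hB with hDB | hDB | hDB
  · exact absurd (fun y hy => bracket_eq_bot.1 hDB _ hx y hy) hnc
  swap
  · -- the commutator case is impossible
    obtain ⟨hT, hcent, hgen, -⟩ := hDB
    have hTgen := hgen _ hx hx1
    have hTX : ⁅D, B⁆ ≤ A ⊔ B := by
      rw [← hTgen, Subgroup.closure_le]
      rintro _ ⟨y, hy, rfl⟩
      have e : z * a * y * (z * a)⁻¹ * y⁻¹ = a * y * a⁻¹ * y⁻¹ := by
        calc z * a * y * (z * a)⁻¹ * y⁻¹ = (z * (a * y * a⁻¹)) * z⁻¹ * y⁻¹ := by group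
          _ = a * y * a⁻¹ * y⁻¹ := by
              rw [hz _ (mul_mem (mul_mem (hAX ha) (hBX hy)) (inv_mem (hAX ha))), mul_inv_cancel_right]
      show z * a * y * (z * a)⁻¹ * y⁻¹ ∈ A ⊔ B
      rw [e]
      exact mul_mem (mul_mem (mul_mem (hAX ha) (hBX hy)) (inv_mem (hAX ha))) (inv_mem (hBX hy))
    refine absurd (fun y hy => ?_) hnc
    -- every commutator is central in the rank one group
    set c := z * a * y * (z * a)⁻¹ * y⁻¹ with hc
    have hcT : c ∈ ⁅D, B⁆ := by
      rw [← hTgen]; exact Subgroup.subset_closure ⟨y, hy, rfl⟩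
    have hcX := hTX hcT
    obtain ⟨b₀, hb₀, hb₀c⟩ := centralizes_left (Cfsg.RankOnePair_symm h) (comm_left hS hB)
      (by rwa [sup_comm]) (fun w hw => hcent c hcT w (Subgroup.mem_sup_right hw))
    -- `c` commutes with `z * a`, so it fixes `A`
    have hcd : c * (z * a) = (z * a) * c := hcent c hcT _ (Subgroup.mem_sup_left hx)
    have hca : c * a = a * c := by
      have h2 : Commute c (z⁻¹ * (z * a)) :=
        (show Commute c z from (hz c hcX).symm).inv_right.mul_right hcd
      rwa [inv_mul_cancel_left] at h2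
    have hfixA : Cfsg.conjBy A c = A := by
      refine eq_left_of_fixed h ha ha1 (conj_mem (mem_left h) hcX) ?_
      rw [conjBy_conjBy, ← hca, ← conjBy_conjBy, conjBy_self ha]
    have hb1 : b₀ = 1 := by
      refine eq_one_of_normalizes' h hb₀ ?_
      have hkA : Cfsg.conjBy A (b₀⁻¹ * c) = A :=
        conjBy_of_centralizes fun w hw => hb₀c w (Subgroup.mem_sup_right hw)
      conv_lhs => rw [← hkA]
      rw [conjBy_conjBy, mul_inv_cancel_left, hfixA]
    have hcc : ∀ w ∈ A ⊔ B, c * w = w * c := fun w hw => by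
      have := hb₀c w (by rwa [sup_comm])
      rwa [hb1, inv_one, one_mul] at this
    -- hence `z * a` fixes the conjugate of `A` by `y`
    by_contra hne
    have e : a * y = c * y * a := by
      calc a * y = z⁻¹ * ((z * a) * y) := by group
        _ = z⁻¹ * (c * y * (z * a)) := by rw [hc]; group
        _ = z⁻¹ * (c * y * z) * a := by group
        _ = c * y * a := by
            rw [← hz _ (mul_mem hcX (hBX hy)), inv_mul_cancel_left]
    have hf : Cfsg.conjBy (Cfsg.conjBy A y) a = Cfsg.conjBy A y := by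
      rw [conjBy_conjBy, e, ← conjBy_conjBy, conjBy_self ha, ← conjBy_conjBy]
      exact conjBy_of_centralizes fun w hw => hcc w (le_sup (conj_mem (mem_left h) (hBX hy)) hw)
    have hy1 := eq_one_of_normalizes' h hy (eq_left_of_fixed h ha ha1 (conj_mem (mem_left h) (hBX hy)) hf)
    apply hne
    rw [hy1, mul_one, one_mul]
  -- `D` and `B` form a rank one pair
  by_contra hDA
  rcases hS.pair A hA D hD with hAD | hAD | hAD
  · obtain ⟨b, hb, hb1, he⟩ := hDB.cond_left (z * a) hx hx1
    obtain ⟨b', hb', hb'1, he'⟩ := h.cond_left a ha ha1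
    have e : Cfsg.conjBy B (z * a)⁻¹ = Cfsg.conjBy B a⁻¹ := by
      rw [mul_inv_rev, ← conjBy_conjBy]
      congr 1
      exact conjBy_of_centralizes fun w hw => (show Commute z w from hz w (hBX hw)).inv_left
    have hD' : D = Cfsg.conjBy A (b * b'⁻¹) := by
      rw [← conjBy_conjBy, he', ← e, ← he, conjBy_conjBy, mul_inv_cancel, conjBy_one]
    have hmem : D ∈ Cfsg.unipotentSubgroups A B :=
      hD' ▸ conj_mem (mem_left h) (hBX (mul_mem hb (inv_mem hb')))
    refine hDA (eq_left_of_fixed h ha ha1 hmem ?_)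
    have h3 := conjBy_self hx
    conv_lhs => rw [← h3]
    rw [conjBy_conjBy]
    conv_rhs => rw [← h3]
    -- `a` and `z * a` differ by `z`, which fixes `D`
    have hzD : Cfsg.conjBy D z = D :=
      conjBy_of_centralizes fun w hw => hz w (le_sup hmem hw)
    have haD : Cfsg.conjBy D a = D := by
      conv_lhs => rw [show a = z⁻¹ * (z * a) by group, ← conjBy_conjBy, h3]
      conv_lhs => rw [← hzD]
      rw [conjBy_conjBy, inv_mul_cancel, conjBy_one]
    rw [← conjBy_conjBy, h3, haD]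
  · exact hx1 (eq_one_of_normalizes (Cfsg.RankOnePair_symm hAD) hx
      (conjBy_of_centralizes fun y hy => hzA y hy))
  · obtain ⟨hT, -, -, hgen⟩ := hAD
    refine hS.ne_bot _ hT ?_
    rw [← hgen _ hx hx1, Subgroup.closure_eq_bot_iff]
    rintro _ ⟨y, hy, rfl⟩
    rw [Set.mem_singleton_iff]
    show y * (z * a) * y⁻¹ * (z * a)⁻¹ = 1
    rw [← hzA y hy]; group

theorem central_translate_not_root (hS : Cfsg.IsRootSubgroupSet S) {A B : Subgroup G} (hA : A ∈ S)
    (hB : B ∈ S) (h : Cfsg.IsRankOnePair A B) {a z : G} (ha : a ∈ A) (ha1 : a ≠ 1)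
    (hz : ∀ x ∈ A ⊔ B, z * x = x * z) (hz1 : z ≠ 1) : z * a ∉ Cfsg.rootElements S := by
  rintro ⟨hx1, D, hD, hx⟩
  have := eq_of_central_translate hS hA hB h ha ha1 hz hD hx hx1
  subst this
  have hzD : z ∈ D := by have := mul_mem hx (inv_mem ha); rwa [mul_inv_cancel_right] at this
  exact hz1 (eq_one_of_normalizes h hzD (conjBy_of_centralizes fun y hy => hz y (Subgroup.mem_sup_right hy)))

theorem eq_of_mem_inter (hS : Cfsg.IsRootSubgroupSet S) {A B D : Subgroup G} (hA : A ∈ S) (hB : B ∈ S)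
    (h : Cfsg.IsRankOnePair A B) (hD : D ∈ S) {a : G} (ha : a ∈ A) (ha1 : a ≠ 1) (haD : a ∈ D) : D = A :=
  eq_of_central_translate hS hA hB h ha ha1 (z := 1) (fun x _ => by rw [one_mul, mul_one]) hD
    (by rwa [one_mul]) (by rwa [one_mul])

/-- A member commuting with a unipotent subgroup of a rank one group containing it is that subgroup
or centralises the rank one group. -/
theorem eq_of_commute (hS : Cfsg.IsRootSubgroupSet S) {C D T E : Subgroup G} (hC : C ∈ S) (hD : D ∈ S)
    (h : Cfsg.IsRankOnePair C D) (hT : T ∈ S) (hTle : T ≤ C ⊔ D)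
    (hE : E ∈ Cfsg.unipotentSubgroups C D) (hc : ∀ x ∈ T, ∀ e ∈ E, x * e = e * x) :
    T = E ∨ ∀ x ∈ T, ∀ y ∈ C ⊔ D, x * y = y * x := by
  obtain ⟨g, hg, rfl⟩ := hE
  have hT'le : Cfsg.conjBy T g⁻¹ ≤ C ⊔ D := fun x hx => by
    have h1 := mem_conjBy.1 hx
    have h2 := mul_mem (mul_mem (inv_mem hg) (hTle h1)) hg
    rwa [show g⁻¹ * (g⁻¹⁻¹ * x * g⁻¹) * g = x by group] at h2
  have hcc : ∀ x ∈ Cfsg.conjBy T g⁻¹, ∀ c ∈ C, x * c = c * x := fun x hx c hcC => by
    have h1 := hc _ (mem_conjBy.1 hx) (g * c * g⁻¹) (mem_conjBy.2 (by simpa [mul_assoc] using hcC))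
    rw [inv_inv] at h1
    exact mul_left_cancel (a := g) (mul_right_cancel (b := g⁻¹) (by
      calc g * (x * c) * g⁻¹ = g * x * g⁻¹ * (g * c * g⁻¹) := by group
        _ = g * (c * x) * g⁻¹ := by rw [h1]; group))
  by_cases hall : ∀ x ∈ Cfsg.conjBy T g⁻¹, ∀ y ∈ C ⊔ D, x * y = y * x
  · refine Or.inr fun x hx y hy => ?_
    have h1 := hall (g⁻¹ * x * g⁻¹⁻¹) (mem_conjBy.2 (by simpa [mul_assoc] using hx))
      (g⁻¹ * y * g⁻¹⁻¹) (mul_mem (mul_mem (inv_mem hg) hy) (inv_mem (inv_mem hg)))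
    refine mul_left_cancel (a := g⁻¹) (mul_right_cancel (b := g⁻¹⁻¹) ?_)
    calc g⁻¹ * (x * y) * g⁻¹⁻¹ = g⁻¹ * x * g⁻¹⁻¹ * (g⁻¹ * y * g⁻¹⁻¹) := by group
      _ = g⁻¹ * (y * x) * g⁻¹⁻¹ := by rw [h1]; group
  push Not at hall
  obtain ⟨x, hx, y, hy, hxy⟩ := hall
  obtain ⟨c, hcC, hcen⟩ := centralizes_left h (comm_left hS hC) (hT'le hx) (hcc x hx)
  have hx' : (c⁻¹ * x) * c = x := by
    rw [hcen c (Subgroup.mem_sup_left hcC)]; group
  have hc1 : c ≠ 1 := by
    rintro rfl
    exact hxy (by have := hcen y hy; rwa [inv_one, one_mul] at this)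
  have hx1 : x ≠ 1 := fun e => hxy (by rw [e, one_mul, mul_one])
  refine Or.inl ?_
  rw [← eq_of_central_translate hS hC hD h hcC hc1 hcen (hS.conj_mem T hT g⁻¹) (by rwa [hx'])
    (by rwa [hx']), conjBy_conjBy, mul_inv_cancel, conjBy_one]

theorem rootPair_eq (hS : Cfsg.IsRootSubgroupSet S) {A B C D : Subgroup G} (hA : A ∈ S) (hC : C ∈ S)
    (hB : B ∈ S) (hD : D ∈ S) (h : Cfsg.IsRankOnePair A B) (h' : Cfsg.IsRankOnePair C D)
    (hle : A ⊔ B ≤ C ⊔ D) :
    A ⊔ B = C ⊔ D ∧ C ∈ Cfsg.unipotentSubgroups A B ∧ D ∈ Cfsg.unipotentSubgroups A B := by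
  have key : ∀ {A B : Subgroup G}, A ∈ S → Cfsg.IsRankOnePair A B → A ⊔ B ≤ C ⊔ D →
      A ∈ Cfsg.unipotentSubgroups C D := by
    intro A B hA h hle
    have hAle : A ≤ C ⊔ D := le_sup_left.trans hle
    have hBle : B ≤ C ⊔ D := le_sup_right.trans hle
    by_contra hAn
    rcases hS.pair A hA C hC with hAC | hAC | hAC
    · rcases eq_of_commute hS hC hD h' hA hAle (mem_left h') (bracket_eq_bot.1 hAC) with e | e
      · exact hAn (by rw [e]; exact mem_left h')
      · exact right_not_central h fun a ha b hb => e a ha b (hBle hb)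
    · -- `A` is a conjugate of `C` inside the larger group
      apply hAn
      obtain ⟨x, hx, hxe⟩ := exists_conj_eq_right (Cfsg.RankOnePair_symm hAC)
      exact ⟨x, sup_le (le_sup_left : C ≤ C ⊔ D) hAle hx, hxe.symm⟩
    · obtain ⟨hT, hcent, -, -⟩ := hAC
      have hTle : ⁅A, C⁆ ≤ C ⊔ D := by
        rw [Subgroup.commutator_le]
        intro a ha c hc
        exact mul_mem (mul_mem (mul_mem (hAle ha) (Subgroup.mem_sup_left hc)) (inv_mem (hAle ha)))
          (inv_mem (Subgroup.mem_sup_left hc))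
      rcases eq_of_commute hS hC hD h' hT hTle (mem_left h') (fun x hx c hc =>
        hcent x hx c (Subgroup.mem_sup_right hc)) with e | e
      · refine hS.ne_bot _ hT (bracket_eq_bot.2 fun a ha c hc => ?_)
        exact (hcent c (e.symm ▸ hc) a (Subgroup.mem_sup_left ha)).symm
      · refine hS.ne_bot _ hT (bracket_eq_bot.2 fun a ha c hc => ?_)
        by_contra hne
        have hc1 : c ≠ 1 := fun e' => hne (by rw [e', one_mul, mul_one])
        have ht : a * c * a⁻¹ * c⁻¹ ∈ ⁅A, C⁆ := Subgroup.commutator_mem_commutator ha hc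
        refine central_translate_not_root hS hC hD h' hc hc1 (z := a * c * a⁻¹ * c⁻¹)
          (fun y hy => e _ ht y hy) (fun e' => hne (commutatorElement_eq_one_iff_mul_comm.1 e')) ?_
        rw [inv_mul_cancel_right]
        exact ⟨fun e' => hc1 (conj_eq_one_iff.1 e'), _, hS.conj_mem C hC a,
          mem_conjBy.2 (by simpa [mul_assoc] using hc)⟩
  have hA' := key hA h hle
  have hB' : B ∈ Cfsg.unipotentSubgroups C D :=
    key hB (Cfsg.RankOnePair_symm h) (by rwa [sup_comm])
  obtain ⟨y, hy, hyA, hyB⟩ := exists_to_pair h' hA' hB' h.ne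
  have hmap : A ⊔ B = C ⊔ D := by
    have e : (C ⊔ D).map (MulAut.conj y).toMonoidHom = A ⊔ B := by
      rw [Subgroup.map_sup]
      exact congrArg₂ (· ⊔ ·) hyA hyB
    rw [← e]
    exact conjBy_self hy
  refine ⟨hmap, ?_, ?_⟩
  · refine ⟨y⁻¹, hmap.symm ▸ inv_mem hy, ?_⟩
    rw [← hyA, conjBy_conjBy, inv_mul_cancel, conjBy_one]
  · obtain ⟨x, hx, hxe⟩ := exists_conj_eq_right h
    refine ⟨y⁻¹ * x, mul_mem (hmap.symm ▸ inv_mem hy) hx, ?_⟩
    rw [← conjBy_conjBy, hxe, ← hyB, conjBy_conjBy, inv_mul_cancel, conjBy_one]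

theorem centralizing_product (hS : Cfsg.IsRootSubgroupSet S) (hdeg : Cfsg.IsDegenerateRootSet S) {a b : G}
    (ha : a ∈ Cfsg.rootElements S) (hb : b ∈ Cfsg.rootElements S) (hab : a * b = b * a) (hab1 : a * b ≠ 1) :
    Cfsg.centralizingMembers S (Subgroup.zpowers (a * b)) =
      Cfsg.centralizingMembers S (Subgroup.zpowers a) ∩ Cfsg.centralizingMembers S (Subgroup.zpowers b) := by
  have hiff : ∀ (E : Subgroup G) (g : G), E ≤ Subgroup.centralizer (Subgroup.zpowers g : Set G) ↔
      ∀ e ∈ E, g * e = e * g := by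
    intro E g
    constructor
    · exact fun h e he => Subgroup.mem_centralizer_iff.1 (h he) g (Subgroup.mem_zpowers g)
    · intro h e he
      rw [Subgroup.mem_centralizer_iff]
      rintro _ ⟨k, rfl⟩
      exact ((show Commute g e from h e he).zpow_left k).eq
  ext E
  simp only [Cfsg.centralizingMembers, Set.mem_inter_iff, Set.mem_ofPred_eq, hiff]
  constructor
  · rintro ⟨hE, hEc⟩
    obtain ⟨ha1, A, hA, haA⟩ := ha
    obtain ⟨hb1, B, hB, hbB⟩ := hb
    rcases hS.pair E hE A hA with hEA | hEA | hEA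
    · have hca : ∀ e ∈ E, a * e = e * a := fun e he => (bracket_eq_bot.1 hEA e he a haA).symm
      refine ⟨⟨hE, hca⟩, hE, fun e he => ?_⟩
      have := (show Commute a e from hca e he).inv_left.mul_left (show Commute (a * b) e from hEc e he)
      rwa [inv_mul_cancel_left] at this
    · exfalso
      rcases hS.pair A hA B hB with hAB | hAB | hAB
      · refine central_translate_not_root hS hA hE (Cfsg.RankOnePair_symm hEA) (inv_mem haA)
          (inv_ne_one.2 ha1) (z := a * b) (fun x hx => ?_) hab1 ⟨?_, B, hB, ?_⟩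
        · rw [Subgroup.sup_eq_closure] at hx
          induction hx using Subgroup.closure_induction with
          | mem x hx =>
            rcases hx with hx | hx
            · exact ((show Commute a x from comm_left hS hA a haA x hx).mul_left
                (show Commute b x from (bracket_eq_bot.1 hAB x hx b hbB).symm)).eq
            · exact hEc x hx
          | one => simp
          | mul x y _ _ hx hy => exact ((show Commute (a * b) x from hx).mul_right hy).eq
          | inv x _ hx => exact (show Commute (a * b) x from hx).inv_right.eq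
        · rw [hab, mul_inv_cancel_right]; exact hb1
        · rw [hab, mul_inv_cancel_right]; exact hbB
      · have hBfix : Cfsg.conjBy (Cfsg.conjBy B a) b = Cfsg.conjBy B a := by
          rw [conjBy_conjBy, ← hab, ← conjBy_conjBy, conjBy_self hbB]
        have := eq_left_of_fixed (Cfsg.RankOnePair_symm hAB) hbB hb1
          (conj_mem (mem_left (Cfsg.RankOnePair_symm hAB)) (Subgroup.mem_sup_right haA)) hBfix
        exact ha1 (eq_one_of_normalizes hAB haA this)
      · exact hdeg A hA B hB hAB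
    · exact absurd hEA (hdeg E hE A hA)
  · rintro ⟨⟨hE, h1⟩, -, h2⟩
    exact ⟨hE, fun e he => ((show Commute a e from h1 e he).mul_left (h2 e he)).eq⟩

theorem centre_eq (hS : Cfsg.IsRootSubgroupSet S) (hF : ∀ A ∈ S, ¬ Cfsg.IsIsolatedIn (Cfsg.FAdj S) S A) :
    Subgroup.upperCentralSeries G 2 = Subgroup.center G := by
  refine le_antisymm (fun g hg => ?_) ?_
  · rw [Subgroup.mem_upperCentralSeries_succ_iff, Subgroup.upperCentralSeries_one] at hg
    have hcomm : ∀ A ∈ S, ∀ a ∈ A, g * a = a * g := by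
      intro A hA a ha
      obtain ⟨B, hB, hAB⟩ : ∃ B ∈ S, Cfsg.IsRankOnePair A B := by
        by_contra hno
        push Not at hno
        exact hF A hA ⟨hA, fun B => ⟨fun h => hno B h.2.1 h.2.2,
          fun h => hno B h.1 (Cfsg.RankOnePair_symm h.2.2)⟩⟩
      by_contra hne
      have ha1 : a ≠ 1 := fun e => hne (by rw [e, mul_one, one_mul])
      have hz := Subgroup.mem_center_iff.1 (hg a)
      refine central_translate_not_root hS hA hB hAB ha ha1 (z := g * a * g⁻¹ * a⁻¹)
        (fun x _ => (hz x).symm) (fun e => hne (commutatorElement_eq_one_iff_mul_comm.1 e)) ?_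
      rw [inv_mul_cancel_right]
      exact ⟨fun e => ha1 (conj_eq_one_iff.1 e), _, hS.conj_mem A hA g,
        mem_conjBy.2 (by simpa [mul_assoc] using ha)⟩
    rw [Subgroup.mem_center_iff]
    intro x
    have hx : x ∈ (⨆ A ∈ S, A) := hS.generates ▸ Subgroup.mem_top x
    have hle : (⨆ A ∈ S, A) ≤ Subgroup.centralizer {g} :=
      iSup₂_le fun A hA a ha => Subgroup.mem_centralizer_singleton_iff.2 (hcomm A hA a ha).symm
    exact Subgroup.mem_centralizer_singleton_iff.1 (hle hx)
  · rw [← Subgroup.upperCentralSeries_one (G := G)]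
    exact Subgroup.upperCentralSeries_mono G (by norm_num)

end Cfsg.Agent.Timmesfeld
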