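import Cfsg.Agent.Lib.Timmesfeld.Basic
import Cfsg.Prelude.Def_Transfer
import Mathlib.GroupTheory.OrderOfElement

/-!
# Special rank one groups with abelian unipotent subgroups: powers
-/

set_option autoImplicit false

namespace Cfsg.Agent.Timmesfeld

variable {G : Type*} [Group G] {A B : Subgroup G}

/-- `b` is the partner of `a`. -/
structure Part (A B : Subgroup G) (a b : G) : Prop where
  mem_left : a ∈ A
  ne_left : a ≠ 1
  mem_right : b ∈ B
  ne_right : b ≠ 1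
  conj : Cfsg.conjBy A b⁻¹ = Cfsg.conjBy B a⁻¹

theorem Part.unique (h : Cfsg.IsRankOnePair A B) {a b b' : G} (h1 : Part A B a b) (h2 : Part A B a b') :
    b = b' :=
  inv_injective (conjBy_inj_right h (inv_mem h1.mem_right) (inv_mem h2.mem_right) (h1.conj.trans h2.conj.symm))

theorem Part.unique_left (h : Cfsg.IsRankOnePair A B) {a a' b : G} (h1 : Part A B a b) (h2 : Part A B a' b) :
    a = a' :=
  inv_injective (conjBy_inj_left h (inv_mem h1.mem_left) (inv_mem h2.mem_left) (h1.conj.symm.trans h2.conj))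

theorem Part.exists_right (h : Cfsg.IsRankOnePair A B) {a : G} (ha : a ∈ A) (ha1 : a ≠ 1) :
    ∃ b, Part A B a b := by
  obtain ⟨b, hb, hb1, he⟩ := h.cond_left a ha ha1
  exact ⟨b, ha, ha1, hb, hb1, he⟩

theorem Part.exists_left (h : Cfsg.IsRankOnePair A B) {b : G} (hb : b ∈ B) (hb1 : b ≠ 1) :
    ∃ a, Part A B a b := by
  obtain ⟨a, ha, ha1, he⟩ := h.cond_right b hb hb1
  exact ⟨a, ha, ha1, hb, hb1, he.symm⟩

/-- The braid relation and the swap. -/
theorem Part.braid (hs : Cfsg.IsSpecialRankOnePair A B) {a b : G} (h : Part A B a b) :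
    a * b⁻¹ * a = b⁻¹ * a * b⁻¹ := by
  have := hs.2 a h.mem_left h.ne_left b h.mem_right h.ne_right h.conj
  calc a * b⁻¹ * a = a * (b⁻¹ * a * b) * b⁻¹ := by group
    _ = a * (a⁻¹ * b⁻¹ * a) * b⁻¹ := by rw [this]
    _ = b⁻¹ * a * b⁻¹ := by group

theorem Part.conj_eq (hs : Cfsg.IsSpecialRankOnePair A B) {a b : G} (h : Part A B a b) :
    (a * b⁻¹ * a) * a * (a * b⁻¹ * a)⁻¹ = b⁻¹ := by
  rw [mul_inv_eq_iff_eq_mul]
  conv_lhs => rw [h.braid hs]
  group

theorem Part.conj_eq' (hs : Cfsg.IsSpecialRankOnePair A B) {a b : G} (h : Part A B a b) :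
    (a * b⁻¹ * a) * b⁻¹ * (a * b⁻¹ * a)⁻¹ = a := by
  rw [mul_inv_eq_iff_eq_mul]
  conv_rhs => rw [h.braid hs]
  group

theorem Part.inv (hs : Cfsg.IsSpecialRankOnePair A B) {a b : G} (h : Part A B a b) : Part A B a⁻¹ b⁻¹ := by
  refine ⟨inv_mem h.mem_left, inv_ne_one.2 h.ne_left, inv_mem h.mem_right, inv_ne_one.2 h.ne_right, ?_⟩
  set w := a * b⁻¹ * a with hw
  have hwx : w ∈ A ⊔ B := mul_mem (mul_mem (Subgroup.mem_sup_left h.mem_left)
    (Subgroup.mem_sup_right (inv_mem h.mem_right))) (Subgroup.mem_sup_left h.mem_left)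
  have ha : a ∈ Cfsg.conjBy B w := by
    have := inv_mem h.mem_right
    rw [mem_conjBy]
    conv => arg 2; arg 1; arg 2; rw [← h.conj_eq' hs]
    rw [← hw]
    simpa [mul_assoc] using this
  have hBw : Cfsg.conjBy B w = A :=
    eq_left_of_fixed hs.1 h.mem_left h.ne_left (conj_mem (Cfsg.Agent.Timmesfeld.mem_right hs.1) hwx)
      (conjBy_self ha)
  rw [hw, h.braid hs, ← conjBy_conjBy, conjBy_self (inv_mem h.mem_right), ← conjBy_conjBy] at hBw
  rw [inv_inv, inv_inv]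
  conv_lhs => rw [← hBw]
  rw [conjBy_conjBy, mul_inv_cancel, conjBy_one]

theorem Part.pow_eq_one (hs : Cfsg.IsSpecialRankOnePair A B) {a b : G} (h : Part A B a b) (k : ℕ) :
    b ^ k = 1 ↔ a ^ k = 1 := by
  have := congrArg (· ^ k) (h.conj_eq hs)
  simp only [conj_pow] at this
  rw [← inv_eq_one (a := b ^ k), ← inv_pow, ← this, conj_eq_one_iff]

/-- The `n`-th power of the partner of `x^n` is the partner of `x`. -/
theorem Part.pow_partner (hs : Cfsg.IsSpecialRankOnePair A B) (hB : ∀ u ∈ B, ∀ v ∈ B, u * v = v * u) :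
    ∀ (n : ℕ) {x b g : G}, Part A B x b → Part A B (x ^ n) g → g ^ n = b := by
  intro n
  induction n with
  | zero => intro x b g _ hg; exact absurd (pow_zero x) hg.ne_left
  | succ m ih =>
    intro x b g hx hg
    by_cases hm : x ^ m = 1
    · rw [pow_succ x, hm, one_mul] at hg
      obtain rfl := hg.unique hs.1 hx
      rw [pow_succ, (hx.pow_eq_one hs m).2 hm, one_mul]
    obtain ⟨y, hy⟩ := Part.exists_right hs.1 (pow_mem hx.mem_left m) hm
    have hym := ih hx hy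
    set X := x ^ m with hX
    have hsp := hs.2 X hy.mem_left hy.ne_left y hy.mem_right hy.ne_right hy.conj
    have hpow : X⁻¹ * (y ^ m)⁻¹ = y⁻¹ * X ^ m * y * X⁻¹ := by
      have h1 : X⁻¹ * (y⁻¹) ^ m * X⁻¹⁻¹ = (X⁻¹ * y⁻¹ * X⁻¹⁻¹) ^ m := conj_pow.symm
      rw [inv_inv, ← hsp] at h1
      have h2 : (y⁻¹ * X * y) ^ m = y⁻¹ * X ^ m * y := by
        have := conj_pow (a := y⁻¹) (b := X) (i := m)
        simpa only [inv_inv] using this
      rw [← h2, ← h1, inv_pow]; group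
    have e : Cfsg.conjBy B (x ^ (m + 1))⁻¹ = Cfsg.conjBy (Cfsg.conjBy B ((x ^ (m + 1)) ^ m)) y⁻¹ := by
      conv_lhs => rw [pow_succ', mul_inv_rev, ← conjBy_conjBy, ← hx.conj, conjBy_conjBy, ← hX, ← hym,
        hpow, show y⁻¹ * X ^ m * y * X⁻¹ = y⁻¹ * X ^ m * (y * X⁻¹) by group, ← conjBy_conjBy,
        ← conjBy_conjBy A X⁻¹ y, conjBy_self (inv_mem hy.mem_left)]
      have h3 : Cfsg.conjBy A y = Cfsg.conjBy B X := by simpa only [inv_inv] using (hy.inv hs).conj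
      rw [h3, conjBy_conjBy, conjBy_conjBy, mul_assoc]
      congr 2
      rw [hX, ← pow_mul, ← pow_mul, ← pow_add]
      congr 1; ring
    have hne : (x ^ (m + 1)) ^ m ≠ 1 := by
      intro e1
      rw [e1, conjBy_one, conjBy_self (inv_mem hy.mem_right)] at e
      exact hg.ne_left (inv_eq_one.1 (eq_one_of_normalizes hs.1 (inv_mem hg.mem_left) e))
    obtain ⟨g', hg'⟩ := Part.exists_right hs.1 (pow_mem hg.mem_left m) hne
    have hgm := ih hg hg'
    have h4 : Cfsg.conjBy B ((x ^ (m + 1)) ^ m) = Cfsg.conjBy A g' := by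
      simpa only [inv_inv] using (hg'.inv hs).conj.symm
    rw [h4, conjBy_conjBy, ← hg.conj] at e
    have h5 : g⁻¹ = y⁻¹ * g' := conjBy_inj_right hs.1 (inv_mem hg.mem_right)
      (mul_mem (inv_mem hy.mem_right) hg'.mem_right) e
    have h6 : g = g'⁻¹ * y := by rw [← inv_inv g, h5]; group
    have hc : Commute g'⁻¹ y := hB _ (inv_mem hg'.mem_right) _ hy.mem_right
    have h7 : g ^ m = g⁻¹ * b := by
      conv_lhs => rw [h6, hc.mul_pow, inv_pow, hgm, hym]
    rw [pow_succ', h7, mul_inv_cancel_left]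

/-- An elementary abelian or uniquely divisible unipotent subgroup. -/
theorem exponent_cases (hs : Cfsg.IsSpecialRankOnePair A B) (hab : Cfsg.HasAbelianUnipotents A B) :
    (∃ p : ℕ, p.Prime ∧ Cfsg.IsElementaryAbelian p A) ∨
      ((∀ a ∈ A, a ≠ 1 → ¬ IsOfFinOrder a) ∧ ∀ a ∈ A, ∀ n : ℕ, 0 < n → ∃ c ∈ A, c ^ n = a) := by
  have := hab.1
  have := hab.2
  have hB : ∀ u ∈ B, ∀ v ∈ B, u * v = v * u := fun u hu v hv =>
    congrArg Subtype.val (mul_comm' (⟨u, hu⟩ : B) ⟨v, hv⟩)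
  by_cases hfin : ∀ a ∈ A, a ≠ 1 → ¬ IsOfFinOrder a
  · refine Or.inr ⟨hfin, fun a ha n hn => ?_⟩
    by_cases ha1 : a = 1
    · exact ⟨1, one_mem _, by rw [one_pow, ha1]⟩
    -- roots in `B`, carried to `A`
    obtain ⟨b, hb⟩ := Part.exists_right hs.1 ha ha1
    obtain ⟨g, hg⟩ := Part.exists_right hs.1 (pow_mem ha n)
      (fun e => hfin a ha ha1 (isOfFinOrder_iff_pow_eq_one.2 ⟨n, hn, e⟩))
    set w := a * b⁻¹ * a with hw
    refine ⟨w * g⁻¹ * w⁻¹, ?_, ?_⟩
    · have hwA : Cfsg.conjBy B w = A := by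
        rw [hw, hb.braid hs, ← conjBy_conjBy, conjBy_self (inv_mem hb.mem_right), ← conjBy_conjBy,
          show Cfsg.conjBy B a = Cfsg.conjBy A b by simpa only [inv_inv] using (hb.inv hs).conj.symm,
          conjBy_conjBy, inv_mul_cancel, conjBy_one]
      conv_lhs => rw [← hwA]
      rw [mem_conjBy]
      simpa [mul_assoc] using hg.mem_right
    · rw [conj_pow, inv_pow, Part.pow_partner hs hB n hb hg]
      exact hb.conj_eq' hs
  push Not at hfin
  obtain ⟨a₀, ha₀, ha₀1, hof⟩ := hfin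
  obtain ⟨p, hp, ⟨m, hm⟩⟩ := Nat.exists_prime_and_dvd (fun e => ha₀1 (orderOf_eq_one_iff.1 e))
  have hmp : 0 < m := Nat.pos_of_ne_zero fun e => hof.orderOf_pos.ne' (by rw [hm, e, mul_zero])
  have ha1 : a₀ ^ m ≠ 1 := pow_ne_one_of_lt_orderOf hmp.ne' (by
    rw [hm]; exact lt_mul_of_one_lt_left hmp hp.one_lt)
  have hap : (a₀ ^ m) ^ p = 1 := by rw [← pow_mul, mul_comm, ← hm, pow_orderOf_eq_one]
  refine Or.inl ⟨p, hp, hab.1, fun x hx => ?_⟩
  by_contra hxp
  have hcA : Commute x (a₀ ^ m) := congrArg Subtype.val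
    (mul_comm' (⟨x, hx⟩ : A) ⟨a₀ ^ m, pow_mem ha₀ m⟩)
  have hxa : (x * a₀ ^ m) ^ p = x ^ p := by rw [hcA.mul_pow, hap, mul_one]
  have hx1 : x ≠ 1 := fun e => hxp (by rw [e, one_pow])
  have hxa1 : x * a₀ ^ m ≠ 1 := fun e => hxp (by rw [← hxa, e, one_pow])
  obtain ⟨b, hb⟩ := Part.exists_right hs.1 hx hx1
  obtain ⟨b', hb'⟩ := Part.exists_right hs.1 (mul_mem hx (pow_mem ha₀ m)) hxa1
  obtain ⟨g, hg⟩ := Part.exists_right hs.1 (pow_mem hx p) hxp
  have e1 := Part.pow_partner hs hB p hb hg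
  have e2 := Part.pow_partner hs hB p hb' (hxa.symm ▸ hg)
  rw [e1] at e2
  rw [← e2] at hb'
  exact ha1 (mul_eq_left.1 (hb'.unique_left hs.1 hb))

end Cfsg.Agent.Timmesfeld
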