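import Cfsg.Agent.Lib.Timmesfeld.Component

/-!
# Non-degenerate classes: special pairs; homomorphic images
-/

set_option autoImplicit false

namespace Cfsg.Agent.Timmesfeld

variable {G : Type*} [Group G] {S : Set (Subgroup G)}

/-- A rank one pair `(X, D)` is special if `D` is in the commutator case with a member on a line with `X`. -/
theorem special_of_line (hS : Cfsg.IsRootSubgroupSet S) {X D Z : Subgroup G} (hX : X ∈ S) (hD : D ∈ S)
    (h : Cfsg.IsRankOnePair X D) (hZ : Z ∈ S) (hcZ : ∀ x ∈ X, ∀ z ∈ Z, x * z = z * x)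
    (hline : ∀ x ∈ X, x ≠ 1 → ∀ z ∈ Z, z ≠ 1 → x * z ∈ Cfsg.rootElements S)
    (hnr : ¬ Cfsg.IsRankOnePair D Z) : Cfsg.IsSpecialRankOnePair X D := by
  refine ⟨h, fun a ha ha1 b hb hb1 he => ?_⟩
  obtain ⟨hDZ, hXW, -, hkey⟩ := line_bracket hS hX hD h hZ hcZ hline hnr
  obtain ⟨hT, hDW, hZW⟩ := (⟨hDZ.1, commCase_comm hDZ⟩ : _ ∧ _ ∧ _)
  have hXT := (commCase_comm hXW).1
  -- the element `a` attached to `b⁻¹`
  obtain ⟨a', ha', -, he', hk⟩ := hkey b⁻¹ (inv_mem hb) (inv_ne_one.2 hb1)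
  obtain rfl : a = a' := by
    have := conjBy_inj_left h (inv_mem ha) (inv_mem ha') (he.symm.trans he'.symm)
    exact inv_injective this
  clear ha' he' hkey
  set b' := a * b⁻¹ * a * b * a⁻¹ with hb'
  have hb'D : b' ∈ D := by
    have h1 : b⁻¹ * a * b ∈ Cfsg.conjBy X b⁻¹ := mem_conjBy.2 (by simpa [mul_assoc] using ha)
    rw [he] at h1
    have := mem_conjBy.1 h1
    simpa [hb', mul_assoc] using this
  by_contra hne
  have hc1 : b * b' ≠ 1 := fun e => hne (by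
    have e' : b' = b⁻¹ := eq_inv_of_mul_eq_one_right e
    conv_rhs => rw [← e', hb']
    group)
  -- the element `b * b'` centralizes `Z`
  have hfix : ∀ z ∈ Z, (b * b') * z = z * (b * b') := by
    intro z hz
    set w := b * z * b⁻¹ * z⁻¹ with hw
    have hwW : w ∈ ⁅D, Z⁆ := Subgroup.commutator_mem_commutator hb hz
    have hwm : ∀ v ∈ Z, v * w = w * v := fun v hv => hZW v hv w hwW
    -- `[a, w] = z`
    have haw : a * w * a⁻¹ = z * w := by
      have h1 := hk z hz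
      have hu : b⁻¹ * z * b⁻¹⁻¹ * z⁻¹ = w⁻¹ := by
        calc b⁻¹ * z * b⁻¹⁻¹ * z⁻¹ = b⁻¹ * (w⁻¹ * b) := by rw [hw]; group
          _ = b⁻¹ * (b * w⁻¹) := by rw [hDW b hb _ (inv_mem hwW)]
          _ = w⁻¹ := by rw [inv_mul_cancel_left]
      rw [hu, inv_inv] at h1
      have h2 : a * w * a⁻¹ = (a * w⁻¹ * a⁻¹ * w * w⁻¹)⁻¹ := by group
      rw [h1] at h2
      rw [h2, mul_inv_rev, inv_inv, inv_inv]
      exact (hwm z hz).symm
    have hb1' : b⁻¹ * z * b = w⁻¹ * z := by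
      calc b⁻¹ * z * b = b⁻¹ * (w⁻¹ * b) * z := by rw [hw]; group
        _ = b⁻¹ * (b * w⁻¹) * z := by rw [hDW b hb _ (inv_mem hwW)]
        _ = _ := by rw [inv_mul_cancel_left]
    have ha0 : a * z * a⁻¹ = z := by rw [hcZ a ha z hz, mul_inv_cancel_right]
    have hb2 : b * w * b⁻¹ = w := by rw [hDW b hb w hwW, mul_inv_cancel_right]
    have hb3 : b⁻¹ * w * b = w := by
      rw [mul_assoc, ← hDW b hb w hwW, inv_mul_cancel_left]
    have e1 : a * (b * (a⁻¹ * z * a) * b⁻¹) * a⁻¹ = z * w * z := by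
      rw [show a⁻¹ * z * a = z by rw [mul_assoc, ← hcZ a ha z hz, inv_mul_cancel_left],
        show b * z * b⁻¹ = w * z by rw [hw]; group,
        show a * (w * z) * a⁻¹ = (a * w * a⁻¹) * (a * z * a⁻¹) by group, haw, ha0]
    have e2 : b⁻¹ * (z * w * z) * b = w⁻¹ * z * z := by
      rw [show b⁻¹ * (z * w * z) * b = (b⁻¹ * z * b) * (b⁻¹ * w * b) * (b⁻¹ * z * b) by group, hb1', hb3]
      group
    have e3 : a * (w⁻¹ * z * z) * a⁻¹ = w⁻¹ * z := by
      rw [show a * (w⁻¹ * z * z) * a⁻¹ = (a * w * a⁻¹)⁻¹ * (a * z * a⁻¹) * (a * z * a⁻¹) by group, haw, ha0]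
      group
    have e4 : b' * z * b'⁻¹ = w⁻¹ * z := by
      rw [← e3, ← e2, ← e1, hb']; group
    have e5 : (b * b') * z * (b * b')⁻¹ = z := by
      calc (b * b') * z * (b * b')⁻¹ = b * (b' * z * b'⁻¹) * b⁻¹ := by group
        _ = (b * w⁻¹ * b⁻¹) * (b * z * b⁻¹) := by rw [e4]; group
        _ = w⁻¹ * (w * z) := by
            rw [hDW b hb _ (inv_mem hwW), mul_inv_cancel_right, show b * z * b⁻¹ = w * z by rw [hw]; group]
        _ = z := inv_mul_cancel_left _ _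
    exact mul_inv_eq_iff_eq_mul.1 e5
  refine hS.ne_bot _ hT ?_
  rw [← hDZ.2.2.1 _ (mul_mem hb hb'D) hc1, Subgroup.closure_eq_bot_iff]
  rintro _ ⟨z, hz, rfl⟩
  show b * b' * z * (b * b')⁻¹ * z⁻¹ = 1
  rw [hfix z hz, mul_inv_cancel_right, mul_inv_cancel]

theorem nondegenerate_special (hS : Cfsg.IsRootSubgroupClass S) (hnd : Cfsg.IsNondegenerateRootSet S)
    {A B : Subgroup G} (hA : A ∈ S) (hB : B ∈ Cfsg.rankOnePartners S A) :
    (∃ C ∈ Cfsg.linePartners S A, C ∈ Cfsg.commutatorPartners S B) ∧ Cfsg.IsSpecialRankOnePair A B := by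
  obtain ⟨hS, -, hconj⟩ := hS
  obtain ⟨hBS, hAB⟩ := hB
  obtain ⟨A₁, hA₁, E₁, hE₁, h₁⟩ := hnd.2.2
  obtain ⟨g, hg⟩ := hconj A₁ hA₁ A hA
  obtain ⟨E, hE, hC⟩ : ∃ E ∈ S, ⁅A, E⁆ ∈ S := by
    refine ⟨_, hS.conj_mem E₁ hE₁ g, ?_⟩
    rw [hg, ← Subgroup.map_commutator]
    exact hS.conj_mem _ h₁.1 g
  have hAE := commCase_of_bracket_mem hS hA hE hC
  have hpartA : ∀ X ∈ S, ∃ D ∈ S, Cfsg.IsRankOnePair X D := fun X hX => by
    obtain ⟨k, rfl⟩ := hconj A hA X hX
    exact ⟨_, hS.conj_mem B hBS k, rankPair_conj hAB k⟩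
  obtain ⟨hmem, hpart, -, -⟩ := line_description hS hA hE hBS hAB hC
  set Z := ⁅A, E⁆ with hZdef
  have hcAZ := (commCase_comm hAE).1
  have hAZ : A ≠ Z := by
    intro e
    refine hS.ne_bot Z hC ?_
    rw [hZdef, bracket_eq_bot]
    exact fun a ha b hb => ((commCase_comm hAE).2 b hb a (e ▸ ha : a ∈ Z)).symm
  have hline : ∀ x ∈ A, x ≠ 1 → ∀ z ∈ Z, z ≠ 1 → x * z ∈ Cfsg.rootElements S := fun x hx hx1 z hz _ => by
    obtain ⟨e, he, hee⟩ := commCase_line hS hA hAE hx hx1 hz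
    rw [← hee]
    exact rootElements_conj hS (mem_rootElements hA hx hx1) e
  -- it suffices to find a member on the line that is no partner of `B`
  suffices hgood : ∃ C ∈ Cfsg.membersIn S (A ⊔ Z), C ≠ A ∧ ¬ Cfsg.IsRankOnePair B C by
    obtain ⟨C, ⟨hC', hCle⟩, hCA, hCB⟩ := hgood
    have hcAC : ∀ x ∈ A, ∀ c ∈ C, x * c = c * x := fun x hx c hc =>
      commute_sup (fun a ha => comm_left hS hA x hx a ha) (fun z hz => hcAZ x hx z hz) c (hCle hc)
    have hsup : A ⊔ C = A ⊔ Z := by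
      refine le_antisymm (sup_le le_sup_left hCle) (sup_le le_sup_left ?_)
      have hC'' : C ∈ (fun b : G => Cfsg.conjBy A b) '' (E : Set G) ∪ {Z} := hmem ▸ ⟨hC', hCle⟩
      rcases hC'' with ⟨e, he, rfl⟩ | rfl
      · have he1 : e ≠ 1 := fun h1 => hCA (by show Cfsg.conjBy A e = A; rw [h1, conjBy_one])
        rw [hZdef, ← hAE.2.2.2 e he he1, Subgroup.closure_le]
        rintro _ ⟨a, ha, rfl⟩
        show a * e * a⁻¹ * e⁻¹ ∈ A ⊔ Cfsg.conjBy A e
        rw [show a * e * a⁻¹ * e⁻¹ = a * (e * a⁻¹ * e⁻¹) by group]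
        exact mul_mem (Subgroup.mem_sup_left ha) (Subgroup.mem_sup_right ⟨a⁻¹, inv_mem ha, rfl⟩)
      · exact le_sup_right
    have hlineC : ∀ x ∈ A, x ≠ 1 → ∀ c ∈ C, c ≠ 1 → x * c ∈ Cfsg.rootElements S := by
      intro x hx hx1 c hc hc1
      have hxc : x * c ≠ 1 := fun e => hCA (eq_of_mem_inter hS hA hBS hAB hC' hx hx1 (by
        rw [eq_inv_of_mul_eq_one_left e]; exact inv_mem hc))
      obtain ⟨M, hM, hm⟩ := hpart.2.1 _ (mul_mem (Subgroup.mem_sup_left hx) (hCle hc)) hxc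
      exact mem_rootElements hM.1 hm hxc
    obtain ⟨hBC, -⟩ := line_bracket hS hA hBS hAB hC' hcAC hlineC hCB
    exact ⟨⟨C, ⟨⟨hC', hCA, bracket_eq_bot.2 hcAC⟩, hsup ▸ hpart⟩, hC', hBC.1⟩,
      special_of_line hS hA hBS hAB hC' hcAC hlineC hCB⟩
  by_cases hBZ : Cfsg.IsRankOnePair B Z
  swap
  · exact ⟨Z, ⟨hC, le_sup_right⟩, hAZ.symm, hBZ⟩
  -- conjugates of `B` by elements of `A` and `Z` inside the line of `b⁻¹`
  obtain ⟨b, hb, hb1⟩ := exists_ne_one (hS.ne_bot B hBS)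
  obtain ⟨a, ha, ha1, hea⟩ := hAB.cond_right b hb hb1
  obtain ⟨z, hz, hz1, hez⟩ := hBZ.cond_left b hb hb1
  have hz0 : a * z⁻¹ ≠ 1 := fun e => by
    rw [mul_inv_eq_one] at e
    exact hAZ (eq_of_mem_inter hS hA hBS hAB hC ha ha1 (e ▸ hz)).symm
  have hmz : a * z⁻¹ ∈ A ⊔ Z := mul_mem (Subgroup.mem_sup_left ha) (Subgroup.mem_sup_right (inv_mem hz))
  obtain ⟨C, hCm, hCz⟩ := hpart.2.1 _ hmz hz0
  refine ⟨C, hCm, fun e => ?_, fun hr => ?_⟩
  · rw [e] at hCz
    have hzA : z ∈ A := by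
      have := mul_mem (inv_mem ha) hCz
      rw [inv_mul_cancel_left] at this
      simpa using inv_mem this
    exact hAZ (eq_of_mem_inter hS hA hBS hAB hC hzA hz1 hz).symm
  -- `B` and its conjugate by `a * z⁻¹` commute
  have hcomm : ∀ u ∈ Cfsg.conjBy B a⁻¹, ∀ v ∈ Cfsg.conjBy B z⁻¹, u * v = v * u := by
    intro u hu v hv
    rw [hea] at hu
    rw [hez] at hv
    obtain ⟨x, hx, rfl⟩ := hu
    obtain ⟨y, hy, rfl⟩ := hv
    rw [← map_mul, ← map_mul, hcAZ x hx y hy]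
  have hcomm' : ∀ u ∈ Cfsg.conjBy B (a * z⁻¹), ∀ v ∈ B, u * v = v * u := by
    intro u hu v hv
    have h1 : a⁻¹ * v * a ∈ Cfsg.conjBy B a⁻¹ := mem_conjBy.2 (by simpa [mul_assoc] using hv)
    have h2 : a⁻¹ * u * a ∈ Cfsg.conjBy B z⁻¹ := by
      have := mem_conjBy.1 hu
      exact mem_conjBy.2 (by simpa [mul_assoc] using this)
    have := hcomm _ h1 _ h2
    calc u * v = a * ((a⁻¹ * u * a) * (a⁻¹ * v * a)) * a⁻¹ := by group
      _ = a * ((a⁻¹ * v * a) * (a⁻¹ * u * a)) * a⁻¹ := by rw [this]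
      _ = v * u := by group
  have hmemU : Cfsg.conjBy B (a * z⁻¹) ∈ Cfsg.unipotentSubgroups B C :=
    ⟨_, Subgroup.mem_sup_right hCz, rfl⟩
  obtain ⟨v, hv, hv1⟩ := exists_ne_one (hS.ne_bot B hBS)
  have hfix := eq_left_of_fixed hr hv hv1 hmemU
    (conjBy_of_centralizes fun u hu => (hcomm' u hu v hv).symm)
  exact hz0 (eq_one_of_normalizes' hr hCz hfix)

theorem image_root_set {H : Type*} [Group H] (hS : Cfsg.IsRootSubgroupSet S)
    (hc : Cfsg.IsConnectedFamily (Cfsg.FAdj S) S) (f : G →* H) (hf : Function.Surjective f) :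
    (Cfsg.IsRootSubgroupSet ((fun A : Subgroup G => A.map f) '' S) ∧
      Cfsg.IsConnectedFamily (Cfsg.FAdj ((fun A : Subgroup G => A.map f) '' S)) ((fun A : Subgroup G => A.map f) '' S)) ∨
    ∃ A ∈ S, A.map f = ⊤ := by
  have hgen : (⨆ A ∈ S, A.map f) = ⊤ := by
    rw [← Subgroup.map_top_of_surjective f hf, ← hS.generates]
    simp only [Subgroup.map_iSup]
  by_cases hbot : ∃ A ∈ S, A.map f = ⊥
  · obtain ⟨A, hA, hAf⟩ := hbot
    right
    refine ⟨A, hA, ?_⟩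
    rw [hAf, eq_comm, eq_bot_iff, ← hgen]
    refine iSup₂_le fun B hB => ?_
    have key : ∀ B, Relation.ReflTransGen (Cfsg.FAdj S) A B → B.map f = ⊥ := by
      intro B hr
      induction hr with
      | refl => exact hAf
      | tail _ hs ih =>
        obtain ⟨x, -, hx⟩ := mem_right hs.2.2
        rw [hx, Subgroup.eq_bot_iff_forall]
        rintro _ ⟨_, ⟨y, hy, rfl⟩, rfl⟩
        have : f y = 1 := (Subgroup.eq_bot_iff_forall _).1 ih _ ⟨y, hy, rfl⟩
        show f (x * y * x⁻¹) = 1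
        rw [map_mul, map_mul, this, mul_one, ← map_mul, mul_inv_cancel, map_one]
    exact (key B (hc A hA B hB)).le
  push Not at hbot
  left
  have hmapconj : ∀ (X : Subgroup G) (g : G), (Cfsg.conjBy X g).map f = Cfsg.conjBy (X.map f) (f g) := by
    intro X g
    ext y
    constructor
    · rintro ⟨_, ⟨x, hx, rfl⟩, rfl⟩
      exact ⟨f x, ⟨x, hx, rfl⟩, show f g * f x * (f g)⁻¹ = f (g * x * g⁻¹) by rw [map_mul, map_mul, map_inv]⟩
    · rintro ⟨_, ⟨x, hx, rfl⟩, rfl⟩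
      exact ⟨_, ⟨x, hx, rfl⟩, show f (g * x * g⁻¹) = f g * f x * (f g)⁻¹ by rw [map_mul, map_mul, map_inv]⟩
  have hpair : ∀ A ∈ S, ∀ B ∈ S, Cfsg.IsRankOnePair A B → A.map f ≠ B.map f →
      Cfsg.IsRankOnePair (A.map f) (B.map f) := by
    intro A hA B hB h hne
    have key : ∀ {A B : Subgroup G}, Cfsg.RankOneCondition A B → A.map f ≠ B.map f →
        Cfsg.RankOneCondition (A.map f) (B.map f) := by
      intro A B hc hne x hx hx1
      obtain ⟨a, ha, rfl⟩ := hx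
      obtain ⟨b, hb, -, he⟩ := hc a ha fun e => hx1 (by rw [e, map_one])
      have he' := congrArg (Subgroup.map f) he
      rw [hmapconj, hmapconj, map_inv, map_inv] at he'
      refine ⟨f b, ⟨b, hb, rfl⟩, fun e => hne ?_, he'⟩
      rw [e, inv_one, conjBy_one] at he'
      calc A.map f = Cfsg.conjBy (A.map f) (f a) := (conjBy_self (A := A.map f) ⟨a, ha, rfl⟩).symm
        _ = B.map f := by rw [he', conjBy_conjBy, mul_inv_cancel, conjBy_one]
    have hnil : ∀ X : Subgroup G, Group.IsNilpotent X → Group.IsNilpotent (X.map f) := fun X _ =>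
      Group.nilpotent_of_surjective (f.subgroupMap X) (f.subgroupMap_surjective X)
    exact ⟨hne, hnil _ h.nilpotent_left, hnil _ h.nilpotent_right, key h.cond_left hne,
      key h.cond_right hne.symm⟩
  constructor
  · refine ⟨?_, ?_, ?_, ?_, ?_⟩
    · rintro _ ⟨A, hA, rfl⟩
      refine ⟨⟨fun x y => Subtype.ext ?_⟩⟩
      obtain ⟨a, ha, hax⟩ := x.2
      obtain ⟨b, hb, hby⟩ := y.2
      show x.1 * y.1 = y.1 * x.1
      rw [← hax, ← hby, ← map_mul, ← map_mul, comm_left hS hA a ha b hb]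
    · rintro _ ⟨A, hA, rfl⟩; exact hbot A hA
    · rw [iSup_image]; exact hgen
    · rintro _ ⟨A, hA, rfl⟩ g
      obtain ⟨x, rfl⟩ := hf g
      exact ⟨_, hS.conj_mem A hA x, hmapconj A x⟩
    · rintro _ ⟨A, hA, rfl⟩ _ ⟨B, hB, rfl⟩
      rcases hS.pair A hA B hB with e | h | e
      · left; rw [← Subgroup.map_commutator, e, Subgroup.map_bot]
      · by_cases hne : A.map f = B.map f
        · left
          show ⁅A.map f, B.map f⁆ = ⊥
          rw [← hne, bracket_eq_bot]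
          rintro _ ⟨a, ha, rfl⟩ _ ⟨b, hb, rfl⟩
          rw [← map_mul, ← map_mul, comm_left hS hA a ha b hb]
        · exact Or.inr (Or.inl (hpair A hA B hB h hne))
      · right; right
        obtain ⟨hC, hcent, h1, h2⟩ := e
        show Cfsg.RootCommutatorCase _ (A.map f) (B.map f)
        unfold Cfsg.RootCommutatorCase
        rw [← Subgroup.map_commutator, ← Subgroup.map_sup]
        refine ⟨⟨_, hC, rfl⟩, ?_, ?_, ?_⟩
        · rintro _ ⟨c, hc, rfl⟩ _ ⟨x, hx, rfl⟩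
          rw [← map_mul, ← map_mul, hcent c hc x hx]
        · rintro _ ⟨a, ha, rfl⟩ ha1
          rw [← h1 a ha (fun e => ha1 (by rw [e, map_one])), MonoidHom.map_closure, Subgroup.coe_map,
            Set.image_image, Set.image_image]
          simp only [map_mul, map_inv]
        · rintro _ ⟨b, hb, rfl⟩ hb1
          rw [← h2 b hb (fun e => hb1 (by rw [e, map_one])), MonoidHom.map_closure, Subgroup.coe_map,
            Set.image_image, Set.image_image]
          simp only [map_mul, map_inv]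
  · rintro _ ⟨A, hA, rfl⟩ _ ⟨B, hB, rfl⟩
    have key : ∀ B, Relation.ReflTransGen (Cfsg.FAdj S) A B →
        Relation.ReflTransGen (Cfsg.FAdj ((fun A : Subgroup G => A.map f) '' S)) (A.map f) (B.map f) := by
      intro B hr
      induction hr with
      | refl => exact .refl
      | @tail X Y _ hs ih =>
        by_cases hne : X.map f = Y.map f
        · rw [← hne]; exact ih
        · exact ih.tail ⟨⟨X, hs.1, rfl⟩, ⟨Y, hs.2.1, rfl⟩, hpair X hs.1 Y hs.2.1 hs.2.2 hne⟩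
    exact key B (hc A hA B hB)

end Cfsg.Agent.Timmesfeld
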